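import Cfsg.Agent.Lib.Char.Complete
import Cfsg.Agent.Lib.Char.Induced
import Cfsg.Agent.Lib.Char.Virtual
import Cfsg.Agent.Lib.Char.Twist
import Cfsg.Prelude.Def_Blocks

/-!
# Characters of subgroups as functions on the ambient group
-/

set_option autoImplicit false
set_option linter.unusedSectionVars false

namespace CfsgLib.RelMcKay

open Cfsg
open scoped ComplexConjugate

attribute [local instance] Classical.propDecidable

universe u

variable {G : Type u} [Group G] [Fintype G]

/-- The elements of a subgroup as a finset. -/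
noncomputable def mems (H : Subgroup G) : Finset G := Finset.univ.filter (fun x => x ∈ H)

theorem mem_mems {H : Subgroup G} {x : G} : x ∈ mems H ↔ x ∈ H := by simp [mems]

theorem card_mems (H : Subgroup G) : (mems H).card = Nat.card H := by
  rw [Nat.card_eq_fintype_card, mems, ← Fintype.card_subtype]

theorem sum_mems {α : Type*} [AddCommMonoid α] (H : Subgroup G) (F : G → α) :
    ∑ x ∈ mems H, F x = ∑ x : H, F x :=
  Finset.sum_subtype (mems H) (fun _ => mem_mems) F

/-- The inner product of two functions on a subgroup. -/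
noncomputable def inn (H : Subgroup G) (f g : G → ℂ) : ℂ :=
  (Nat.card H : ℂ)⁻¹ * ∑ x ∈ mems H, f x * conj (g x)

theorem inn_eq (H : Subgroup G) (f g : G → ℂ) :
    inn H f g = Cfsg.classInner (fun x : H => f x) (fun x : H => g x) := by
  rw [inn, Cfsg.classInner, sum_mems]

theorem inn_congr {H : Subgroup G} {f f' g g' : G → ℂ} (hf : ∀ x ∈ H, f x = f' x)
    (hg : ∀ x ∈ H, g x = g' x) : inn H f g = inn H f' g' := by
  unfold inn
  congr 1
  refine Finset.sum_congr rfl fun x hx => ?_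
  rw [hf x (mem_mems.1 hx), hg x (mem_mems.1 hx)]

theorem inn_conj_symm (H : Subgroup G) (f g : G → ℂ) : conj (inn H f g) = inn H g f := by
  rw [inn_eq, inn_eq, Char.classInner_conj_symm]

theorem inn_sum_left {ι : Type*} (H : Subgroup G) (s : Finset ι) (c : ι → ℂ) (a : ι → G → ℂ)
    (g : G → ℂ) {f : G → ℂ} (hf : ∀ x ∈ H, f x = ∑ i ∈ s, c i * a i x) :
    inn H f g = ∑ i ∈ s, c i * inn H (a i) g := by
  rw [inn_congr (f' := fun x => ∑ i ∈ s, c i * a i x) (g' := g) hf fun _ _ => rfl]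
  unfold inn
  simp only [Finset.sum_mul, Finset.mul_sum]
  rw [Finset.sum_comm]
  refine Finset.sum_congr rfl fun i _ => ?_
  exact Finset.sum_congr rfl fun x _ => by ring

/-- An irreducible character of a subgroup, extended by zero. -/
structure IrrOn (H : Subgroup G) (f : G → ℂ) : Prop where
  irr : Cfsg.IsIrrCharacter H (fun x : H => f x)
  supp : ∀ x, x ∉ H → f x = 0

/-- The irreducible characters of a subgroup, extended by zero. -/
noncomputable def irrs (H : Subgroup G) : Finset (G → ℂ) :=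
  Finset.univ.image fun χ : IrrCharacter H => extendByZero H (χ : H → ℂ)

theorem mem_irrs {H : Subgroup G} {f : G → ℂ} : f ∈ irrs H ↔ IrrOn H f := by
  constructor
  · intro hf
    obtain ⟨χ, -, rfl⟩ := Finset.mem_image.1 hf
    refine ⟨?_, fun x hx => Char.extendByZero_of_notMem H _ hx⟩
    convert χ.2 using 2
    rw [Char.extendByZero_coe]
  · intro hf
    refine Finset.mem_image.2 ⟨⟨_, hf.irr⟩, Finset.mem_univ _, funext fun x => ?_⟩
    by_cases hx : x ∈ H
    · rw [Char.extendByZero_apply_mem H _ hx]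
    · rw [Char.extendByZero_of_notMem H _ hx, hf.supp x hx]

theorem extend_injective (H : Subgroup G) :
    Function.Injective fun χ : IrrCharacter H => extendByZero H (χ : H → ℂ) := fun a b h => by
  refine Subtype.ext (funext fun x => ?_)
  have := congrFun h (x : G)
  simpa [Char.extendByZero_coe] using this

theorem sum_irrs {α : Type*} [AddCommMonoid α] (H : Subgroup G) (F : (G → ℂ) → α) :
    ∑ f ∈ irrs H, F f = ∑ χ : IrrCharacter H, F (extendByZero H (χ : H → ℂ)) :=
  Finset.sum_image fun _ _ _ _ h => extend_injective H h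

theorem IrrOn.ext {H : Subgroup G} {f g : G → ℂ} (hf : IrrOn H f) (hg : IrrOn H g)
    (h : ∀ x ∈ H, f x = g x) : f = g := by
  funext x
  by_cases hx : x ∈ H
  · exact h x hx
  · rw [hf.supp x hx, hg.supp x hx]

theorem IrrOn.inn_self {H : Subgroup G} {f : G → ℂ} (hf : IrrOn H f) : inn H f f = 1 := by
  rw [inn_eq]; exact Char.classInner_irr_self hf.irr

theorem IrrOn.inn_ne {H : Subgroup G} {f g : G → ℂ} (hf : IrrOn H f) (hg : IrrOn H g)
    (hne : f ≠ g) : inn H f g = 0 := by
  rw [inn_eq]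
  exact Char.classInner_irr_of_ne hf.irr hg.irr fun h => hne (hf.ext hg fun x hx => congrFun h ⟨x, hx⟩)

theorem IrrOn.eq_of_inn {H : Subgroup G} {f g : G → ℂ} (hf : IrrOn H f) (hg : IrrOn H g)
    (h : inn H f g ≠ 0) : f = g := by
  by_contra hne
  exact h (hf.inn_ne hg hne)

theorem IrrOn.apply_conj {H : Subgroup G} {f : G → ℂ} (hf : IrrOn H f) {h : G} (hh : h ∈ H)
    (x : G) : f (h * x * h⁻¹) = f x := by
  by_cases hx : x ∈ H
  · exact Char.IsIrrCharacter.isClassFunction hf.irr ⟨x, hx⟩ ⟨h, hh⟩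
  · rw [hf.supp x hx, hf.supp]
    exact fun hc => hx (by
      simpa [mul_assoc] using mul_mem (mul_mem (inv_mem hh) hc) hh)

theorem IrrOn.apply_inv {H : Subgroup G} {f : G → ℂ} (hf : IrrOn H f) (x : G) :
    f x⁻¹ = conj (f x) := by
  by_cases hx : x ∈ H
  · exact Char.IsIrrCharacter.apply_inv hf.irr ⟨x, hx⟩
  · rw [hf.supp x hx, hf.supp _ (fun hc => hx (by simpa using inv_mem hc)), map_zero]

/-- The degree of a function. -/
noncomputable def deg (f : G → ℂ) : ℕ := Cfsg.charDegree f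

theorem IrrOn.deg_cast {H : Subgroup G} {f : G → ℂ} (hf : IrrOn H f) : (deg f : ℂ) = f 1 := by
  obtain ⟨n, -, hn⟩ := Char.IsIrrCharacter.exists_degree hf.irr
  have : f 1 = (n : ℂ) := hn
  simp [deg, Cfsg.charDegree, this]

theorem IrrOn.deg_pos {H : Subgroup G} {f : G → ℂ} (hf : IrrOn H f) : 0 < deg f := by
  obtain ⟨n, hn0, hn⟩ := Char.IsIrrCharacter.exists_degree hf.irr
  have : f 1 = (n : ℂ) := hn
  simpa [deg, Cfsg.charDegree, this] using hn0

theorem IrrOn.apply_one_ne {H : Subgroup G} {f : G → ℂ} (hf : IrrOn H f) : f 1 ≠ 0 := by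
  rw [← hf.deg_cast]; exact_mod_cast hf.deg_pos.ne'

/-- A function restricting to a character of `H`. -/
def CharOn (H : Subgroup G) (f : G → ℂ) : Prop := Cfsg.IsCharacter H (fun x : H => f x)

theorem IrrOn.charOn {H : Subgroup G} {f : G → ℂ} (hf : IrrOn H f) : CharOn H f :=
  Char.IsIrrCharacter.isCharacter hf.irr

theorem CharOn.mono {H K : Subgroup G} {f : G → ℂ} (hf : CharOn H f) (hKH : K ≤ H) : CharOn K f :=
  Char.IsCharacter.comp hf (Subgroup.inclusion hKH)

theorem IrrOn.charOn_sub {H K : Subgroup G} {f : G → ℂ} (hf : IrrOn H f) (hKH : K ≤ H) :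
    CharOn K f := hf.charOn.mono hKH

/-- The multiplicity of `g` in `f` on `H`. -/
noncomputable def mult (H : Subgroup G) (f g : G → ℂ) : ℕ := ⌊(inn H f g).re⌋₊

theorem mult_cast {H : Subgroup G} {f g : G → ℂ} (hf : CharOn H f) (hg : CharOn H g) :
    (mult H f g : ℂ) = inn H f g := by
  obtain ⟨n, hn⟩ := Char.IsCharacter.exists_nat_classInner' hf hg
  rw [← inn_eq] at hn
  simp [mult, hn]

theorem mult_self {H : Subgroup G} {f : G → ℂ} (hf : IrrOn H f) : mult H f f = 1 := by
  simp [mult, hf.inn_self]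

theorem mult_ne {H : Subgroup G} {f g : G → ℂ} (hf : IrrOn H f) (hg : IrrOn H g) (hne : f ≠ g) :
    mult H f g = 0 := by
  simp [mult, hf.inn_ne hg hne]

theorem mult_comm {H : Subgroup G} {f g : G → ℂ} (hf : CharOn H f) (hg : CharOn H g) :
    mult H f g = mult H g f := by
  have h := inn_conj_symm H f g
  rw [← mult_cast hf hg, ← mult_cast hg hf, map_natCast] at h
  exact_mod_cast h

/-- A character is the sum of its constituents. -/
theorem CharOn.decomp {H : Subgroup G} {f : G → ℂ} (hf : CharOn H f) {x : G} (hx : x ∈ H) :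
    f x = ∑ ψ ∈ irrs H, (mult H f ψ : ℂ) * ψ x := by
  have h := congrFun (Char.IsCharacter.eq_sum_classInner hf) ⟨x, hx⟩
  rw [Finset.sum_apply] at h
  refine h.trans ?_
  rw [sum_irrs]
  refine Finset.sum_congr rfl fun χ _ => ?_
  have hχ : IrrOn H (extendByZero H (χ : H → ℂ)) :=
    mem_irrs.1 (Finset.mem_image.2 ⟨χ, Finset.mem_univ _, rfl⟩)
  rw [mult_cast hf hχ.charOn, inn_eq, Pi.smul_apply, smul_eq_mul,
    Char.extendByZero_apply_mem H _ hx]
  simp only [Char.extendByZero_coe]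

/-- Inner products through an intermediate subgroup. -/
theorem mult_trans {H L : Subgroup G} {f g : G → ℂ} (hLH : L ≤ H) (hf : CharOn H f)
    (hg : CharOn L g) :
    mult L f g = ∑ ψ ∈ irrs H, mult H f ψ * mult L ψ g := by
  have h : inn L f g = ∑ ψ ∈ irrs H, (mult H f ψ : ℂ) * inn L ψ g :=
    inn_sum_left L _ _ (fun ψ => ψ) g fun x hx => hf.decomp (hLH hx)
  rw [← mult_cast (hf.mono hLH) hg] at h
  have h' : (mult L f g : ℂ) = ((∑ ψ ∈ irrs H, mult H f ψ * mult L ψ g : ℕ) : ℂ) := by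
    rw [h, Nat.cast_sum]
    refine Finset.sum_congr rfl fun ψ hψ => ?_
    rw [Nat.cast_mul, mult_cast ((mem_irrs.1 hψ).charOn_sub hLH) hg]
  exact_mod_cast h'

/-- The degree of a character in terms of its constituents. -/
theorem CharOn.apply_one {H : Subgroup G} {f : G → ℂ} (hf : CharOn H f) :
    f 1 = ((∑ ψ ∈ irrs H, mult H f ψ * deg ψ : ℕ) : ℂ) := by
  rw [hf.decomp (one_mem H), Nat.cast_sum]
  refine Finset.sum_congr rfl fun ψ hψ => ?_
  rw [Nat.cast_mul, (mem_irrs.1 hψ).deg_cast]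

/-- The regular character. -/
theorem sum_deg_mul {H : Subgroup G} {x : G} (hx : x ∈ H) :
    ∑ ψ ∈ irrs H, ψ 1 * ψ x = if x = 1 then (Nat.card H : ℂ) else 0 := by
  have h := Char.sum_apply_one_mul (G := H) ⟨x, hx⟩
  rw [sum_irrs]
  refine Eq.trans (Finset.sum_congr rfl fun χ _ => ?_) (h.trans ?_)
  · rw [Char.extendByZero_apply_mem H _ hx, Char.extendByZero_apply_mem H _ (one_mem H)]
    rfl
  · refine if_congr ?_ rfl rfl
    rw [Subtype.ext_iff, OneMemClass.coe_one]

/-- Column orthogonality. -/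
theorem sum_col {H : Subgroup G} {a b : G} (ha : a ∈ H) (hb : b ∈ H) :
    ∑ ψ ∈ irrs H, ψ a * conj (ψ b) =
      ((mems H).filter (fun h => h * a * h⁻¹ = b)).card := by
  rw [sum_irrs]
  have h := Char.sum_mul_conj (G := H) ⟨a, ha⟩ ⟨b, hb⟩
  refine Eq.trans (Finset.sum_congr rfl fun χ _ => ?_) (h.trans ?_)
  · rw [Char.extendByZero_apply_mem H _ ha, Char.extendByZero_apply_mem H _ hb]
  have hcard : ((mems H).filter (fun h => h * a * h⁻¹ = b)).card =
      Nat.card {h : H // h * ⟨a, ha⟩ * h⁻¹ = (⟨b, hb⟩ : H)} := by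
    rw [Nat.card_eq_fintype_card, Fintype.card_subtype]
    symm
    refine Finset.card_bij (fun h _ => (h : G)) ?_ ?_ ?_
    · intro h hh
      rw [Finset.mem_filter] at hh ⊢
      exact ⟨mem_mems.2 h.2, congrArg Subtype.val hh.2⟩
    · intro h _ h' _ e
      exact Subtype.ext e
    · intro g hg
      rw [Finset.mem_filter, mem_mems] at hg
      exact ⟨⟨g, hg.1⟩, Finset.mem_filter.2 ⟨Finset.mem_univ _, Subtype.ext hg.2⟩, rfl⟩
  rw [hcard]
  split_ifs with hc
  · obtain ⟨c, hc⟩ := isConj_iff.1 hc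
    refine congrArg Nat.cast (Nat.card_congr
      { toFun := fun z => ⟨c * z, ?_⟩, invFun := fun z => ⟨c⁻¹ * z, ?_⟩,
        left_inv := fun z => by simp, right_inv := fun z => by simp })
    · have hz := Subgroup.mem_centralizer_singleton_iff.1 z.2
      rw [← hc]
      calc c * z * ⟨a, ha⟩ * (c * z)⁻¹ = c * ((z : H) * ⟨a, ha⟩) * ((z : H)⁻¹ * c⁻¹) := by group
        _ = c * (⟨a, ha⟩ * (z : H)) * ((z : H)⁻¹ * c⁻¹) := by rw [hz]
        _ = _ := by group
    · rw [Subgroup.mem_centralizer_singleton_iff]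
      have hz := z.2.trans hc.symm
      calc c⁻¹ * (z : H) * ⟨a, ha⟩ = c⁻¹ * ((z : H) * ⟨a, ha⟩ * (z : H)⁻¹) * (z : H) := by group
        _ = c⁻¹ * (c * ⟨a, ha⟩ * c⁻¹) * (z : H) := by rw [hz]
        _ = _ := by group
  · have : IsEmpty {h : H // h * ⟨a, ha⟩ * h⁻¹ = (⟨b, hb⟩ : H)} :=
      ⟨fun z => hc (isConj_iff.2 ⟨z, z.2⟩)⟩
    simp

/-- The conjugate of a function. -/
def cj (g : G) (f : G → ℂ) : G → ℂ := fun x => f (g⁻¹ * x * g)

theorem cj_apply (g : G) (f : G → ℂ) (x : G) : cj g f x = f (g⁻¹ * x * g) := rfl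

theorem cj_one (f : G → ℂ) : cj 1 f = f := funext fun x => by simp [cj]

theorem cj_cj (g h : G) (f : G → ℂ) : cj g (cj h f) = cj (g * h) f :=
  funext fun x => by simp [cj, mul_assoc]

theorem cj_inv {g : G} {f : G → ℂ} (h : cj g f = f) : cj g⁻¹ f = f := by
  conv_lhs => rw [← h]
  rw [cj_cj, inv_mul_cancel, cj_one]

theorem cj_mul' {g h : G} {f : G → ℂ} (hg : cj g f = f) (hh : cj h f = f) : cj (g * h) f = f := by
  rw [← cj_cj, hh, hg]

theorem cj_of_mem {H : Subgroup G} {f : G → ℂ} (hf : IrrOn H f) {h : G} (hh : h ∈ H) :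
    cj h f = f := funext fun x => by
  have := hf.apply_conj (inv_mem hh) x
  rwa [inv_inv] at this

theorem deg_cj (g : G) (f : G → ℂ) : deg (cj g f) = deg f := by
  simp [deg, Cfsg.charDegree, cj]

theorem norm_mem_iff {H : Subgroup G} {g : G} (hg : g ∈ Subgroup.normalizer (H : Set G)) (x : G) :
    g⁻¹ * x * g ∈ H ↔ x ∈ H := by
  have h := (Subgroup.mem_normalizer_iff.1 (inv_mem hg)) x
  rw [inv_inv] at h
  exact h.symm

theorem IrrOn.cj {H : Subgroup G} {f : G → ℂ} (hf : IrrOn H f) {g : G}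
    (hg : g ∈ Subgroup.normalizer (H : Set G)) : IrrOn H (RelMcKay.cj g f) := by
  refine ⟨?_, fun x hx => hf.supp _ fun h => hx ((norm_mem_iff hg x).1 h)⟩
  let e : H ≃* H :=
    { toFun := fun x => ⟨g⁻¹ * x * g, (norm_mem_iff hg _).2 x.2⟩
      invFun := fun x => ⟨g * x * g⁻¹, (Subgroup.mem_normalizer_iff.1 hg _).1 x.2⟩
      left_inv := fun x => Subtype.ext (by simp [mul_assoc])
      right_inv := fun x => Subtype.ext (by simp [mul_assoc])
      map_mul' := fun x y => Subtype.ext (by simp [mul_assoc]) }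
  exact CharTwist.isIrrCharacter_comp_equiv hf.irr e

theorem inn_cj {H : Subgroup G} {g : G} (hg : g ∈ Subgroup.normalizer (H : Set G))
    (f f' : G → ℂ) : inn H (cj g f) (cj g f') = inn H f f' := by
  unfold inn
  congr 1
  refine Finset.sum_nbij' (fun x => g⁻¹ * x * g) (fun x => g * x * g⁻¹) ?_ ?_ ?_ ?_ ?_
  · intro x hx; exact mem_mems.2 ((norm_mem_iff hg x).2 (mem_mems.1 hx))
  · intro x hx; exact mem_mems.2 ((Subgroup.mem_normalizer_iff.1 hg x).1 (mem_mems.1 hx))
  · intro x _; group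
  · intro x _; group
  · intro x _; rfl

theorem mult_cj {H : Subgroup G} {g : G} (hg : g ∈ Subgroup.normalizer (H : Set G))
    (f f' : G → ℂ) : mult H (cj g f) (cj g f') = mult H f f' := by
  rw [mult, mult, inn_cj hg]

/-- A function cut down to a subgroup. -/
noncomputable def res (H : Subgroup G) (f : G → ℂ) : G → ℂ := fun x => if x ∈ H then f x else 0

theorem res_apply {H : Subgroup G} {f : G → ℂ} {x : G} (hx : x ∈ H) : res H f x = f x := if_pos hx

theorem irrOn_res {H : Subgroup G} {f : G → ℂ} (hf : Cfsg.IsIrrCharacter H (fun x : H => f x)) :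
    IrrOn H (res H f) := by
  refine ⟨?_, fun x hx => if_neg hx⟩
  convert hf using 2
  exact res_apply (Subtype.coe_prop _)

theorem irrOn_res_of_norm {H : Subgroup G} {f : G → ℂ} (hf : CharOn H f) (h1 : inn H f f = 1) :
    IrrOn H (res H f) :=
  irrOn_res (Char.IsCharacter.isIrrCharacter_of_classInner_self hf (by rw [← inn_eq, h1]))

end CfsgLib.RelMcKay
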