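import Cfsg.Agent.Lib.RelMcKay.Layer

/-!
# Clifford theory for functions extended by zero
-/

set_option autoImplicit false
set_option linter.unusedSectionVars false
set_option linter.style.haveILetI false

namespace CfsgLib.RelMcKay

open Cfsg
open scoped ComplexConjugate

attribute [local instance] Classical.propDecidable

universe u

variable {G : Type u} [Group G] [Fintype G]

theorem card_mul_relIndex {H X : Subgroup G} (h : H ≤ X) :
    Nat.card H * H.relIndex X = Nat.card X := by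
  rw [Subgroup.relIndex, ← Subgroup.card_mul_index (H.subgroupOf X),
    Nat.card_congr (Subgroup.subgroupOfEquivOfLe h).toEquiv]

/-- Constituents on a normal subgroup are conjugate. -/
theorem exists_cj_eq {L X : Subgroup G} (hLX : L ≤ X) (hX : X ≤ Subgroup.normalizer (L : Set G))
    {χ ν ψ : G → ℂ} (hχ : IrrOn X χ) (hν : IrrOn L ν) (hψ : IrrOn L ψ)
    (h1 : mult L χ ν ≠ 0) (h2 : mult L χ ψ ≠ 0) : ∃ g ∈ X, cj g ν = ψ := by
  haveI : (L.subgroupOf X).Normal := Subgroup.normal_subgroupOf_of_le_normalizer hX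
  let e := Subgroup.subgroupOfEquivOfLe hLX
  have hne : ∀ f : G → ℂ, IrrOn L f → mult L χ f ≠ 0 →
      classInner (fun n : L.subgroupOf X => (fun x : X => χ x) (n : X))
        (fun n : L.subgroupOf X => f ((n : X) : G)) ≠ 0 := by
    intro f hf hm h0
    have h1 := Clifford.classInner_comp_equiv e (fun l : L => χ l) (fun l : L => f l)
    rw [← inn_eq, ← mult_cast (hχ.charOn_sub hLX) hf.charOn] at h1
    exact hm (Nat.cast_eq_zero.1 (h1.symm.trans h0))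
  obtain ⟨g, hg⟩ := Char.exists_conjFun_eq_of_constituent (N := L.subgroupOf X)
    (θ := fun x : X => χ x) (hθ := hχ.irr)
    (fun n : L.subgroupOf X => ν ((n : X) : G)) (fun n : L.subgroupOf X => ψ ((n : X) : G))
    (CharTwist.isIrrCharacter_comp_equiv hν.irr e) (CharTwist.isIrrCharacter_comp_equiv hψ.irr e)
    (hne ν hν h1) (hne ψ hψ h2)
  refine ⟨(g : G)⁻¹, inv_mem g.2, (hν.cj (inv_mem (hX g.2))).ext hψ fun l hl => ?_⟩
  have h3 := congrFun hg ⟨⟨l, hLX hl⟩, hl⟩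
  refine Eq.trans ?_ h3.symm
  simp [cj, CharTwist.conjFun]

/-- The elements of `X` fixing `ν`. -/
def iner (X : Subgroup G) (ν : G → ℂ) : Subgroup G where
  carrier := {g | g ∈ X ∧ cj g ν = ν}
  one_mem' := ⟨one_mem X, cj_one ν⟩
  mul_mem' := fun ha hb => ⟨mul_mem ha.1 hb.1, cj_mul' ha.2 hb.2⟩
  inv_mem' := fun ha => ⟨inv_mem ha.1, cj_inv ha.2⟩

theorem mem_iner {X : Subgroup G} {ν : G → ℂ} {g : G} : g ∈ iner X ν ↔ g ∈ X ∧ cj g ν = ν :=
  Iff.rfl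

theorem iner_le (X : Subgroup G) (ν : G → ℂ) : iner X ν ≤ X := fun _ h => h.1

/-- The conjugates of `ν` under `X`. -/
noncomputable def orb (X : Subgroup G) (ν : G → ℂ) : Finset (G → ℂ) :=
  (mems X).image fun g => cj g ν

theorem mem_orb {X : Subgroup G} {ν ψ : G → ℂ} : ψ ∈ orb X ν ↔ ∃ g ∈ X, cj g ν = ψ := by
  simp [orb, mem_mems]

theorem card_orb (X : Subgroup G) (ν : G → ℂ) : (orb X ν).card = (iner X ν).relIndex X := by
  refine Nat.eq_of_mul_eq_mul_left (Nat.card_pos (α := iner X ν)) ?_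
  rw [card_mul_relIndex (iner_le X ν), ← card_mems X, mul_comm]
  rw [Finset.card_eq_sum_card_fiberwise (s := mems X) (t := orb X ν) (f := fun g => cj g ν)
    fun g hg => Finset.mem_image_of_mem _ hg]
  rw [← Finset.sum_const_nat (m := Nat.card (iner X ν))]
  intro ψ hψ
  obtain ⟨g, hg, rfl⟩ := mem_orb.1 hψ
  rw [← card_mems]
  refine Finset.card_bij (fun a _ => g⁻¹ * a) ?_ (fun a _ b _ e => mul_left_cancel e) ?_
  · intro a ha
    rw [Finset.mem_filter, mem_mems] at ha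
    refine mem_mems.2 ⟨mul_mem (inv_mem hg) ha.1, ?_⟩
    rw [← cj_cj, ha.2, cj_cj, inv_mul_cancel, cj_one]
  · intro b hb
    have hb' := mem_mems.1 hb
    refine ⟨g * b, Finset.mem_filter.2 ⟨mem_mems.2 (mul_mem hg hb'.1), ?_⟩, by group⟩
    show cj (g * b) ν = cj g ν
    rw [← cj_cj, hb'.2]

/-- The degree of a character over `ν`. -/
theorem deg_eq {L X : Subgroup G} (hLX : L ≤ X) (hX : X ≤ Subgroup.normalizer (L : Set G))
    {χ ν : G → ℂ} (hχ : IrrOn X χ) (hν : IrrOn L ν) (h : mult L χ ν ≠ 0) :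
    deg χ = (iner X ν).relIndex X * mult L χ ν * deg ν := by
  have key : ∀ ψ ∈ orb X ν, mult L χ ψ = mult L χ ν ∧ deg ψ = deg ν ∧ ψ ∈ irrs L := by
    intro ψ hψ
    obtain ⟨g, hg, rfl⟩ := mem_orb.1 hψ
    refine ⟨?_, deg_cj g ν, mem_irrs.2 (hν.cj (hX hg))⟩
    conv_lhs => rw [← cj_of_mem hχ hg]
    exact mult_cj (hX hg) χ ν
  have e := (hχ.charOn_sub hLX).apply_one
  rw [← hχ.deg_cast, Nat.cast_inj] at e
  rw [e, ← Finset.sum_subset (fun ψ hψ => (key ψ hψ).2.2) fun ψ hψ hn => ?_]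
  · rw [Finset.sum_congr rfl fun ψ hψ => by rw [(key ψ hψ).1, (key ψ hψ).2.1],
      Finset.sum_const, smul_eq_mul, card_orb, mul_assoc]
  · by_contra h0
    exact hn (mem_orb.2 (exists_cj_eq hLX hX hχ hν (mem_irrs.1 hψ) h (left_ne_zero_of_mul h0)))

/-- Reciprocity at the identity. -/
theorem sum_mult_deg {C X : Subgroup G} (hCX : C ≤ X) {β : G → ℂ} (hβ : IrrOn C β) :
    ∑ θ ∈ irrs X, mult C θ β * deg θ = C.relIndex X * deg β := by
  have h1 : ((∑ θ ∈ irrs X, mult C θ β * deg θ : ℕ) : ℂ) =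
      (C.relIndex X : ℂ) * (deg β : ℂ) := by
    rw [Nat.cast_sum, Finset.sum_congr rfl (fun θ hθ => show ((mult C θ β * deg θ : ℕ) : ℂ) =
      (Nat.card C : ℂ)⁻¹ * ∑ c ∈ mems C, conj (β c) * (θ 1 * θ c) by
        rw [Nat.cast_mul, mult_cast ((mem_irrs.1 hθ).charOn_sub hCX) hβ.charOn,
          (mem_irrs.1 hθ).deg_cast, inn, mul_assoc, Finset.sum_mul]
        congr 1
        exact Finset.sum_congr rfl fun c _ => by ring)]
    rw [← Finset.mul_sum, Finset.sum_comm, Finset.sum_eq_single (1 : G)]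
    · rw [← Finset.mul_sum, sum_deg_mul (one_mem X), if_pos rfl, ← hβ.deg_cast, map_natCast,
        ← card_mul_relIndex hCX]
      have hC0 : (Nat.card C : ℂ) ≠ 0 := by exact_mod_cast Nat.card_pos.ne'
      push_cast
      field_simp
    · intro c hc hc1
      rw [← Finset.mul_sum, sum_deg_mul (hCX (mem_mems.1 hc)), if_neg hc1, mul_zero]
    · intro h; exact absurd (mem_mems.2 (one_mem _)) h
  exact_mod_cast h1

/-- A character over `ν` has degree divisible by that of `ν`. -/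
theorem deg_dvd {L X : Subgroup G} (hLX : L ≤ X) (hX : X ≤ Subgroup.normalizer (L : Set G))
    {χ ν : G → ℂ} (hχ : IrrOn X χ) (hν : IrrOn L ν) (h : mult L χ ν ≠ 0) : deg ν ∣ deg χ :=
  ⟨(iner X ν).relIndex X * mult L χ ν, by rw [deg_eq hLX hX hχ hν h, mul_comm]⟩

theorem le_iner {L X : Subgroup G} (hLX : L ≤ X) {ν : G → ℂ} (hν : IrrOn L ν) : L ≤ iner X ν :=
  fun _ hl => ⟨hLX hl, cj_of_mem hν hl⟩

/-- The Clifford correspondence, with multiplicities. -/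
theorem correspond {L X : Subgroup G} (hLX : L ≤ X) (hX : X ≤ Subgroup.normalizer (L : Set G))
    {ν : G → ℂ} (hν : IrrOn L ν) {χ ψ : G → ℂ} (hχ : IrrOn X χ) (hψ : IrrOn (iner X ν) ψ)
    (hψν : mult L ψ ν ≠ 0) (h : mult (iner X ν) χ ψ ≠ 0) :
    mult L χ ν ≠ 0 ∧ deg χ = (iner X ν).relIndex X * deg ψ ∧
    (∀ ψ', IrrOn (iner X ν) ψ' → mult L ψ' ν ≠ 0 → mult (iner X ν) χ ψ' ≠ 0 → ψ' = ψ) ∧
    (∀ χ', IrrOn X χ' → mult (iner X ν) χ' ψ ≠ 0 → χ' = χ) := by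
  set I := iner X ν with hI
  have hIX : I ≤ X := iner_le X ν
  have hLI : L ≤ I := le_iner hLX hν
  have hIn : I ≤ Subgroup.normalizer (L : Set G) := hIX.trans hX
  set r := I.relIndex X with hr
  have hI' : iner I ν = I :=
    le_antisymm (iner_le I ν) fun g hg => ⟨hg, hg.2⟩
  have hdψ : ∀ ψ', IrrOn I ψ' → mult L ψ' ν ≠ 0 → deg ψ' = mult L ψ' ν * deg ν := by
    intro ψ' hψ' hm
    have := deg_eq hLI hIn hψ' hν hm
    rwa [hI', Subgroup.relIndex_self, one_mul] at this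
  have hr0 : 0 < r := Nat.pos_of_ne_zero fun h0 => by
    have := card_mul_relIndex hIX
    rw [← hr, h0, mul_zero] at this
    exact Nat.card_pos.ne' this.symm
  have hν0 := hν.deg_pos
  have hA : ∀ χ', IrrOn X χ' → mult L χ' ν = ∑ ψ' ∈ irrs I, mult I χ' ψ' * mult L ψ' ν :=
    fun χ' hχ' => mult_trans hLI (hχ'.charOn_sub hIX) hν.charOn
  have hover : ∀ χ', IrrOn X χ' → ∀ ψ', IrrOn I ψ' → mult L ψ' ν ≠ 0 → mult I χ' ψ' ≠ 0 →
      mult L χ' ν ≠ 0 := by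
    intro χ' hχ' ψ' hψ' h1 h2 h0
    rw [hA χ' hχ'] at h0
    exact Nat.mul_ne_zero h2 h1 (Finset.sum_eq_zero_iff.1 h0 ψ' (mem_irrs.2 hψ'))
  have hB : ∀ ψ', IrrOn I ψ' → mult L ψ' ν ≠ 0 →
      mult L ψ' ν = ∑ χ' ∈ irrs X, mult I χ' ψ' * mult L χ' ν := by
    intro ψ' hψ' hm
    refine Nat.eq_of_mul_eq_mul_left (Nat.mul_pos hr0 hν0) ?_
    rw [mul_assoc, mul_comm (deg ν), ← hdψ ψ' hψ' hm, ← sum_mult_deg hIX hψ', Finset.mul_sum]
    refine Finset.sum_congr rfl fun χ' hχ' => ?_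
    by_cases h0 : mult I χ' ψ' = 0
    · simp [h0]
    · rw [deg_eq hLX hX (mem_irrs.1 hχ') hν (hover χ' (mem_irrs.1 hχ') ψ' hψ' hm h0)]
      ring
  have hle1 : ∀ χ', IrrOn X χ' → ∀ ψ', IrrOn I ψ' → mult I χ' ψ' * mult L ψ' ν ≤ mult L χ' ν :=
    fun χ' hχ' ψ' hψ' => by
      rw [hA χ' hχ']
      exact Finset.single_le_sum (f := fun ψ' => mult I χ' ψ' * mult L ψ' ν)
        (fun _ _ => Nat.zero_le _) (mem_irrs.2 hψ')
  have hle2 : ∀ χ', IrrOn X χ' → ∀ ψ', IrrOn I ψ' → mult L ψ' ν ≠ 0 →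
      mult I χ' ψ' * mult L χ' ν ≤ mult L ψ' ν := fun χ' hχ' ψ' hψ' hm => by
      rw [hB ψ' hψ' hm]
      exact Finset.single_le_sum (f := fun χ' => mult I χ' ψ' * mult L χ' ν)
        (fun _ _ => Nat.zero_le _) (mem_irrs.2 hχ')
  have heq : ∀ χ', IrrOn X χ' → ∀ ψ', IrrOn I ψ' → mult L ψ' ν ≠ 0 → mult I χ' ψ' ≠ 0 →
      mult I χ' ψ' = 1 ∧ mult L χ' ν = mult L ψ' ν := by
    intro χ' hχ' ψ' hψ' hm h0
    have h1 := hle1 χ' hχ' ψ' hψ'
    have h2 := hle2 χ' hχ' ψ' hψ' hm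
    have ha : 1 ≤ mult I χ' ψ' := Nat.pos_of_ne_zero h0
    have h3 : mult L ψ' ν ≤ mult I χ' ψ' * mult L ψ' ν := Nat.le_mul_of_pos_left _ ha
    have h4 : mult L χ' ν ≤ mult I χ' ψ' * mult L χ' ν := Nat.le_mul_of_pos_left _ ha
    have he : mult L χ' ν = mult L ψ' ν := le_antisymm (h4.trans h2) (h3.trans h1)
    refine ⟨le_antisymm (Nat.le_of_mul_le_mul_right ?_ (Nat.pos_of_ne_zero hm)) ha, he⟩
    rw [one_mul]
    exact he ▸ h1
  obtain ⟨ha, he⟩ := heq χ hχ ψ hψ hψν h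
  refine ⟨hover χ hχ ψ hψ hψν h, ?_, ?_, ?_⟩
  · rw [deg_eq hLX hX hχ hν (hover χ hχ ψ hψ hψν h), hdψ ψ hψ hψν, he, mul_assoc]
  · intro ψ' hψ' hm h0
    by_contra hne
    have h1 := hA χ hχ
    have h2 := Finset.sum_le_sum_of_subset (f := fun ψ' => mult I χ ψ' * mult L ψ' ν)
      (show ({ψ', ψ} : Finset (G → ℂ)) ⊆ irrs I by
        intro f hf
        rcases Finset.mem_insert.1 hf with rfl | hf
        · exact mem_irrs.2 hψ'
        · rw [Finset.mem_singleton.1 hf]; exact mem_irrs.2 hψ)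
    rw [Finset.sum_pair hne, ha, one_mul, ← h1, ← he] at h2
    have := Nat.pos_of_ne_zero (Nat.mul_ne_zero h0 hm)
    omega
  · intro χ' hχ' h0
    by_contra hne
    have h1 := hB ψ hψ hψν
    have h2 := Finset.sum_le_sum_of_subset (f := fun χ' => mult I χ' ψ * mult L χ' ν)
      (show ({χ', χ} : Finset (G → ℂ)) ⊆ irrs X by
        intro f hf
        rcases Finset.mem_insert.1 hf with rfl | hf
        · exact mem_irrs.2 hχ'
        · rw [Finset.mem_singleton.1 hf]; exact mem_irrs.2 hχ)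
    rw [Finset.sum_pair hne, ha, one_mul, ← h1, he] at h2
    have := Nat.pos_of_ne_zero (Nat.mul_ne_zero h0 (hover χ' hχ' ψ hψ hψν h0))
    omega

/-- The characters of `X` of degree prime to `p` over `ν`. -/
noncomputable def cset (p : ℕ) (X L : Subgroup G) (ν : G → ℂ) : Finset (G → ℂ) :=
  (irrs X).filter fun χ => ¬ p ∣ deg χ ∧ mult L χ ν ≠ 0

theorem mem_cset {p : ℕ} {X L : Subgroup G} {ν χ : G → ℂ} :
    χ ∈ cset p X L ν ↔ IrrOn X χ ∧ ¬ p ∣ deg χ ∧ mult L χ ν ≠ 0 := by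
  rw [cset, Finset.mem_filter, mem_irrs]

theorem cset_eq_empty {p : ℕ} {X L : Subgroup G} (hLX : L ≤ X)
    (hX : X ≤ Subgroup.normalizer (L : Set G)) {ν : G → ℂ} (hν : IrrOn L ν) (hd : p ∣ deg ν) :
    cset p X L ν = ∅ := by
  refine Finset.eq_empty_of_forall_notMem fun χ hχ => ?_
  obtain ⟨h1, h2, h3⟩ := mem_cset.1 hχ
  exact h2 (hd.trans (deg_dvd hLX hX h1 hν h3))

/-- Counting through the inertia group. -/
theorem card_cset_iner {p : ℕ} [Fact p.Prime] {X L : Subgroup G} (hLX : L ≤ X)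
    (hX : X ≤ Subgroup.normalizer (L : Set G)) {ν : G → ℂ} (hν : IrrOn L ν)
    (hp : ¬ p ∣ (iner X ν).relIndex X) :
    (cset p X L ν).card = (cset p (iner X ν) L ν).card := by
  set I := iner X ν with hI
  have hIX : I ≤ X := iner_le X ν
  have hLI : L ≤ I := le_iner hLX hν
  have hex : ∀ χ ∈ cset p X L ν, ∃ ψ, IrrOn I ψ ∧ mult L ψ ν ≠ 0 ∧ mult I χ ψ ≠ 0 := by
    intro χ hχ
    obtain ⟨h1, -, h3⟩ := mem_cset.1 hχ
    rw [mult_trans hLI (h1.charOn_sub hIX) hν.charOn] at h3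
    obtain ⟨ψ, hψ, hne⟩ := Finset.exists_ne_zero_of_sum_ne_zero h3
    exact ⟨ψ, mem_irrs.1 hψ, right_ne_zero_of_mul hne, left_ne_zero_of_mul hne⟩
  choose! f hf1 hf2 hf3 using hex
  refine Finset.card_bij (fun χ _ => f χ) ?_ ?_ ?_
  · intro χ hχ
    obtain ⟨h1, h2, -⟩ := mem_cset.1 hχ
    obtain ⟨-, hd, -, -⟩ := correspond hLX hX hν h1 (hf1 χ hχ) (hf2 χ hχ) (hf3 χ hχ)
    exact mem_cset.2 ⟨hf1 χ hχ, fun h => h2 (hd ▸ h.mul_left _), hf2 χ hχ⟩
  · intro χ hχ χ' hχ' e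
    obtain ⟨h1, -, -⟩ := mem_cset.1 hχ
    obtain ⟨-, -, -, hu⟩ := correspond hLX hX hν h1 (hf1 χ hχ) (hf2 χ hχ) (hf3 χ hχ)
    exact (hu χ' (mem_cset.1 hχ').1 (e ▸ hf3 χ' hχ')).symm
  · intro ψ hψ
    obtain ⟨h1, h2, h3⟩ := mem_cset.1 hψ
    obtain ⟨χ, hχ, hm⟩ : ∃ χ ∈ irrs X, mult I χ ψ ≠ 0 := by
      by_contra hcon
      push Not at hcon
      have := sum_mult_deg hIX h1
      rw [Finset.sum_eq_zero fun χ hχ => by rw [hcon χ hχ, zero_mul]] at this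
      rcases Nat.mul_eq_zero.1 this.symm with h | h
      · exact hp (h ▸ dvd_zero p)
      · exact h1.deg_pos.ne' h
    obtain ⟨ho, hd, hu, -⟩ := correspond hLX hX hν (mem_irrs.1 hχ) h1 h3 hm
    have hmem : χ ∈ cset p X L ν := mem_cset.2 ⟨mem_irrs.1 hχ,
      fun h => ((Fact.out : p.Prime).dvd_mul.1 (hd ▸ h)).elim hp h2, ho⟩
    exact ⟨χ, hmem, hu _ (hf1 χ hmem) (hf2 χ hmem) (hf3 χ hmem)⟩

/-- Degrees over a normal subgroup of index prime to `p`. -/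
theorem not_dvd_over {p : ℕ} [Fact p.Prime] {J X : Subgroup G} (hJX : J ≤ X)
    (hX : X ≤ Subgroup.normalizer (J : Set G)) (hp : ¬ p ∣ J.relIndex X) {μ χ : G → ℂ}
    (hμ : IrrOn J μ) (hμd : ¬ p ∣ deg μ) (hχ : IrrOn X χ) (h : mult J χ μ ≠ 0) :
    ¬ p ∣ deg χ := by
  set I := iner X μ with hI
  have hIX : I ≤ X := iner_le X μ
  have hJI : J ≤ I := le_iner hJX hμ
  have hmul := Subgroup.relIndex_mul_relIndex J I X hJI hIX
  have hp1 : ¬ p ∣ J.relIndex I := fun hd => hp (hmul ▸ hd.mul_right _)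
  have hp2 : ¬ p ∣ I.relIndex X := fun hd => hp (hmul ▸ hd.mul_left _)
  have h' := h
  rw [mult_trans hJI (hχ.charOn_sub hIX) hμ.charOn] at h'
  obtain ⟨ψ, hψ, hne⟩ := Finset.exists_ne_zero_of_sum_ne_zero h'
  obtain ⟨-, hd, -, -⟩ := correspond hJX hX hμ hχ (mem_irrs.1 hψ) (right_ne_zero_of_mul hne)
    (left_ne_zero_of_mul hne)
  obtain ⟨b, hb, hdvd⟩ := deg_over hJI (hIX.trans hX) hμ (fun g hg => hg.2)
    ⟨mem_irrs.1 hψ, right_ne_zero_of_mul hne⟩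
  intro h0
  rw [hd, hb] at h0
  rcases (Fact.out : p.Prime).dvd_mul.1 h0 with h1 | h1
  · exact hp2 h1
  · exact ((Fact.out : p.Prime).dvd_mul.1 h1).elim (fun h2 => hp1 (h2.trans hdvd)) hμd

end CfsgLib.RelMcKay
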