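import Cfsg.Agent.Lib.RelMcKay.Basic
import Cfsg.Agent.Lib.Blocks.ClassSum
import Cfsg.Agent.Lib.CharDeep.Extend
import Cfsg.Agent.Lib.Char.Clifford

/-!
# Counting modulo `p` and degrees over an invariant character
-/

set_option autoImplicit false
set_option linter.unusedSectionVars false
set_option linter.style.haveILetI false

namespace CfsgLib.RelMcKay

open Cfsg
open scoped ComplexConjugate

attribute [local instance] Classical.propDecidable

universe u w

variable {G : Type u} [Group G] [Fintype G]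

/-- A sum invariant under a subgroup acting through a `p`-group is the sum over the fixed
elements. -/
theorem sum_fixed {α : Type w} {p : ℕ} [Fact p.Prime] (s : Finset α) (T : Subgroup G)
    (σ : G → α → α) (h1 : ∀ a ∈ s, σ 1 a = a)
    (hmul : ∀ t ∈ T, ∀ u ∈ T, ∀ a ∈ s, σ (t * u) a = σ t (σ u a))
    (hmem : ∀ t ∈ T, ∀ a ∈ s, σ t a ∈ s)
    (hpow : ∀ t ∈ T, ∃ j : ℕ, ∀ a ∈ s, σ (t ^ p ^ j) a = a) (f : α → ZMod p)
    (hf : ∀ t ∈ T, ∀ a ∈ s, f (σ t a) = f a) :
    ∑ a ∈ s, f a = ∑ a ∈ s.filter (fun a => ∀ t ∈ T, σ t a = a), f a := by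
  letI : MulAction T s :=
    { smul := fun t a => ⟨σ t a, hmem t t.2 a a.2⟩
      one_smul := fun a => Subtype.ext (h1 a a.2)
      mul_smul := fun t u a => Subtype.ext (hmul t t.2 u u.2 a a.2) }
  set π := MulAction.toPermHom T s with hπ
  have hP : IsPGroup p π.range := by
    rintro ⟨_, t, rfl⟩
    obtain ⟨j, hj⟩ := hpow t t.2
    refine ⟨j, Subtype.ext ?_⟩
    rw [SubgroupClass.coe_pow, ← map_pow]
    ext a
    show σ ((t ^ p ^ j : T) : G) a = a
    rw [SubgroupClass.coe_pow]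
    exact hj a a.2
  have h := CfsgLib.Blocks.sum_eq_sum_fixed (R := ZMod p) hP (fun a : s => f a) (by
    rintro ⟨_, t, rfl⟩ a
    exact hf t t.2 a a.2)
  rw [Finset.sum_coe_sort s f] at h
  refine h.trans (Finset.sum_bij (fun a _ => (a : α)) ?_ ?_ ?_ fun a _ => rfl)
  · intro a ha
    simp only [Finset.mem_filter, Finset.mem_univ, true_and] at ha
    exact Finset.mem_filter.2 ⟨a.2, fun t ht => congrArg Subtype.val (ha ⟨π ⟨t, ht⟩, _, rfl⟩)⟩
  · intro a _ b _ e
    exact Subtype.ext e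
  · intro a ha
    rw [Finset.mem_filter] at ha
    refine ⟨⟨a, ha.1⟩, ?_, rfl⟩
    simp only [Finset.mem_filter, Finset.mem_univ, true_and]
    rintro ⟨_, t, rfl⟩
    exact Subtype.ext (ha.2 t t.2)

/-- `θ` lies over `ν`. -/
def Over (L H : Subgroup G) (ν θ : G → ℂ) : Prop := IrrOn H θ ∧ mult L θ ν ≠ 0

/-- Constituents of a restriction lie over what the character lies over. -/
theorem over_of_constituent {L C H : Subgroup G} (hLC : L ≤ C) (hCH : C ≤ H) {ν β θ : G → ℂ}
    (hν : IrrOn L ν) (hθ : IrrOn H θ) (hβ : Over L C ν β) (h : mult C θ β ≠ 0) :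
    mult L θ ν ≠ 0 := by
  rw [mult_trans hLC (hθ.charOn_sub hCH) hν.charOn]
  intro h0
  have h1 := (Finset.sum_eq_zero_iff.1 h0) β (mem_irrs.2 hβ.1)
  rcases Nat.mul_eq_zero.1 h1 with h' | h'
  · exact h h'
  · exact hβ.2 h'

/-- The degree over an invariant character. -/
theorem deg_over {L H : Subgroup G} (hLH : L ≤ H) (hn : H ≤ Subgroup.normalizer (L : Set G))
    {ν θ : G → ℂ} (hν : IrrOn L ν) (hinv : ∀ g ∈ H, cj g ν = ν) (hθ : Over L H ν θ) :
    ∃ b : ℕ, deg θ = b * deg ν ∧ b ∣ L.relIndex H := by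
  haveI : (L.subgroupOf H).Normal := Subgroup.normal_subgroupOf_of_le_normalizer hn
  set N := L.subgroupOf H with hN
  let e : N ≃* L := Subgroup.subgroupOfEquivOfLe hLH
  have hirr : Cfsg.IsIrrCharacter N (fun n : N => ν ((n : H) : G)) := by
    have h := CharTwist.isIrrCharacter_comp_equiv hν.irr e
    exact h
  have hinv' : ∀ (g : H) (n : N), (fun n : N => ν ((n : H) : G))
      ⟨g * n * g⁻¹, (inferInstance : N.Normal).conj_mem (n : H) n.2 g⟩ =
      (fun n : N => ν ((n : H) : G)) n := by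
    intro g n
    have h := congrFun (hinv (g : G)⁻¹ (inv_mem g.2)) ((n : H) : G)
    simpa [cj] using h
  have hcon : Cfsg.classInner (fun n : N => (fun x : H => θ x) (n : H))
      (fun n : N => ν ((n : H) : G)) ≠ 0 := by
    have h := CfsgLib.Clifford.classInner_comp_equiv e (fun l : L => θ l) (fun l : L => ν l)
    rw [← inn_eq, ← mult_cast (hθ.1.charOn_sub hLH) hν.charOn] at h
    intro h0
    exact hθ.2 (Nat.cast_eq_zero.1 (h.symm.trans h0))
  obtain ⟨b, d, hd, hb, hdvd⟩ := CharDeep.Extend.degree_dvd N _ hirr hinv' (fun x : H => θ x)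
    hθ.1.irr hcon
  refine ⟨b, ?_, hdvd⟩
  have hd' : ν 1 = (d : ℂ) := by simpa using hd
  have hb' : θ 1 = ((b * d : ℕ) : ℂ) := by simpa using hb
  rw [← hν.deg_cast, Nat.cast_inj] at hd'
  rw [← hθ.1.deg_cast, Nat.cast_inj] at hb'
  rw [hb', hd']

end CfsgLib.RelMcKay
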