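import Cfsg.Agent.Lib.RelMcKay.Down

/-!
# Stabilisers modulo a subgroup and fixed points in cosets under a coprime element
-/

set_option autoImplicit false
set_option linter.unusedSectionVars false
set_option linter.style.haveILetI false

namespace CfsgLib.RelMcKay

attribute [local instance] Classical.propDecidable

universe u

variable {G : Type u} [Group G] [Fintype G]

/-- The elements normalizing `L` that fix `g` modulo `L`. -/
def stab (L : Subgroup G) (g : G) : Subgroup G where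
  carrier := {z | z ∈ Subgroup.normalizer (L : Set G) ∧ g⁻¹ * (z * g * z⁻¹) ∈ L}
  one_mem' := ⟨one_mem _, by simp⟩
  mul_mem' := by
    rintro a b ⟨ha, ha'⟩ ⟨hb, hb'⟩
    refine ⟨mul_mem ha hb, ?_⟩
    have e : g⁻¹ * (a * b * g * (a * b)⁻¹) =
        g⁻¹ * (a * g * a⁻¹) * (a * (g⁻¹ * (b * g * b⁻¹)) * a⁻¹) := by group
    rw [e]
    exact mul_mem ha' ((Subgroup.mem_normalizer_iff.1 ha _).1 hb')
  inv_mem' := by
    rintro a ⟨ha, ha'⟩
    refine ⟨inv_mem ha, ?_⟩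
    have e : g⁻¹ * (a⁻¹ * g * a⁻¹⁻¹) = a⁻¹ * (g⁻¹ * (a * g * a⁻¹))⁻¹ * a := by group
    rw [e]
    exact (norm_mem_iff ha _).2 (inv_mem ha')

theorem mem_stab {L : Subgroup G} {g z : G} :
    z ∈ stab L g ↔ z ∈ Subgroup.normalizer (L : Set G) ∧ g⁻¹ * (z * g * z⁻¹) ∈ L := Iff.rfl

theorem mem_fix_iff_stab {L T : Subgroup G} {g : G} (hT : T ≤ Subgroup.normalizer (L : Set G)) :
    g ∈ fix L T ↔ g ∈ Subgroup.normalizer (L : Set G) ∧ T ≤ stab L g :=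
  ⟨fun h => ⟨h.1, fun t ht => ⟨hT ht, h.2 t ht⟩⟩, fun h => ⟨h.1, fun _ ht => (h.2 ht).2⟩⟩

theorem stab_symm {L : Subgroup G} {g z : G} (hg : g ∈ Subgroup.normalizer (L : Set G))
    (h : z ∈ stab L g) : g ∈ stab L z := by
  refine ⟨hg, ?_⟩
  have h2 := (norm_mem_iff h.1 _).2 ((Subgroup.mem_normalizer_iff.1 hg _).1 (inv_mem h.2))
  rwa [show z⁻¹ * (g * (g⁻¹ * (z * g * z⁻¹))⁻¹ * g⁻¹) * z = z⁻¹ * (g * z * g⁻¹) by group] at h2

variable {p : ℕ} [Fact p.Prime]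

/-- A coprime element fixing every coset of `Z` fixes an element of each, modulo `L`. -/
theorem exists_fixed_in_coset {L A Z : Subgroup G} (hLZ : L ≤ Z) (hZA : Z ≤ A)
    (hAL : A ≤ Subgroup.normalizer (L : Set G)) (hpA : ∀ a ∈ A, ∃ j : ℕ, a ^ p ^ j ∈ L) :
    ∀ (o : ℕ), ¬ p ∣ o → ∀ y : G, y ∈ Subgroup.normalizer (L : Set G) →
      y ∈ Subgroup.normalizer (Z : Set G) → y ∈ Subgroup.normalizer (A : Set G) →
      (∀ a ∈ A, y ∈ stab Z a) → (∀ a ∈ A, y ^ o ∈ stab L a) →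
      ∀ a ∈ A, ∃ z ∈ Z, y ∈ stab L (a * z) := by
  intro o
  induction o using Nat.strong_induction_on with
  | _ o ih =>
  intro hpo y hyL hyZ hyA hyS hyo a ha
  rcases eq_or_ne o 1 with rfl | ho1
  · exact ⟨1, one_mem Z, by rw [mul_one]; simpa using hyo a ha⟩
  have ho0 : o ≠ 0 := fun e => hpo (e ▸ dvd_zero p)
  set q := o.minFac with hq
  haveI : Fact q.Prime := ⟨Nat.minFac_prime ho1⟩
  have hqo : q ∣ o := Nat.minFac_dvd o
  have hqp : q ≠ p := fun e => hpo (e ▸ hqo)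
  have hlt : o / q < o := Nat.div_lt_self (Nat.pos_of_ne_zero ho0) (Nat.minFac_prime ho1).one_lt
  obtain ⟨z1, hz1, hfix1⟩ := ih (o / q) hlt
    (fun h => hpo (h.trans ⟨q, (Nat.div_mul_cancel hqo).symm⟩)) (y ^ q) (pow_mem hyL q)
    (pow_mem hyZ q) (pow_mem hyA q) (fun b hb => pow_mem (hyS b hb) q)
    (fun b hb => by rw [← pow_mul, Nat.mul_div_cancel' hqo]; exact hyo b hb) a ha
  set a1 := a * z1 with ha1
  have ha1A : a1 ∈ A := mul_mem ha (hZA hz1)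
  set Q := Subgroup.zpowers (y ^ q) with hQ
  have hQL : Q ≤ Subgroup.normalizer (L : Set G) := Subgroup.zpowers_le.2 (pow_mem hyL q)
  have hfixQ : ∀ g : G, g ∈ Subgroup.normalizer (L : Set G) → y ^ q ∈ stab L g → g ∈ fix L Q :=
    fun g hg h => (mem_fix_iff_stab hQL).2 ⟨hg, Subgroup.zpowers_le.2 h⟩
  set Zq := Z ⊓ fix L Q with hZq
  have hLZq : L ≤ Zq := fun l hl => Subgroup.mem_inf.2 ⟨hLZ hl, Subgroup.le_normalizer hl, fun t ht =>
    mul_mem (inv_mem hl) ((Subgroup.mem_normalizer_iff.1 (hQL ht) l).1 hl)⟩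
  have ha1f : a1 ∈ fix L Q := hfixQ _ (hAL ha1A) hfix1
  let σ : G → G ⧸ L → G ⧸ L := fun t c => ((t * c.out * t⁻¹ : G) : G ⧸ L)
  have hσ : ∀ t ∈ Subgroup.zpowers y, ∀ g : G, σ t (g : G ⧸ L) = ((t * g * t⁻¹ : G) : G ⧸ L) := by
    intro t ht g
    obtain ⟨n, hn⟩ := QuotientGroup.mk_out_eq_mul L g
    have htL : t ∈ Subgroup.normalizer (L : Set G) := Subgroup.zpowers_le.2 hyL ht
    show ((t * (g : G ⧸ L).out * t⁻¹ : G) : G ⧸ L) = _
    rw [hn, QuotientGroup.eq, show (t * (g * (n : G)) * t⁻¹)⁻¹ * (t * g * t⁻¹) =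
      t * (n : G)⁻¹ * t⁻¹ by group]
    exact (Subgroup.mem_normalizer_iff.1 htL _).1 (inv_mem n.2)
  set s : Finset (G ⧸ L) := (mems Zq).image (fun z => ((a1 * z : G) : G ⧸ L)) with hs
  have hstable : ∀ w : G, w ∈ Subgroup.normalizer (L : Set G) → w ∈ Subgroup.normalizer (Z : Set G) →
      w ∈ stab Z a1 → (∀ g : G, y ^ q ∈ stab L g → y ^ q ∈ stab L (w * g * w⁻¹)) →
      ∀ z ∈ Zq, a1⁻¹ * (w * (a1 * z) * w⁻¹) ∈ Zq := by
    intro w hwL hwZ hw hwq z hz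
    obtain ⟨hzZ, hzf⟩ := Subgroup.mem_inf.1 hz
    have hzL : z ∈ Subgroup.normalizer (L : Set G) := hzf.1
    refine Subgroup.mem_inf.2 ⟨?_, mul_mem (inv_mem ha1f) (hfixQ _ ?_ ?_)⟩
    · rw [show a1⁻¹ * (w * (a1 * z) * w⁻¹) = a1⁻¹ * (w * a1 * w⁻¹) * (w * z * w⁻¹) by group]
      exact mul_mem hw.2 ((Subgroup.mem_normalizer_iff.1 hwZ z).1 hzZ)
    · exact mul_mem (mul_mem hwL (mul_mem (hAL ha1A) hzL)) (inv_mem hwL)
    · exact hwq _ ⟨pow_mem hyL q, (mul_mem ha1f hzf).2 _ (Subgroup.mem_zpowers _)⟩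
  have hwq : ∀ w ∈ Subgroup.zpowers y, ∀ g : G, y ^ q ∈ stab L g → y ^ q ∈ stab L (w * g * w⁻¹) := by
    intro w hw g hg
    obtain ⟨i, rfl⟩ := Subgroup.mem_zpowers_iff.1 hw
    refine ⟨hg.1, ?_⟩
    have e : (y ^ i * g * (y ^ i)⁻¹)⁻¹ * (y ^ q * (y ^ i * g * (y ^ i)⁻¹) * (y ^ q)⁻¹) =
        y ^ i * (g⁻¹ * (y ^ q * g * (y ^ q)⁻¹)) * (y ^ i)⁻¹ := by
      have hc : y ^ q * y ^ i = y ^ i * y ^ q := by
        rw [← zpow_natCast, ← zpow_add, ← zpow_add, add_comm]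
      calc _ = y ^ i * g⁻¹ * (y ^ i)⁻¹ * ((y ^ q * y ^ i) * g * (y ^ q * y ^ i)⁻¹) := by group
        _ = _ := by rw [hc]; group
    rw [e]
    exact (Subgroup.mem_normalizer_iff.1 (zpow_mem hyL i) _).1 hg.2
  have hsum := sum_fixed (p := q) s (Subgroup.zpowers y) σ
    (fun c hc => by
      obtain ⟨z, -, rfl⟩ := Finset.mem_image.1 hc
      rw [hσ 1 (one_mem _)]
      simp)
    (fun t ht u hu c _ => by
      obtain ⟨g, rfl⟩ := QuotientGroup.mk_surjective c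
      rw [hσ _ (mul_mem ht hu), hσ u hu, hσ t ht]
      congr 1
      group)
    (fun t ht c hc => by
      obtain ⟨z, hz, rfl⟩ := Finset.mem_image.1 hc
      rw [hσ t ht]
      refine Finset.mem_image.2 ⟨a1⁻¹ * (t * (a1 * z) * t⁻¹), mem_mems.2 (hstable t
        (Subgroup.zpowers_le.2 hyL ht) (Subgroup.zpowers_le.2 hyZ ht)
        (Subgroup.zpowers_le.2 (hyS a1 ha1A) ht) (hwq t ht) z (mem_mems.1 hz)), ?_⟩
      rw [mul_inv_cancel_left])
    (fun t ht => by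
      refine ⟨1, fun c hc => ?_⟩
      obtain ⟨z, hz, rfl⟩ := Finset.mem_image.1 hc
      obtain ⟨i, rfl⟩ := Subgroup.mem_zpowers_iff.1 ht
      rw [hσ _ (pow_mem ht _), pow_one, eq_comm, QuotientGroup.eq]
      refine (mul_mem ha1f (Subgroup.mem_inf.1 (mem_mems.1 hz)).2).2 _ ?_
      exact ⟨i, show (y ^ q) ^ i = (y ^ i) ^ q by
        rw [← zpow_natCast, ← zpow_natCast (y ^ i), ← zpow_mul, ← zpow_mul, mul_comm]⟩)
    (fun _ => (1 : ZMod q)) (fun _ _ _ _ => rfl)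
  -- `s` has `p`-power size
  have hcard : s.card = L.relIndex Zq := by
    rw [Subgroup.relIndex, Subgroup.index]
    haveI : Fintype (Zq ⧸ L.subgroupOf Zq) := Fintype.ofFinite _
    rw [Nat.card_eq_fintype_card, ← Finset.card_univ]
    symm
    refine Finset.card_bij (fun c _ => ((a1 * (c.out : Zq) : G) : G ⧸ L)) ?_ ?_ ?_
    · intro c _
      exact Finset.mem_image.2 ⟨_, mem_mems.2 c.out.2, rfl⟩
    · intro c _ c' _ e
      rw [QuotientGroup.eq] at e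
      rw [← QuotientGroup.out_eq' c, ← QuotientGroup.out_eq' c', QuotientGroup.eq,
        Subgroup.mem_subgroupOf]
      simpa [mul_assoc] using e
    · intro c hc
      obtain ⟨z, hz, rfl⟩ := Finset.mem_image.1 hc
      refine ⟨((⟨z, mem_mems.1 hz⟩ : Zq) : Zq ⧸ L.subgroupOf Zq), Finset.mem_univ _, ?_⟩
      obtain ⟨n, hn⟩ := QuotientGroup.mk_out_eq_mul (L.subgroupOf Zq) ⟨z, mem_mems.1 hz⟩
      rw [hn, QuotientGroup.eq]
      simpa [mul_assoc] using inv_mem (Subgroup.mem_subgroupOf.1 n.2)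
  haveI : (L.subgroupOf Zq).Normal :=
    Subgroup.normal_subgroupOf_of_le_normalizer (fun z hz => (Subgroup.mem_inf.1 hz).2.1)
  have hP : IsPGroup p (Zq ⧸ L.subgroupOf Zq) := by
    intro c
    obtain ⟨z, rfl⟩ := QuotientGroup.mk_surjective c
    obtain ⟨j, hj⟩ := hpA z (hZA (Subgroup.mem_inf.1 z.2).1)
    refine ⟨j, ?_⟩
    rw [← QuotientGroup.mk_pow, QuotientGroup.eq_one_iff, Subgroup.mem_subgroupOf]
    simpa using hj
  obtain ⟨k, hk⟩ := (IsPGroup.iff_card).1 hP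
  have hne : ((s.filter (fun c => ∀ t ∈ Subgroup.zpowers y, σ t c = c)).card : ZMod q) ≠ 0 := by
    rw [Finset.sum_const, Finset.sum_const, nsmul_eq_mul, nsmul_eq_mul, mul_one, mul_one, hcard,
      Subgroup.relIndex, Subgroup.index, hk] at hsum
    intro h0
    have h1 : ((p ^ k : ℕ) : ZMod q) = 0 := hsum.trans (by convert h0)
    rw [ZMod.natCast_eq_zero_iff] at h1
    exact hqp ((Nat.prime_dvd_prime_iff_eq (Fact.out : q.Prime) (Fact.out : p.Prime)).1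
      ((Fact.out : q.Prime).dvd_of_dvd_pow h1))
  obtain ⟨c, hc⟩ := Finset.card_ne_zero.1 (fun e => hne (by rw [e, Nat.cast_zero]))
  obtain ⟨hcs, hcf⟩ := Finset.mem_filter.1 hc
  obtain ⟨z, hz, rfl⟩ := Finset.mem_image.1 hcs
  refine ⟨z1 * z, mul_mem hz1 (Subgroup.mem_inf.1 (mem_mems.1 hz)).1, hyL, ?_⟩
  have h := hcf y (Subgroup.mem_zpowers y)
  rw [hσ y (Subgroup.mem_zpowers y), eq_comm, QuotientGroup.eq] at h
  rw [ha1] at h
  simpa [mul_assoc] using h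

end CfsgLib.RelMcKay
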