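import Cfsg.Agent.Lib.RelMcKay.Twist
import Cfsg.Agent.Lib.Char.Orth

/-!
# Commutator sums of a character over two cosets
-/

set_option autoImplicit false
set_option linter.unusedSectionVars false
set_option linter.style.haveILetI false

namespace CfsgLib.RelMcKay

open Cfsg
open scoped ComplexConjugate

attribute [local instance] Classical.propDecidable

universe u

variable {G : Type u} [Group G] [Fintype G]

/-- The normalised sum of `θ` at commutators of the cosets `x K` and `y K`. -/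
noncomputable def W (K : Subgroup G) (θ : G → ℂ) (x y : G) : ℂ :=
  θ 1 / (Nat.card K : ℂ) ^ 2 *
    ∑ n ∈ mems K, ∑ m ∈ mems K, θ (x * n * (y * m) * (x * n)⁻¹ * (y * m)⁻¹)

theorem W_swap {K : Subgroup G} {θ : G → ℂ} (hθ : IrrOn K θ) (x y : G) :
    W K θ y x = conj (W K θ x y) := by
  unfold W
  rw [Finset.sum_comm, map_mul, map_div₀, map_pow, map_natCast, map_sum]
  simp only [map_sum, ← hθ.deg_cast, map_natCast, ← hθ.apply_inv]
  congr 1
  refine Finset.sum_congr rfl fun n _ => Finset.sum_congr rfl fun m _ => ?_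
  congr 1
  group

theorem W_shift {K : Subgroup G} (θ : G → ℂ) (x : G) {y : G}
    (hy : y ∈ Subgroup.normalizer (K : Set G)) : W K θ (x * y) y = W K θ x y := by
  unfold W
  congr 1
  rw [Finset.sum_comm]
  conv_rhs => rw [Finset.sum_comm]
  refine Finset.sum_congr rfl fun m hm => ?_
  rw [mem_mems] at hm
  refine Finset.sum_nbij' (fun n => y * (n * m⁻¹) * y⁻¹) (fun n => y⁻¹ * n * y * m) ?_ ?_ ?_ ?_ ?_
  · intro n hn
    exact mem_mems.2 ((Subgroup.mem_normalizer_iff.1 hy _).1 (mul_mem (mem_mems.1 hn) (inv_mem hm)))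
  · intro n hn
    exact mem_mems.2 (mul_mem ((norm_mem_iff hy n).2 (mem_mems.1 hn)) hm)
  · intro n _; group
  · intro n _; group
  · intro n _
    congr 1
    group

/-- Evaluation from an extension to `J`. -/
theorem W_eq {J K : Subgroup G} (hKJ : K ≤ J) {θ μ : G → ℂ} (hθ : IrrOn K θ)
    (hμ : IrrOn J μ) (hres : ∀ k ∈ K, μ k = θ k) {x y : G}
    (hxK : x ∈ Subgroup.normalizer (K : Set G)) (hxJ : x ∈ Subgroup.normalizer (J : Set G))
    (hy : y ∈ J) (hyK : y ∈ Subgroup.normalizer (K : Set G))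
    (hxy : x * y * x⁻¹ * y⁻¹ ∈ K) {w : ℂ}
    (hw : ∀ m ∈ K, μ (x * (y * m) * x⁻¹) = w * μ (y * m)) : W K θ x y = w := by
  have h1 : inn K μ μ = 1 := by rw [inn_congr hres hres]; exact hθ.inn_self
  have hconj : ∀ a ∈ K, x * a * x⁻¹ ∈ K := fun a ha => (Subgroup.mem_normalizer_iff.1 hxK a).1 ha
  have key : ∀ m ∈ mems K, ∑ n ∈ mems K, θ (x * n * (y * m) * (x * n)⁻¹ * (y * m)⁻¹) =
      (Nat.card K : ℂ) / μ 1 * (w * (μ (y * m) * conj (μ (y * m)))) := by
    intro m hm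
    rw [mem_mems] at hm
    have hym : y * m ∈ J := mul_mem hy (hKJ hm)
    have hxym : x * (y * m) * x⁻¹ ∈ J := (Subgroup.mem_normalizer_iff.1 hxJ _).1 hym
    have e2 : ∑ n ∈ mems K, θ (x * n * (y * m) * (x * n)⁻¹ * (y * m)⁻¹) =
        ∑ n ∈ mems K, μ (n * (x * (y * m) * x⁻¹) * n⁻¹ * (y * m)⁻¹) := by
      refine Finset.sum_nbij' (fun n => x * n * x⁻¹) (fun n => x⁻¹ * n * x) ?_ ?_ ?_ ?_ ?_
      · intro n hn; exact mem_mems.2 (hconj n (mem_mems.1 hn))
      · intro n hn; exact mem_mems.2 ((norm_mem_iff hxK n).2 (mem_mems.1 hn))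
      · intro n _; group
      · intro n _; group
      · intro n hn
        have hn' := mem_mems.1 hn
        have hmem : x * n * (y * m) * (x * n)⁻¹ * (y * m)⁻¹ ∈ K := by
          have h2 : y * (n⁻¹) * y⁻¹ ∈ K := (Subgroup.mem_normalizer_iff.1 hyK _).1 (inv_mem hn')
          have h3 : y * (m * n⁻¹ * m⁻¹) * y⁻¹ ∈ K :=
            (Subgroup.mem_normalizer_iff.1 hyK _).1 (mul_mem (mul_mem hm (inv_mem hn')) (inv_mem hm))
          have e : x * n * (y * m) * (x * n)⁻¹ * (y * m)⁻¹ =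
              x * n * x⁻¹ * (x * (y * (m * n⁻¹ * m⁻¹) * y⁻¹) * x⁻¹) *
                (x * (y * m * y⁻¹) * x⁻¹ * (x * y * x⁻¹ * y⁻¹) * (y * m⁻¹ * y⁻¹)) := by group
          rw [e]
          exact mul_mem (mul_mem (hconj n hn') (hconj _ h3)) (mul_mem (mul_mem
            (hconj _ ((Subgroup.mem_normalizer_iff.1 hyK _).1 hm)) hxy)
            ((Subgroup.mem_normalizer_iff.1 hyK _).1 (inv_mem hm)))
        rw [← hres _ hmem]
        congr 1
        group
    rw [e2, sum_conj_apply hKJ hμ h1 hxym (inv_mem hym), hw m hm, hμ.apply_inv]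
    ring
  unfold W
  rw [Finset.sum_comm, Finset.sum_congr rfl key, ← Finset.mul_sum, ← Finset.mul_sum,
    sum_coset_sq hKJ hμ h1 hy, ← hres 1 (one_mem K)]
  have hK0 : (Nat.card K : ℂ) ≠ 0 := by exact_mod_cast Nat.card_pos.ne'
  have h10 := hμ.apply_one_ne
  field_simp

/-- The sum vanishes when `y` moves `θ`. -/
theorem W_eq_zero {K : Subgroup G} {θ : G → ℂ} (hθ : IrrOn K θ) {x y : G}
    (hxK : x ∈ Subgroup.normalizer (K : Set G)) (hyK : y ∈ Subgroup.normalizer (K : Set G))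
    (hxy : x * y * x⁻¹ * y⁻¹ ∈ K) (hne : cj y θ ≠ θ) : W K θ x y = 0 := by
  suffices h : ∀ m ∈ mems K,
      ∑ n ∈ mems K, θ (x * n * (y * m) * (x * n)⁻¹ * (y * m)⁻¹) = 0 by
    unfold W
    rw [Finset.sum_comm, Finset.sum_eq_zero h, mul_zero]
  intro m hm
  rw [mem_mems] at hm
  set g := y * m with hg
  have hgK : g ∈ Subgroup.normalizer (K : Set G) := mul_mem hyK (Subgroup.le_normalizer hm)
  have hc : x * g * x⁻¹ * g⁻¹ ∈ K := by
    have e : x * g * x⁻¹ * g⁻¹ = (x * y * x⁻¹ * y⁻¹) *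
        (y * (x * m * x⁻¹ * m⁻¹) * y⁻¹) := by rw [hg]; group
    rw [e]
    exact mul_mem hxy ((Subgroup.mem_normalizer_iff.1 hyK _).1
      (mul_mem ((Subgroup.mem_normalizer_iff.1 hxK _).1 hm) (inv_mem hm)))
  have hgne : cj g θ ≠ θ := by
    rw [hg, ← cj_cj, cj_of_mem hθ hm]
    exact hne
  set θ' := cj x⁻¹ θ with hθ'
  have hθ'i : IrrOn K θ' := hθ.cj (inv_mem hxK)
  have hne' : cj g θ' ≠ θ' := by
    intro he
    apply hgne
    have h2 : cj g θ' = cj x⁻¹ (cj g θ) := by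
      have hcθ : cj (x * g * x⁻¹ * g⁻¹) (cj g θ) = cj g θ := cj_of_mem (hθ.cj hgK) hc
      conv_rhs => rw [← hcθ]
      rw [hθ', cj_cj, cj_cj, cj_cj]
      congr 1
      group
    rw [h2] at he
    have := congrArg (cj x) he
    simpa [cj_cj, cj_one, hθ'] using this
  obtain ⟨d, ρ, hρi, hρ⟩ := id hθ'i.irr
  haveI := hρi
  let σ : K →* K :=
    { toFun := fun k => ⟨g * k * g⁻¹, (Subgroup.mem_normalizer_iff.1 hgK _).1 k.2⟩
      map_one' := Subtype.ext (by simp)
      map_mul' := fun a b => Subtype.ext (by simp [mul_assoc]) }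
  let ρ' : Representation ℂ K (Fin d → ℂ) := ρ.comp σ
  set A : Module.End ℂ (Fin d → ℂ) := ∑ n : K, ρ n * ρ (σ n⁻¹) with hA
  have hint : ∀ k : K, A * ρ' k = ρ k * A := by
    intro k
    rw [hA, Finset.sum_mul, Finset.mul_sum]
    refine Fintype.sum_equiv (Equiv.mulLeft k⁻¹) _ _ fun n => ?_
    show ρ n * ρ (σ n⁻¹) * ρ (σ k) = ρ k * (ρ (k⁻¹ * n) * ρ (σ (k⁻¹ * n)⁻¹))
    rw [mul_assoc, ← map_mul ρ (σ n⁻¹), ← map_mul σ, ← mul_assoc, ← map_mul ρ k,
      mul_inv_cancel_left, mul_inv_rev, inv_inv]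
  have hA0 : A = 0 := by
    have hclass : Cfsg.classInner ρ.character ρ'.character = 0 := by
      have hirr' : IrrOn K (cj g⁻¹ θ') := hθ'i.cj (inv_mem hgK)
      have h3 := hθ'i.inn_ne hirr' (fun e => hne' (by
        have := congrArg (cj g) e
        simpa [cj_cj, cj_one, hθ'] using this))
      rw [inn_eq] at h3
      convert h3 using 2
      funext k
      show ρ.character (σ k) = θ' (g⁻¹⁻¹ * (k : G) * g⁻¹)
      rw [congrFun hρ, inv_inv]
      rfl
    rw [Char.classInner_character] at hclass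
    have : Subsingleton (Representation.IntertwiningMap ρ' ρ) :=
      Module.finrank_zero_iff.1 (by exact_mod_cast hclass)
    let f : Representation.IntertwiningMap ρ' ρ := ⟨A, hint⟩
    have h4 : f = 0 := Subsingleton.elim _ _
    exact LinearMap.ext fun v => DFunLike.congr_fun h4 v
  have hcc : x⁻¹ * (x * g * x⁻¹ * g⁻¹) * x ∈ K := (norm_mem_iff hxK _).2 hc
  rw [sum_mems]
  have hterm : ∀ n : K, θ (x * n * g * (x * n)⁻¹ * g⁻¹) =
      LinearMap.trace ℂ (Fin d → ℂ) (ρ n * ρ (σ n⁻¹) * ρ ⟨_, hcc⟩) := by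
    intro n
    rw [← map_mul, ← map_mul]
    show _ = ρ.character _
    rw [congrFun hρ, hθ']
    show _ = θ (x⁻¹⁻¹ * _ * x⁻¹)
    congr 1
    simp [σ, mul_assoc]
  rw [Finset.sum_congr rfl fun n _ => hterm n, ← map_sum, ← Finset.sum_mul, ← hA, hA0, zero_mul,
    map_zero]

end CfsgLib.RelMcKay
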