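import Cfsg.Agent.Lib.RelMcKay.Clifford
import Cfsg.Agent.Lib.RelMcKay.WSum

/-!
# Counting characters over a set of characters of a normal subgroup by commutators
-/

set_option autoImplicit false
set_option linter.unusedSectionVars false
set_option linter.style.haveILetI false

namespace CfsgLib.RelMcKay

open Cfsg
open scoped ComplexConjugate

attribute [local instance] Classical.propDecidable

universe u

variable {G : Type u} [Group G] [Fintype G]

/-- A class function is the sum of its irreducible components. -/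
theorem class_decomp {X : Subgroup G} {f : G → ℂ}
    (hf : ∀ h ∈ X, ∀ x ∈ X, f (h * x * h⁻¹) = f x) {x : G} (hx : x ∈ X) :
    f x = ∑ ψ ∈ irrs X, inn X f ψ * ψ x := by
  have hcl : Cfsg.IsClassFunction X (fun x : X => f x) := fun g h => hf h h.2 g g.2
  have h := congrFun (Char.IsClassFunction.eq_sum_classInner hcl) ⟨x, hx⟩
  rw [Finset.sum_apply] at h
  refine h.trans ?_
  rw [sum_irrs]
  refine Finset.sum_congr rfl fun χ _ => ?_
  rw [Pi.smul_apply, smul_eq_mul, inn_eq, Char.extendByZero_apply_mem X _ hx]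
  congr 2
  funext y
  rw [Char.extendByZero_coe]

/-- The commutator sum of an irreducible character. -/
theorem sum_comm_comm {X : Subgroup G} {χ : G → ℂ} (hχ : IrrOn X χ) :
    ∑ h ∈ mems X, ∑ g ∈ mems X, χ 1 * χ (h * g * h⁻¹ * g⁻¹) = (Nat.card X : ℂ) ^ 2 := by
  have h10 := hχ.apply_one_ne
  have hX : (Nat.card X : ℂ) ≠ 0 := by exact_mod_cast Nat.card_pos.ne'
  rw [Finset.sum_comm]
  rw [Finset.sum_congr rfl fun g hg => by
    rw [← Finset.mul_sum, sum_conj_apply le_rfl hχ hχ.inn_self (mem_mems.1 hg)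
      (inv_mem (mem_mems.1 hg)), hχ.apply_inv, ← mul_assoc, mul_div_cancel₀ _ h10],
    ← Finset.mul_sum, sq]
  congr 1
  have h := hχ.inn_self
  rw [inn] at h
  field_simp at h
  exact h

/-- The sum over a product of two subgroups, one normalizing the other. -/
theorem sum_prod_sub {J H X : Subgroup G} (hHJ : H ≤ Subgroup.normalizer (J : Set G))
    (hX : H ⊔ J = X) (f : G → ℂ) :
    ∑ x ∈ mems H, ∑ n ∈ mems J, f (x * n) =
      (Nat.card ((H ⊓ J : Subgroup G)) : ℂ) * ∑ g ∈ mems X, f g := by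
  have hHX : H ≤ X := hX ▸ le_sup_left
  have hJX : J ≤ X := hX ▸ le_sup_right
  have h1 : ∀ x ∈ mems H, ∑ n ∈ mems J, f (x * n) =
      ∑ g ∈ mems X, if x⁻¹ * g ∈ J then f g else 0 := by
    intro x hx
    rw [mem_mems] at hx
    rw [← Finset.sum_filter]
    refine Finset.sum_nbij' (fun n => x * n) (fun g => x⁻¹ * g) ?_ ?_ ?_ ?_ ?_
    · intro n hn
      rw [mem_mems] at hn
      refine Finset.mem_filter.2 ⟨mem_mems.2 (mul_mem (hHX hx) (hJX hn)), ?_⟩
      simpa using hn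
    · intro g hg
      exact mem_mems.2 (Finset.mem_filter.1 hg).2
    · intro n _; simp
    · intro g _; simp
    · intro n _; rfl
  rw [Finset.sum_congr rfl h1, Finset.sum_comm, Finset.mul_sum]
  refine Finset.sum_congr rfl fun g hg => ?_
  rw [← Finset.sum_filter, Finset.sum_const, nsmul_eq_mul, ← card_mems]
  congr 2
  obtain ⟨a, ha, b, hb, rfl⟩ : ∃ a ∈ H, ∃ b ∈ J, g = a * b := by
    have := mem_mems.1 hg
    rw [← hX, ← SetLike.mem_coe, Subgroup.coe_mul_of_left_le_normalizer_right _ _ hHJ,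
      Set.mem_mul] at this
    obtain ⟨a, ha, b, hb, e⟩ := this
    exact ⟨a, ha, b, hb, e.symm⟩
  refine Finset.card_bij (fun x _ => a⁻¹ * x) ?_ (fun x _ y _ e => mul_left_cancel e) ?_
  · intro x hx
    rw [Finset.mem_filter, mem_mems] at hx
    refine mem_mems.2 (Subgroup.mem_inf.2 ⟨mul_mem (inv_mem ha) hx.1, ?_⟩)
    have := mul_mem hb (inv_mem hx.2)
    rwa [show b * (x⁻¹ * (a * b))⁻¹ = a⁻¹ * x by group] at this
  · intro c hc
    obtain ⟨hcH, hcJ⟩ := Subgroup.mem_inf.1 (mem_mems.1 hc)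
    refine ⟨a * c, Finset.mem_filter.2 ⟨mem_mems.2 (mul_mem ha hcH), ?_⟩, by group⟩
    rw [show (a * c)⁻¹ * (a * b) = c⁻¹ * b by group]
    exact mul_mem (inv_mem hcJ) hb

/-- The number of characters of `X` over a stable set of characters of `J`. -/
theorem count {J X H : Subgroup G} (hHJ : H ≤ Subgroup.normalizer (J : Set G)) (hX : H ⊔ J = X)
    (U : Finset (G → ℂ)) (hU : ∀ μ ∈ U, IrrOn J μ) (hst : ∀ g ∈ X, ∀ μ ∈ U, cj g μ ∈ U) :
    (((irrs X).filter fun χ => ∃ μ ∈ U, mult J χ μ ≠ 0).card : ℂ) *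
        ((Nat.card H : ℂ) * (Nat.card ((H ⊓ J : Subgroup G)) : ℂ)) =
      ∑ x ∈ mems H, ∑ y ∈ mems H,
        if x * y * x⁻¹ * y⁻¹ ∈ J then ∑ μ ∈ U, W J μ x y else 0 := by
  set C := H ⊓ J with hC
  have hJX : J ≤ X := hX ▸ le_sup_right
  have hHX : H ≤ X := hX ▸ le_sup_left
  have hXJ : X ≤ Subgroup.normalizer (J : Set G) :=
    hX ▸ sup_le hHJ Subgroup.le_normalizer
  set S := (irrs X).filter (fun χ => ∃ μ ∈ U, mult J χ μ ≠ 0) with hS
  let Φ : G → ℂ := fun z => ∑ μ ∈ U, μ 1 * μ z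
  have hC0 : (Nat.card C : ℂ) ≠ 0 := by exact_mod_cast Nat.card_pos.ne'
  have hJ0 : (Nat.card J : ℂ) ≠ 0 := by exact_mod_cast Nat.card_pos.ne'
  have hX0 : (Nat.card X : ℂ) ≠ 0 := by exact_mod_cast Nat.card_pos.ne'
  have hsupp : ∀ z, z ∉ J → Φ z = 0 := fun z hz =>
    Finset.sum_eq_zero fun μ hμ => by rw [(hU μ hμ).supp z hz, mul_zero]
  have hclass : ∀ h ∈ X, ∀ z ∈ X, Φ (h * z * h⁻¹) = Φ z := by
    intro h hh z _
    refine Finset.sum_nbij' (fun μ => cj h⁻¹ μ) (fun μ => cj h μ) ?_ ?_ ?_ ?_ ?_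
    · intro μ hμ; exact hst _ (inv_mem hh) μ hμ
    · intro μ hμ; exact hst _ hh μ hμ
    · intro μ _; rw [cj_cj, mul_inv_cancel, cj_one]
    · intro μ _; rw [cj_cj, inv_mul_cancel, cj_one]
    · intro μ _
      rw [cj_apply, cj_apply, inv_inv]
      congr 1
      group
  have hcoef : ∀ χ ∈ irrs X, (Nat.card X : ℂ) * inn X Φ χ =
      if χ ∈ S then (Nat.card J : ℂ) * χ 1 else 0 := by
    intro χ hχ
    have hχ' := mem_irrs.1 hχ
    have e1 : (Nat.card X : ℂ) * inn X Φ χ =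
        (Nat.card J : ℂ) * ∑ μ ∈ U, μ 1 * inn J μ χ := by
      unfold inn
      rw [← mul_assoc, mul_inv_cancel₀ hX0, one_mul, Finset.mul_sum]
      rw [← Finset.sum_subset (fun z hz => mem_mems.2 (hJX (mem_mems.1 hz)))
        fun z _ hz => by rw [hsupp z (fun h => hz (mem_mems.2 h)), zero_mul]]
      simp only [Φ, Finset.sum_mul]
      rw [Finset.sum_comm]
      refine Finset.sum_congr rfl fun μ _ => ?_
      rw [← mul_assoc, ← mul_assoc, mul_comm (Nat.card J : ℂ), mul_assoc (μ 1),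
        mul_inv_cancel₀ hJ0, mul_one, Finset.mul_sum]
      exact Finset.sum_congr rfl fun z _ => by ring
    rw [e1]
    have e2 : ∀ μ ∈ U, μ 1 * inn J μ χ = ((mult J χ μ * deg μ : ℕ) : ℂ) := by
      intro μ hμ
      rw [← mult_cast (hU μ hμ).charOn (hχ'.charOn_sub hJX),
        mult_comm (hU μ hμ).charOn (hχ'.charOn_sub hJX), ← (hU μ hμ).deg_cast, Nat.cast_mul,
        mul_comm]
    rw [Finset.sum_congr rfl e2, ← Nat.cast_sum]
    by_cases hmem : χ ∈ S
    · rw [if_pos hmem, (hχ'.charOn_sub hJX).apply_one]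
      congr 2
      obtain ⟨μ₀, hμ₀, hm⟩ := (Finset.mem_filter.1 hmem).2
      refine Finset.sum_subset (fun μ hμ => mem_irrs.2 (hU μ hμ)) fun ψ hψ hn => ?_
      by_contra h0
      obtain ⟨g, hg, e⟩ := exists_cj_eq hJX hXJ hχ' (hU μ₀ hμ₀) (mem_irrs.1 hψ) hm
        (left_ne_zero_of_mul h0)
      exact hn (e ▸ hst g hg μ₀ hμ₀)
    · rw [if_neg hmem, Finset.sum_eq_zero, Nat.cast_zero, mul_zero]
      intro μ hμ
      by_contra h0
      exact hmem (Finset.mem_filter.2 ⟨hχ, μ, hμ, left_ne_zero_of_mul h0⟩)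
  have hΦ : ∀ z ∈ X, (Nat.card X : ℂ) * Φ z =
      (Nat.card J : ℂ) * ∑ χ ∈ S, χ 1 * χ z := by
    intro z hz
    rw [class_decomp hclass hz, Finset.mul_sum, Finset.mul_sum, hS, Finset.sum_filter]
    refine Finset.sum_congr rfl fun χ hχ => ?_
    rw [← mul_assoc, hcoef χ hχ]
    by_cases hmem : χ ∈ S
    · rw [if_pos hmem, if_pos (Finset.mem_filter.1 hmem).2]; ring
    · rw [if_neg hmem, if_neg (fun h => hmem (Finset.mem_filter.2 ⟨hχ, h⟩)), zero_mul]
  have hmain : ∑ h ∈ mems X, ∑ g ∈ mems X, Φ (h * g * h⁻¹ * g⁻¹) =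
      (S.card : ℂ) * (Nat.card X : ℂ) * (Nat.card J : ℂ) := by
    refine mul_left_cancel₀ hX0 ?_
    rw [Finset.mul_sum, Finset.sum_congr rfl fun h hh => by
      rw [Finset.mul_sum, Finset.sum_congr rfl fun g hg => hΦ _ (mul_mem (mul_mem (mul_mem
        (mem_mems.1 hh) (mem_mems.1 hg)) (inv_mem (mem_mems.1 hh))) (inv_mem (mem_mems.1 hg))),
        ← Finset.mul_sum, Finset.sum_comm]]
    rw [← Finset.mul_sum, Finset.sum_comm,
      Finset.sum_congr rfl fun χ hχ => sum_comm_comm (mem_irrs.1 (Finset.mem_filter.1 hχ).1),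
      Finset.sum_const, nsmul_eq_mul]
    ring
  have hcard : (Nat.card H : ℂ) * (Nat.card J : ℂ) = (Nat.card C : ℂ) * (Nat.card X : ℂ) := by
    have h := sum_prod_sub hHJ hX (fun _ => 1)
    simpa [card_mems, hC] using h
  have hreg : ∑ x ∈ mems H, ∑ y ∈ mems H, ∑ n ∈ mems J, ∑ m ∈ mems J,
      Φ (x * n * (y * m) * (x * n)⁻¹ * (y * m)⁻¹) =
      (Nat.card C : ℂ) ^ 2 * ∑ h ∈ mems X, ∑ g ∈ mems X, Φ (h * g * h⁻¹ * g⁻¹) := by
    rw [sq, mul_assoc, Finset.mul_sum, ← sum_prod_sub hHJ hX]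
    refine Finset.sum_congr rfl fun x _ => ?_
    rw [Finset.sum_comm]
    refine Finset.sum_congr rfl fun n _ => ?_
    exact sum_prod_sub hHJ hX (fun g => Φ (x * n * g * (x * n)⁻¹ * g⁻¹))
  have hW : ∀ x ∈ mems H, ∀ y ∈ mems H,
      (if x * y * x⁻¹ * y⁻¹ ∈ J then ∑ μ ∈ U, W J μ x y else 0) =
      ((Nat.card J : ℂ) ^ 2)⁻¹ *
        ∑ n ∈ mems J, ∑ m ∈ mems J, Φ (x * n * (y * m) * (x * n)⁻¹ * (y * m)⁻¹) := by
    intro x hx y hy
    rw [mem_mems] at hx hy
    have hxJ := hHJ hx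
    have hyJ := hHJ hy
    split_ifs with hc
    · simp only [W, Φ, Finset.mul_sum]
      rw [Finset.sum_comm]
      refine Finset.sum_congr rfl fun n _ => ?_
      rw [Finset.sum_comm]
      refine Finset.sum_congr rfl fun m _ => Finset.sum_congr rfl fun μ _ => ?_
      ring
    · rw [Finset.sum_eq_zero fun n hn => Finset.sum_eq_zero fun m hm => hsupp _ fun hmem => ?_,
        mul_zero]
      refine hc ?_
      rw [mem_mems] at hn hm
      have h1 : x * (n * (y * (m * n⁻¹) * y⁻¹)) * x⁻¹ ∈ J :=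
        (Subgroup.mem_normalizer_iff.1 hxJ _).1 (mul_mem hn
          ((Subgroup.mem_normalizer_iff.1 hyJ _).1 (mul_mem hm (inv_mem hn))))
      have h2 : y * m⁻¹ * y⁻¹ ∈ J := (Subgroup.mem_normalizer_iff.1 hyJ _).1 (inv_mem hm)
      have h3 := mul_mem (mul_mem (inv_mem h1) hmem) (inv_mem h2)
      rwa [show (x * (n * (y * (m * n⁻¹) * y⁻¹)) * x⁻¹)⁻¹ *
          (x * n * (y * m) * (x * n)⁻¹ * (y * m)⁻¹) * (y * m⁻¹ * y⁻¹)⁻¹ =
        x * y * x⁻¹ * y⁻¹ by group] at h3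
  rw [Finset.sum_congr rfl fun x hx => Finset.sum_congr rfl (hW x hx)]
  simp only [← Finset.mul_sum]
  rw [hreg, hmain]
  field_simp
  linear_combination (S.card : ℂ) * hcard

end CfsgLib.RelMcKay
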