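import Cfsg.Agent.Lib.RelMcKay.Ext
import Cfsg.Agent.Lib.RelMcKay.WSum

/-!
# Equivariance and transitivity of the correspondence, and the cyclic step
-/

set_option autoImplicit false
set_option linter.unusedSectionVars false
set_option linter.style.haveILetI false

namespace CfsgLib.RelMcKay

open Cfsg
open scoped ComplexConjugate

attribute [local instance] Classical.propDecidable

universe u

variable {G : Type u} [Group G] [Fintype G] {p : ℕ} [Fact p.Prime] {L K T : Subgroup G} {ν : G → ℂ}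

theorem fix_mono {L T T₀ : Subgroup G} (h : T₀ ≤ T) : fix L T ≤ fix L T₀ :=
  fun _ hg => ⟨hg.1, fun t ht => hg.2 t (h ht)⟩

theorem norm_fix_of_norm {L T : Subgroup G} {x : G} (hxL : x ∈ Subgroup.normalizer (L : Set G))
    (hxT : x ∈ Subgroup.normalizer (T : Set G)) : x ∈ Subgroup.normalizer (fix L T : Set G) := by
  have hmem : ∀ y : G, y ∈ Subgroup.normalizer (L : Set G) → y ∈ Subgroup.normalizer (T : Set G) →
      ∀ g ∈ fix L T, y * g * y⁻¹ ∈ fix L T := by
    intro y hyL hyT g hg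
    refine ⟨mul_mem (mul_mem hyL hg.1) (inv_mem hyL), fun t ht => ?_⟩
    have e : (y * g * y⁻¹)⁻¹ * (t * (y * g * y⁻¹) * t⁻¹) =
        y * (g⁻¹ * (y⁻¹ * t * y * g * (y⁻¹ * t * y)⁻¹)) * y⁻¹ := by group
    rw [e]
    exact (Subgroup.mem_normalizer_iff.1 hyL _).1 (hg.2 _ ((norm_mem_iff hyT t).2 ht))
  refine Subgroup.mem_normalizer_iff.2 fun g => ⟨hmem x hxL hxT g, fun h => ?_⟩
  have := hmem x⁻¹ (inv_mem hxL) (inv_mem hxT) _ h
  rwa [show x⁻¹ * (x * g * x⁻¹) * x⁻¹⁻¹ = g by group] at this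

theorem norm_fixPart_of_norm {L K T : Subgroup G} {x : G}
    (hxL : x ∈ Subgroup.normalizer (L : Set G)) (hxK : x ∈ Subgroup.normalizer (K : Set G))
    (hxT : x ∈ Subgroup.normalizer (T : Set G)) :
    x ∈ Subgroup.normalizer (fixPart L K T : Set G) := by
  have hf := norm_fix_of_norm hxL hxT
  refine Subgroup.mem_normalizer_iff.2 fun g => ?_
  simp only [fixPart, Subgroup.mem_inf]
  exact and_congr (Subgroup.mem_normalizer_iff.1 hxK g) (Subgroup.mem_normalizer_iff.1 hf g)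

theorem mem_normalizer_of_fix {L T : Subgroup G} (hLT : L ≤ T) {y : G} (hy : y ∈ fix L T) :
    y ∈ Subgroup.normalizer (T : Set G) := by
  have hmem : ∀ z : G, z ∈ fix L T → ∀ t ∈ T, z⁻¹ * t * z ∈ T := by
    intro z hz t ht
    have := mul_mem (hLT (hz.2 t ht)) ht
    rwa [show z⁻¹ * (t * z * t⁻¹) * t = z⁻¹ * t * z by group] at this
  refine Subgroup.mem_normalizer_iff.2 fun t => ⟨fun ht => ?_, fun h => ?_⟩
  · have := hmem y⁻¹ (inv_mem hy) t ht
    rwa [inv_inv] at this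
  · have := hmem y hy _ h
    rwa [show y⁻¹ * (y * t * y⁻¹) * y = t by group] at this

namespace Lay

theorem mono (D : Lay p L K T ν) {T₀ : Subgroup G} (h : T₀ ≤ T) (hL : L ≤ T₀) :
    Lay p L K T₀ ν :=
  { D with
    TnormL := h.trans D.TnormL
    TnormK := h.trans D.TnormK
    LT := hL
    pT := fun t ht => D.pT t (h ht)
    invT := fun t ht => D.invT t (h ht) }

theorem sub (D : Lay p L K T ν) {K₁ : Subgroup G} (hL : L ≤ K₁) (hK : K₁ ≤ K)
    (hT : T ≤ Subgroup.normalizer (K₁ : Set G)) : Lay p L K₁ T ν :=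
  { D with
    LK := hL
    Knorm := hK.trans D.Knorm
    TnormK := hT
    cop := D.cop_sub hL hK
    invK := fun g hg => D.invK g (hK hg) }

theorem cj_mem_overInv {H : Subgroup G} {x : G} (hxH : x ∈ Subgroup.normalizer (H : Set G))
    (hxL : x ∈ Subgroup.normalizer (L : Set G)) (hxT : x ∈ Subgroup.normalizer (T : Set G))
    (hxν : cj x ν = ν) {θ : G → ℂ} (hθ : θ ∈ overInv L H T ν) :
    cj x θ ∈ overInv L H T ν := by
  rw [mem_overInv] at hθ ⊢
  refine ⟨⟨hθ.1.1.cj hxH, ?_⟩, fun t ht => ?_⟩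
  · conv => arg 1; arg 3; rw [← hxν]
    rw [mult_cj hxL]
    exact hθ.1.2
  · have e : t * x = x * (x⁻¹ * t * x) := by group
    rw [cj_cj, e, ← cj_cj, hθ.2 _ ((norm_mem_iff hxT t).2 ht)]

/-- The correspondent is fixed by an automorphism fixing the data. -/
theorem down_fixed (D : Lay p L K T ν) {θ : G → ℂ} (hθ : θ ∈ overInv L K T ν) {x : G}
    (hxL : x ∈ Subgroup.normalizer (L : Set G)) (hxK : x ∈ Subgroup.normalizer (K : Set G))
    (hxT : x ∈ Subgroup.normalizer (T : Set G)) (hxν : cj x ν = ν) (hxθ : cj x θ = θ) :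
    cj x (D.down hθ) = D.down hθ := by
  refine D.below_unique hθ (cj_mem_overInv (norm_fixPart_of_norm hxL hxK hxT) hxL hxT hxν
    (D.down_mem hθ)) (D.down_mem hθ) ?_ (D.down_spec hθ)
  have hm := mult_cj (norm_fixPart_of_norm hxL hxK hxT) θ (D.down hθ)
  rw [hxθ] at hm
  rw [hm]
  exact D.down_spec hθ

theorem fixPart_fixPart {L K T T₀ : Subgroup G} (h : T₀ ≤ T) :
    fixPart L (fixPart L K T₀) T = fixPart L K T := by
  unfold fixPart
  rw [inf_assoc, inf_eq_right.2 (fix_mono h)]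

/-- The correspondence is transitive. -/
theorem down_trans (D : Lay p L K T ν) {T₀ : Subgroup G} (h : T₀ ≤ T) (hL : L ≤ T₀)
    (hn : T ≤ Subgroup.normalizer (T₀ : Set G)) (D₁ : Lay p L (fixPart L K T₀) T ν) {θ : G → ℂ}
    (hθ : θ ∈ overInv L K T ν) (hθ₀ : θ ∈ overInv L K T₀ ν)
    (hθ₁ : (D.mono h hL).down hθ₀ ∈ overInv L (fixPart L K T₀) T ν) :
    D₁.down hθ₁ = D.down hθ := by
  set D₀ := D.mono h hL
  set θ₁ := D₀.down hθ₀
  set C := fixPart L K T with hC
  set C₁ := fixPart L K T₀ with hC₁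
  have hCC : fixPart L C₁ T = C := fixPart_fixPart h
  have hmem := D₁.down_mem hθ₁
  have hspec := D₁.down_spec hθ₁
  rw [hCC] at hmem hspec
  refine D.below_unique hθ hmem (D.down_mem hθ) ?_ (D.down_spec hθ)
  have hθ' := mem_overInv.1 hθ
  have hmem' := mem_overInv.1 hmem
  have hTC₁ : T ≤ Subgroup.normalizer (C₁ : Set G) := D₁.TnormK
  rw [← ZMod.natCast_eq_zero_iff, mult_trans (H := C₁) (by rw [← hCC]; exact inf_le_left)
    (hθ'.1.1.charOn_sub D₀.fixPart_le) hmem'.1.1.charOn, Nat.cast_sum,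
    D.sum_irrs_fixed D₀.le_fixPart hTC₁ _ (fun t ht ψ _ => by
      congr 2
      · conv_lhs => rw [← hθ'.2 t ht]
        exact mult_cj (hTC₁ ht) θ ψ
      · conv_lhs => rw [← hmem'.2 t ht]
        exact mult_cj (D.norm_fixPart ht) ψ _),
    Finset.sum_eq_single θ₁]
  · rw [ZMod.natCast_eq_zero_iff]
    exact fun hd => ((Fact.out : p.Prime).dvd_mul.1 hd).elim (D₀.down_spec hθ₀) hspec
  · intro ψ hψ hne
    rw [Finset.mem_filter] at hψ
    rw [ZMod.natCast_eq_zero_iff]
    refine dvd_mul_of_dvd_left ?_ _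
    by_contra hd
    have hm : mult C₁ θ ψ ≠ 0 := fun e => hd (e ▸ dvd_zero p)
    exact hne (D₀.below_unique hθ₀ (mem_overInv.2 ⟨D.constituent_over D₀.le_fixPart D₀.fixPart_le
      hθ'.1 (mem_irrs.1 hψ.1) hm, fun t ht => hψ.2 t (h ht)⟩) (D₀.down_mem hθ₀) hd
      (D₀.down_spec hθ₀))
  · intro hn'
    exact absurd (Finset.mem_filter.2 ⟨mem_irrs.2 (mem_overInv.1 hθ₁).1.1,
      (mem_overInv.1 hθ₁).2⟩) hn'

/-- The commutator sum passes to the correspondent when `y` is fixed by `T` modulo `L`. -/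
theorem W_step (D : Lay p L K T ν) {θ : G → ℂ} (hθ : θ ∈ overInv L K T ν) {x y : G}
    (hxL : x ∈ Subgroup.normalizer (L : Set G)) (hxK : x ∈ Subgroup.normalizer (K : Set G))
    (hxT : x ∈ Subgroup.normalizer (T : Set G)) (hxν : cj x ν = ν) (hxθ : cj x θ = θ)
    (hy : y ∈ fix L T) (hyK : y ∈ Subgroup.normalizer (K : Set G)) (hyν : cj y ν = ν)
    (hyθ : cj y θ = θ) {o : ℕ} (hyo : y ^ o ∈ fixPart L K T) (hpo : ¬ p ∣ o)
    (hxy : x * y * x⁻¹ * y⁻¹ ∈ fixPart L K T) :
    W K θ x y = W (fixPart L K T) (D.down hθ) x y := by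
  set C := fixPart L K T with hC
  have hθ' := mem_overInv.1 hθ
  have hβ := mem_overInv.1 (D.down_mem hθ)
  set β := D.down hθ with hβdef
  have hyC : y ∈ Subgroup.normalizer (C : Set G) :=
    norm_fixPart_of_norm hy.1 hyK (mem_normalizer_of_fix D.LT hy)
  have hxC : x ∈ Subgroup.normalizer (C : Set G) := norm_fixPart_of_norm hxL hxK hxT
  have hyβ : cj y β = β := D.down_fixed hθ hy.1 hyK (mem_normalizer_of_fix D.LT hy) hyν hyθ
  have hxyK : x * y * x⁻¹ * y⁻¹ ∈ K := D.fixPart_le hxy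
  set J := Subgroup.zpowers y ⊔ K with hJ
  have hKJ : K ≤ J := le_sup_right
  have hyJ : y ∈ J := Subgroup.mem_sup_left (Subgroup.mem_zpowers y)
  have hJK : J ≤ Subgroup.normalizer (K : Set G) := sup_zpowers_le_normalizer hyK
  have hTJ : T ≤ Subgroup.normalizer (J : Set G) := by
    have hle : ∀ t ∈ T, J ≤ J.comap (MulAut.conj t).toMonoidHom := by
      intro t ht
      refine sup_le (Subgroup.zpowers_le.2 ?_) fun k hk => hKJ ?_
      · show t * y * t⁻¹ ∈ J
        have := mul_mem hyJ (hKJ (D.LK (hy.2 t ht)))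
        rwa [mul_inv_cancel_left] at this
      · exact (Subgroup.mem_normalizer_iff.1 (D.TnormK ht) k).1 hk
    intro t ht
    refine Subgroup.mem_normalizer_iff.2 fun g => ⟨fun hg => hle t ht hg, fun hg => ?_⟩
    have : t⁻¹ * (t * g * t⁻¹) * t⁻¹⁻¹ ∈ J := hle t⁻¹ (inv_mem ht) hg
    rwa [show t⁻¹ * (t * g * t⁻¹) * t⁻¹⁻¹ = g by group] at this
  have hKJo : ¬ p ∣ K.relIndex J := by
    intro hd
    haveI : (K.subgroupOf J).Normal := Subgroup.normal_subgroupOf_of_le_normalizer hJK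
    apply hpo
    refine hd.trans ?_
    rw [Subgroup.relIndex, Subgroup.index]
    have hgen : ∀ q : J ⧸ K.subgroupOf J,
        q ∈ Subgroup.zpowers ((⟨y, hyJ⟩ : J) : J ⧸ K.subgroupOf J) := by
      intro q
      obtain ⟨⟨g, hg⟩, rfl⟩ := QuotientGroup.mk_surjective q
      obtain ⟨i, k, hk, rfl⟩ := (mem_sup_zpowers hyK).1 hg
      refine ⟨i, ?_⟩
      show _ ^ i = _
      rw [← QuotientGroup.mk_zpow, QuotientGroup.eq, Subgroup.mem_subgroupOf]
      simpa using hk
    rw [← orderOf_eq_card_of_forall_mem_zpowers hgen, orderOf_dvd_iff_pow_eq_one,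
      ← QuotientGroup.mk_pow, QuotientGroup.eq_one_iff, Subgroup.mem_subgroupOf]
    simpa using D.fixPart_le hyo
  have hinvJ : ∀ g ∈ J, cj g ν = ν := by
    intro g hg
    obtain ⟨i, k, hk, rfl⟩ := (mem_sup_zpowers hyK).1 hg
    have hS : y ^ i ∈ ({ carrier := {g | cj g ν = ν}
                         one_mem' := cj_one ν
                         mul_mem' := fun ha hb => cj_mul' ha hb
                         inv_mem' := fun ha => cj_inv ha } : Subgroup G) :=
      zpow_mem (show cj y ν = ν from hyν) i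
    exact cj_mul' hS (D.invK k hk)
  have D' : Lay p L J T ν :=
    { D with
      LK := D.LK.trans hKJ
      Knorm := sup_le (Subgroup.zpowers_le.2 hy.1) D.Knorm
      TnormK := hTJ
      cop := fun hd => by
        rw [← Subgroup.relIndex_mul_relIndex L K J D.LK hKJ] at hd
        exact ((Fact.out : p.Prime).dvd_mul.1 hd).elim D.cop hKJo
      invK := hinvJ }
  set C' := fixPart L J T with hC'
  have hC'eq : C' = Subgroup.zpowers y ⊔ C := by
    apply le_antisymm
    · intro g hg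
      obtain ⟨hgJ, hgf⟩ := Subgroup.mem_inf.1 hg
      obtain ⟨i, k, hk, rfl⟩ := (mem_sup_zpowers hyK).1 hgJ
      refine (mem_sup_zpowers hyC).2 ⟨i, k, Subgroup.mem_inf.2 ⟨hk, ?_⟩, rfl⟩
      have := mul_mem (inv_mem (zpow_mem hy i)) hgf
      rwa [inv_mul_cancel_left] at this
    · exact sup_le (Subgroup.zpowers_le.2 (Subgroup.mem_inf.2 ⟨hyJ, hy⟩))
        (inf_le_inf_right _ hKJ)
  -- the extension upstairs
  obtain ⟨θe, hθe, hθres⟩ := exists_ext hyK hθ'.1.1 hyθ
  have hθe1 : inn K θe θe = 1 := by rw [inn_congr hθres hθres]; exact hθ'.1.1.inn_self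
  have hθeT : ∀ t ∈ T, cj t θe = θe := by
    intro t ht
    obtain ⟨j, hj⟩ := D.pT t ht
    refine cyclic_ext_fixed hyK hθ'.1.1 hθe hθres (D.TnormK ht) (hθ'.2 t ht) ?_
      (cj_of_mem hθe (hKJ (D.LK hj))) (D.fixPart_le hyo) hpo
    have := hy.2 t⁻¹ (inv_mem ht)
    rw [inv_inv] at this
    exact D.LK this
  have hθe' : θe ∈ overInv L J T ν := by
    refine mem_overInv.2 ⟨⟨hθe, ?_⟩, hθeT⟩
    rw [mult, inn_congr (fun l hl => hθres l (D.LK hl)) fun _ _ => rfl]
    exact hθ'.1.2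
  set βe := D'.down hθe' with hβedef
  have hβe := mem_overInv.1 (D'.down_mem hθe')
  -- its restriction is `β`
  have hβirr : IrrOn (Subgroup.zpowers y ⊔ C) βe := hC'eq ▸ hβe.1.1
  have hβm : mult C βe β ≠ 0 := by
    have hCC' : C ≤ C' := hC'eq ▸ le_sup_right
    have hs : (mult C θ β : ZMod p) = (mult C' θe βe * mult C βe β : ℕ) := by
      rw [show mult C θ β = mult C θe β by
        rw [mult, mult, inn_congr (fun c hc => (hθres c (D.fixPart_le hc)).symm) fun _ _ => rfl],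
        mult_trans hCC' (hθe.charOn_sub D'.fixPart_le) hβ.1.1.charOn, Nat.cast_sum,
        D'.sum_irrs_fixed D'.le_fixPart D'.norm_fixPart _ (fun t ht ψ _ => by
          congr 2
          · conv_lhs => rw [← hθeT t ht]
            exact mult_cj (D'.norm_fixPart ht) θe ψ
          · conv_lhs => rw [← hβ.2 t ht]
            exact mult_cj (D.norm_fixPart ht) ψ β),
        Finset.sum_eq_single βe]
      · intro ψ hψ hne
        rw [Finset.mem_filter] at hψ
        rw [ZMod.natCast_eq_zero_iff]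
        refine dvd_mul_of_dvd_left ?_ _
        by_contra hd
        have hm : mult C' θe ψ ≠ 0 := fun e => hd (e ▸ dvd_zero p)
        exact hne (D'.below_unique hθe' (mem_overInv.2 ⟨D'.constituent_over D'.le_fixPart
          D'.fixPart_le (mem_overInv.1 hθe').1 (mem_irrs.1 hψ.1) hm, hψ.2⟩) (D'.down_mem hθe') hd
          (D'.down_spec hθe'))
      · intro hn'
        exact absurd (Finset.mem_filter.2 ⟨mem_irrs.2 hβe.1.1, hβe.2⟩) hn'
    intro h0
    rw [h0, Nat.mul_zero, Nat.cast_zero, ZMod.natCast_eq_zero_iff] at hs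
    exact D.down_spec hθ hs
  have hβres : ∀ c ∈ C, βe c = β c := res_eq_of_cyclic hyC hβ.1.1 hyβ hβirr hβm
  -- twisting by `x`
  have hxJ : ∀ z : G, z ∈ Subgroup.normalizer (K : Set G) → z * y * z⁻¹ ∈ J →
      ∀ g ∈ J, z * g * z⁻¹ ∈ J := by
    intro z hzK hzy g hg
    obtain ⟨i, k, hk, rfl⟩ := (mem_sup_zpowers hyK).1 hg
    rw [show z * (y ^ i * k) * z⁻¹ = (z * y * z⁻¹) ^ i * (z * k * z⁻¹) by rw [conj_zpow]; group]
    exact mul_mem (zpow_mem hzy i) (hKJ ((Subgroup.mem_normalizer_iff.1 hzK k).1 hk))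
  have hxy' : x⁻¹ * y * x⁻¹⁻¹ ∈ J := by
    have e : x⁻¹ * y * x⁻¹⁻¹ = y * (y⁻¹ * (x⁻¹ * (x * y * x⁻¹ * y⁻¹)⁻¹ * x) * y) := by group
    rw [e]
    exact mul_mem hyJ (hKJ ((norm_mem_iff hyK _).2 ((norm_mem_iff hxK _).2 (inv_mem hxyK))))
  have hxJn : x ∈ Subgroup.normalizer (J : Set G) := by
    refine Subgroup.mem_normalizer_iff.2 fun g => ⟨hxJ x hxK ?_ g, fun h => ?_⟩
    · have := mul_mem (hKJ hxyK) hyJ
      rwa [inv_mul_cancel_right] at this
    · have := hxJ x⁻¹ (inv_mem hxK) hxy' _ h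
      rwa [show x⁻¹ * (x * g * x⁻¹) * x⁻¹⁻¹ = g by group] at this
  have hxC' : x⁻¹ ∈ Subgroup.normalizer (C' : Set G) :=
    inv_mem (norm_fixPart_of_norm hxL hxJn hxT)
  have hm1 : mult K (cj x⁻¹ θe) θe = 1 := by
    rw [mult, inn_congr (f' := θ) (g' := θ) (fun k hk => ?_) hθres, hθ'.1.1.inn_self]
    · simp
    · show θe (x⁻¹⁻¹ * k * x⁻¹) = θ k
      rw [hθres _ ((norm_mem_iff (inv_mem hxK) k).2 hk)]
      exact congrFun (cj_inv hxθ) k
  obtain ⟨lam, hlam, hlameq⟩ := exists_twist hKJ hJK hθe hθe1 (hθe.cj (inv_mem hxJn))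
    (by rw [hm1]; exact one_ne_zero) (Or.inl hm1)
  let lam' : G → ℂ := fun g => if g ∈ C' then lam g else 0
  have hlam' : IsLin C' C lam' :=
    ⟨fun a ha b hb => by
      simp only [lam', if_pos ha, if_pos hb, if_pos (mul_mem ha hb)]
      exact hlam.mul _ (D'.fixPart_le ha) _ (D'.fixPart_le hb),
    fun c hc => by
      simp only [lam', if_pos (show c ∈ C' by rw [hC'eq]; exact Subgroup.mem_sup_right hc)]
      exact hlam.triv c (D.fixPart_le hc),
    fun a ha => if_neg ha⟩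
  have hxover := cj_mem_overInv (inv_mem hxJn) (inv_mem hxL) (inv_mem hxT) (cj_inv hxν) hθe'
  have hxbover := cj_mem_overInv hxC' (inv_mem hxL) (inv_mem hxT) (cj_inv hxν) (D'.down_mem hθe')
  have hβlam : IrrOn C' (fun g => βe g * lam' g) := irrOn_twist hβe.1.1 hlam'
  have hkey : cj x⁻¹ βe = fun g => βe g * lam' g := by
    have hmult : ¬ p ∣ mult C' (cj x⁻¹ θe) (cj x⁻¹ βe) := by
      rw [mult_cj hxC']; exact D'.down_spec hθe'
    refine D'.below_unique hxover hxbover ?_ hmult ?_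
    · refine mem_overInv.2 ⟨⟨hβlam, ?_⟩, ?_⟩
      · rw [mult, inn_congr (f' := βe) (fun l hl => ?_) fun _ _ => rfl]
        · exact hβe.1.2
        · rw [hlam'.triv l (D.le_fixPart hl), mul_one]
      · intro t ht
        refine (hβlam.cj (D'.norm_fixPart ht)).ext hβlam fun g hg => ?_
        have hg' : t⁻¹ * g * t ∈ C' := (norm_mem_iff (D'.norm_fixPart ht) g).2 hg
        show βe (t⁻¹ * g * t) * lam' (t⁻¹ * g * t) = βe g * lam' g
        rw [show βe (t⁻¹ * g * t) = βe g from congrFun (hβe.2 t ht) g]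
        congr 1
        have hl : g⁻¹ * (t⁻¹ * g * t⁻¹⁻¹) ∈ L := (Subgroup.mem_inf.1 hg).2.2 t⁻¹ (inv_mem ht)
        rw [inv_inv] at hl
        have : t⁻¹ * g * t = g * (g⁻¹ * (t⁻¹ * g * t)) := by group
        rw [this, hlam'.mul _ hg _ (D'.le_fixPart hl), hlam'.triv _ (D.le_fixPart hl), mul_one]
    · have e : inn C' (cj x⁻¹ θe) (fun g => βe g * lam' g) = inn C' θe βe := by
        unfold inn
        congr 1
        refine Finset.sum_congr rfl fun g hg => ?_
        rw [mem_mems] at hg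
        rw [congrFun hlameq g, map_mul]
        simp only [lam', if_pos hg]
        linear_combination (θe g * conj (βe g)) * hlam.conj_mul (D'.fixPart_le hg)
      rw [mult, e]
      exact D'.down_spec hθe'
  -- evaluate both sums
  rw [W_eq hKJ hθ'.1.1 hθe hθres hxK hxJn hyJ hyK hxyK (w := lam y) (fun m hm => ?_),
    W_eq (J := C') (hC'eq ▸ le_sup_right) hβ.1.1 hβe.1.1 hβres hxC (norm_fixPart_of_norm hxL hxJn hxT)
      (Subgroup.mem_inf.2 ⟨hyJ, hy⟩) hyC hxy (w := lam y) (fun m hm => ?_)]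
  · have h := congrFun hkey (y * m)
    have hyC' : y ∈ C' := Subgroup.mem_inf.2 ⟨hyJ, hy⟩
    have hmC' : m ∈ C' := by rw [hC'eq]; exact Subgroup.mem_sup_right hm
    rw [cj_apply, inv_inv, hlam'.mul _ hyC' _ hmC', hlam'.triv m hm, mul_one] at h
    rw [← hβedef, h, mul_comm]
    simp [lam', hyC']
  · have h := congrFun hlameq (y * m)
    rw [cj_apply, inv_inv, hlam.mul _ hyJ _ (hKJ hm), hlam.triv m hm, mul_one] at h
    rw [h, mul_comm]

end Lay

end CfsgLib.RelMcKay
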