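import Cfsg.Agent.Lib.RelMcKay.Congr
import Cfsg.Agent.Lib.CharDeep.LinearExt
import Cfsg.Agent.Lib.Char.CentralOver
import Cfsg.Agent.Lib.Char.Equiv
import Cfsg.Agent.Lib.Glauberman.CoverSum

/-!
# Extensions, their twists by linear characters, and their values on cosets
-/

set_option autoImplicit false
set_option linter.unusedSectionVars false
set_option linter.style.haveILetI false

namespace CfsgLib.RelMcKay

open Cfsg
open scoped ComplexConjugate

attribute [local instance] Classical.propDecidable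

universe u

variable {G : Type u} [Group G] [Fintype G]

/-- A linear character of `J` trivial on `K`, extended by zero. -/
structure IsLin (J K : Subgroup G) (lam : G → ℂ) : Prop where
  mul : ∀ x ∈ J, ∀ y ∈ J, lam (x * y) = lam x * lam y
  triv : ∀ k ∈ K, lam k = 1
  supp : ∀ x, x ∉ J → lam x = 0

namespace IsLin

variable {J K : Subgroup G} {lam : G → ℂ}

theorem one (h : IsLin J K lam) : lam 1 = 1 := h.triv 1 (one_mem K)

theorem map_inv (h : IsLin J K lam) {x : G} (hx : x ∈ J) : lam x⁻¹ * lam x = 1 := by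
  rw [← h.mul _ (inv_mem hx) _ hx, inv_mul_cancel, h.one]

theorem ne_zero (h : IsLin J K lam) {x : G} (hx : x ∈ J) : lam x ≠ 0 :=
  right_ne_zero_of_mul_eq_one (h.map_inv hx)

theorem map_pow (h : IsLin J K lam) {x : G} (hx : x ∈ J) (n : ℕ) : lam (x ^ n) = lam x ^ n := by
  induction n with
  | zero => simp [h.one]
  | succ n ih => rw [pow_succ, pow_succ, h.mul _ (pow_mem hx n) _ hx, ih]

/-- The homomorphism behind a linear character. -/
noncomputable def hom (h : IsLin J K lam) : J →* ℂˣ where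
  toFun x := Units.mk0 (lam x) (h.ne_zero x.2)
  map_one' := Units.ext h.one
  map_mul' x y := Units.ext (h.mul x x.2 y y.2)

theorem conj_mul (h : IsLin J K lam) {x : G} (hx : x ∈ J) : lam x * conj (lam x) = 1 := by
  have h1 : conj (lam x) = lam x⁻¹ := by
    have := Char.IsIrrCharacter.apply_inv (Char.isIrrCharacter_monoidHom h.hom) ⟨x, hx⟩
    exact this.symm
  rw [h1, mul_comm]
  exact h.map_inv hx

end IsLin

/-- An irreducible character with irreducible restriction: the underlying representation. -/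
theorem exists_rep_res {J K : Subgroup G} (hKJ : K ≤ J) {μ : G → ℂ} (hμ : IrrOn J μ)
    (h1 : inn K μ μ = 1) :
    ∃ (d : ℕ) (ρ : Representation ℂ J (Fin d → ℂ)),
      Representation.IsIrreducible (ρ.comp (Subgroup.inclusion hKJ) : Representation ℂ K (Fin d → ℂ)) ∧
      (∀ x : J, ρ.character x = μ x) ∧ (d : ℂ) = μ 1 := by
  obtain ⟨d, ρ, -, hρ⟩ := id hμ.irr
  have hres := Char.IsCharacter.isIrrCharacter_of_classInner_self (hμ.charOn_sub hKJ)
    (by rw [← inn_eq, h1])
  obtain ⟨n, σ, hσ, hσc⟩ := hres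
  haveI := hσ
  let ρK : Representation ℂ K (Fin d → ℂ) := ρ.comp (Subgroup.inclusion hKJ)
  have hchar : σ.character = ρK.character := by
    rw [hσc]
    funext k
    show μ k = ρ.character (Subgroup.inclusion hKJ k)
    rw [hρ]
    rfl
  obtain ⟨e⟩ := Char.nonempty_equiv_of_character_eq σ ρK hchar
  refine ⟨d, ρ, Char.isIrreducible_of_equiv e, fun x => congrFun hρ x, ?_⟩
  have := congrFun hρ 1
  rw [Representation.char_one, Module.finrank_fin_fun] at this
  simpa using this

/-- The contracted average over a normal subgroup on which the representation stays irreducible. -/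
theorem sum_conj_apply {J K : Subgroup G} (hKJ : K ≤ J) {μ : G → ℂ} (hμ : IrrOn J μ)
    (h1 : inn K μ μ = 1) {a b : G} (ha : a ∈ J) (hb : b ∈ J) :
    ∑ n ∈ mems K, μ (n * a * n⁻¹ * b) = (Nat.card K : ℂ) / μ 1 * (μ a * μ b) := by
  obtain ⟨d, ρ, hirr, hρ, hd⟩ := exists_rep_res hKJ hμ h1
  haveI := hirr
  let ι := Subgroup.inclusion hKJ
  set A := ρ ⟨a, ha⟩
  set B := ρ ⟨b, hb⟩
  set S : Module.End ℂ (Fin d → ℂ) := ∑ n : K, ρ (ι n) * A * ρ (ι n⁻¹) with hS
  have hcomm : ∀ k : K, S * (ρ.comp ι : Representation ℂ K (Fin d → ℂ)) k =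
      (ρ.comp ι : Representation ℂ K (Fin d → ℂ)) k * S := by
    intro k
    rw [hS, Finset.sum_mul, Finset.mul_sum]
    refine Fintype.sum_equiv (Equiv.mulLeft k⁻¹) _ _ fun n => ?_
    simp only [Equiv.coe_mulLeft, MonoidHom.comp_apply]
    simp only [A, ← map_mul]
    congr 1
    exact Subtype.ext (by simp [ι, mul_assoc])
  obtain ⟨c, hc⟩ := Char.exists_scalar_of_commute (ρ.comp ι : Representation ℂ K (Fin d → ℂ)) S hcomm
  have htr : LinearMap.trace ℂ (Fin d → ℂ) S = (Nat.card K : ℂ) * μ a := by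
    rw [hS, map_sum]
    have : ∀ n : K, LinearMap.trace ℂ (Fin d → ℂ) (ρ (ι n) * A * ρ (ι n⁻¹)) = μ a := by
      intro n
      simp only [A, ← map_mul]
      show ρ.character _ = _
      rw [hρ]
      exact hμ.apply_conj (hKJ n.2) a
    rw [Finset.sum_congr rfl fun n _ => this n, Finset.sum_const, Finset.card_univ,
      ← Nat.card_eq_fintype_card, nsmul_eq_mul]
  rw [hc, map_smul, LinearMap.trace_one, Module.finrank_fin_fun, smul_eq_mul, hd] at htr
  have hterm : ∀ n : K, μ ((n : G) * a * (n : G)⁻¹ * b) =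
      LinearMap.trace ℂ (Fin d → ℂ) (ρ (ι n) * A * ρ (ι n⁻¹) * B) := by
    intro n
    rw [← map_mul, ← map_mul, ← map_mul]
    exact (hρ (ι n * ⟨a, ha⟩ * ι n⁻¹ * ⟨b, hb⟩)).symm
  rw [sum_mems, Finset.sum_congr rfl fun n _ => hterm n, ← map_sum, ← Finset.sum_mul, ← hS, hc,
    smul_mul_assoc, one_mul, map_smul, smul_eq_mul]
  show c * ρ.character ⟨b, hb⟩ = _
  rw [hρ]
  field_simp [hμ.apply_one_ne]
  linear_combination μ b * htr

/-- The square norm on a coset. -/
theorem sum_coset_sq {J K : Subgroup G} (hKJ : K ≤ J) {μ : G → ℂ} (hμ : IrrOn J μ)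
    (h1 : inn K μ μ = 1) {y : G} (hy : y ∈ J) :
    ∑ n ∈ mems K, μ (y * n) * conj (μ (y * n)) = (Nat.card K : ℂ) := by
  obtain ⟨d, ρ, hirr, hρ, hd⟩ := exists_rep_res hKJ hμ h1
  haveI := hirr
  let ι := Subgroup.inclusion hKJ
  have h := Glauberman.sum_trace_mul_trace (ρ.comp ι : Representation ℂ K (Fin d → ℂ))
    (ρ ⟨y, hy⟩) (ρ ⟨y, hy⟩⁻¹)
  rw [← map_mul, mul_inv_cancel, map_one, LinearMap.trace_one, Module.finrank_fin_fun,
    div_mul_cancel₀ _ (by rw [hd]; exact hμ.apply_one_ne)] at h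
  rw [sum_mems, ← h]
  refine Finset.sum_congr rfl fun n _ => ?_
  rw [MonoidHom.comp_apply, MonoidHom.comp_apply, ← map_mul ρ, ← map_mul ρ]
  show _ = ρ.character (⟨y, hy⟩ * ι n) * ρ.character (ι n⁻¹ * ⟨y, hy⟩⁻¹)
  rw [hρ, hρ, ← hμ.apply_inv]
  simp [ι]

theorem exists_ne_zero_coset {J K : Subgroup G} (hKJ : K ≤ J) {μ : G → ℂ} (hμ : IrrOn J μ)
    (h1 : inn K μ μ = 1) {y : G} (hy : y ∈ J) : ∃ n ∈ K, μ (y * n) ≠ 0 := by
  by_contra hcon
  push Not at hcon
  have h := sum_coset_sq hKJ hμ h1 hy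
  rw [Finset.sum_eq_zero fun n hn => by rw [hcon n (mem_mems.1 hn), zero_mul]] at h
  exact Nat.cast_ne_zero.2 Nat.card_pos.ne' h.symm

/-- The twist of an extension by a linear character. -/
theorem irrOn_twist {J K : Subgroup G} {μ lam : G → ℂ} (hμ : IrrOn J μ) (hlam : IsLin J K lam) :
    IrrOn J (fun x => μ x * lam x) := by
  refine ⟨Char.IsCharacter.isIrrCharacter_of_classInner_self ?_ ?_,
    fun x hx => by rw [hμ.supp x hx, zero_mul]⟩
  · exact Char.IsCharacter.mul hμ.charOn
      (Char.IsIrrCharacter.isCharacter (Char.isIrrCharacter_monoidHom hlam.hom))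
  · rw [← hμ.inn_self, inn_eq]
    unfold Cfsg.classInner
    congr 1
    refine Finset.sum_congr rfl fun x _ => ?_
    rw [map_mul]
    linear_combination (μ x * conj (μ x)) * hlam.conj_mul x.2

theorem twist_injective {J K : Subgroup G} (hKJ : K ≤ J) {μ lam lam' : G → ℂ} (hμ : IrrOn J μ)
    (h1 : inn K μ μ = 1) (hlam : IsLin J K lam) (hlam' : IsLin J K lam')
    (h : ∀ x ∈ J, μ x * lam x = μ x * lam' x) : lam = lam' := by
  funext x
  by_cases hx : x ∈ J
  · obtain ⟨n, hn, hne⟩ := exists_ne_zero_coset hKJ hμ h1 hx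
    have := mul_left_cancel₀ hne (h _ (mul_mem hx (hKJ hn)))
    rwa [hlam.mul _ hx _ (hKJ hn), hlam'.mul _ hx _ (hKJ hn), hlam.triv n hn, hlam'.triv n hn,
      mul_one, mul_one] at this
  · rw [hlam.supp x hx, hlam'.supp x hx]

/-- A character containing the restriction of an extension is a twist of that extension. -/
theorem exists_twist {J K : Subgroup G} (hKJ : K ≤ J)
    (hn : J ≤ Subgroup.normalizer (K : Set G)) {μ η : G → ℂ} (hμ : IrrOn J μ)
    (h1 : inn K μ μ = 1) (hη : IrrOn J η) (hm : mult K η μ ≠ 0)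
    (hcase : mult K η μ = 1 ∨ ∀ a ∈ J, ∀ b ∈ J, a⁻¹ * b⁻¹ * a * b ∈ K) :
    ∃ lam, IsLin J K lam ∧ η = fun x => μ x * lam x := by
  haveI : (K.subgroupOf J).Normal := Subgroup.normal_subgroupOf_of_le_normalizer hn
  set Q := J ⧸ K.subgroupOf J
  haveI : Fintype Q := Fintype.ofFinite Q
  let mk := QuotientGroup.mk' (K.subgroupOf J)
  let μb : IrrCharacter Q → J → ℂ := fun β x => μ x * conj ((β : Q → ℂ) (mk x))
  have hμb : ∀ β, Cfsg.IsCharacter J (μb β) := fun β =>
    Char.IsCharacter.mul hμ.charOn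
      (Char.IsCharacter.comp (Char.IsIrrCharacter.isCharacter (CharTwist.isIrrCharacter_conj β.2)) mk)
  choose m hm' using fun β =>
    Char.IsCharacter.exists_nat_classInner' hη.charOn (hμb β)
  choose deg hdeg0 hdeg using fun β : IrrCharacter Q => Char.IsIrrCharacter.exists_degree β.2
  have hsum : mult K η μ = ∑ β, deg β * m β := by
    have hJ0 : (Nat.card J : ℂ) ≠ 0 := by exact_mod_cast Nat.card_pos.ne'
    have hQ : (Nat.card Q : ℂ) * (Nat.card K : ℂ) = (Nat.card J : ℂ) := by
      rw [← Nat.cast_mul, ← Nat.card_congr (Subgroup.subgroupOfEquivOfLe hKJ).toEquiv,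
        ← Subgroup.index, Subgroup.index_mul_card]
    have h : (mult K η μ : ℂ) = ((∑ β, deg β * m β : ℕ) : ℂ) := by
      rw [mult_cast (hη.charOn_sub hKJ) (hμ.charOn_sub hKJ), Nat.cast_sum]
      simp only [Nat.cast_mul, ← hm', ← hdeg, Cfsg.classInner, μb, map_mul, Complex.conj_conj,
        Finset.mul_sum]
      rw [Finset.sum_comm]
      have e : ∀ x : J, ∑ β : IrrCharacter Q, (β : Q → ℂ) 1 * ((Nat.card J : ℂ)⁻¹ *
          (η x * (conj (μ x) * (β : Q → ℂ) (mk x)))) =
          if (x : G) ∈ K then (Nat.card K : ℂ)⁻¹ * (η x * conj (μ x)) else 0 := by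
        intro x
        have h2 := Char.sum_apply_one_mul (G := Q) (mk x)
        have h3 : (mk x = 1) ↔ (x : G) ∈ K := by
          rw [QuotientGroup.mk'_apply, QuotientGroup.eq_one_iff, Subgroup.mem_subgroupOf]
        calc _ = (Nat.card J : ℂ)⁻¹ * (η x * conj (μ x)) *
              ∑ β : IrrCharacter Q, (β : Q → ℂ) 1 * (β : Q → ℂ) (mk x) := by
              rw [Finset.mul_sum]; exact Finset.sum_congr rfl fun β _ => by ring
          _ = _ := by
            rw [h2]
            by_cases hx : (x : G) ∈ K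
            · rw [if_pos (h3.2 hx), if_pos hx, ← hQ]
              have : (Nat.card K : ℂ) ≠ 0 := by exact_mod_cast Nat.card_pos.ne'
              have : (Nat.card Q : ℂ) ≠ 0 := by exact_mod_cast Nat.card_pos.ne'
              field_simp
            · rw [if_neg fun hc => hx (h3.1 hc), if_neg hx, mul_zero]
      rw [Finset.sum_congr rfl fun x _ => e x, inn, Finset.mul_sum, ← sum_mems J
        (fun x => if x ∈ K then (Nat.card K : ℂ)⁻¹ * (η x * conj (μ x)) else 0), ← Finset.sum_filter]
      refine Finset.sum_congr ?_ fun _ _ => rfl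
      ext x
      simp only [Finset.mem_filter, mem_mems]
      exact ⟨fun h => ⟨hKJ h, h⟩, fun h => h.2⟩
    exact_mod_cast h
  obtain ⟨β, hβ⟩ : ∃ β, deg β * m β ≠ 0 := by
    by_contra hcon
    push Not at hcon
    exact hm (hsum.trans (Finset.sum_eq_zero fun β _ => hcon β))
  have hβ1 : deg β = 1 := by
    rcases hcase with h | h
    · rw [h] at hsum
      have := Finset.single_le_sum (f := fun β => deg β * m β) (fun _ _ => Nat.zero_le _)
        (Finset.mem_univ β)
      simp only [← hsum] at this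
      exact Nat.eq_one_of_mul_eq_one_right (m := deg β) (n := m β) (by omega)
    · have hab : ∀ a b : Q, a * b = b * a := by
        intro a b
        obtain ⟨a, rfl⟩ := QuotientGroup.mk_surjective a
        obtain ⟨b, rfl⟩ := QuotientGroup.mk_surjective b
        rw [← QuotientGroup.mk_mul, ← QuotientGroup.mk_mul, QuotientGroup.eq,
          Subgroup.mem_subgroupOf]
        simpa [mul_assoc] using h b b.2 a a.2
      have := (CharOver.abelian_irr hab β.2).1
      rw [hdeg β] at this
      exact_mod_cast this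
  obtain ⟨f, hf⟩ := CharDeep.Lin.exists_hom_of_deg_one (Char.IsIrrCharacter.isCharacter β.2)
    (by rw [hdeg β, hβ1, Nat.cast_one])
  let lam : G → ℂ := fun x => if hx : x ∈ J then conj (f (mk ⟨x, hx⟩) : ℂ) else 0
  have hlam : IsLin J K lam := by
    refine ⟨fun x hx y hy => ?_, fun k hk => ?_, fun x hx => dif_neg hx⟩
    · simp only [lam, dif_pos hx, dif_pos hy, dif_pos (mul_mem hx hy), ← map_mul, ← Units.val_mul]
      rfl
    · simp only [lam, dif_pos (hKJ hk)]
      rw [show mk ⟨k, hKJ hk⟩ = 1 from (QuotientGroup.eq_one_iff _).2 hk, map_one, Units.val_one,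
        map_one]
  refine ⟨lam, hlam, hη.eq_of_inn (irrOn_twist hμ hlam) ?_⟩
  rw [inn_eq]
  have e : (fun x : J => μ x * lam x) = μb β := by
    funext x
    simp only [lam, μb, dif_pos x.2, hf]
  rw [e, hm' β]
  exact_mod_cast (Nat.mul_ne_zero_iff.1 hβ).2

end CfsgLib.RelMcKay
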