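import Cfsg.Agent.Lib.RelMcKay.Layer
import Cfsg.Agent.Lib.RelMcKay.Twist

/-!
# Extensions to a cyclic overgroup and characters fixed by a centralizing element
-/

set_option autoImplicit false
set_option linter.unusedSectionVars false
set_option linter.style.haveILetI false

namespace CfsgLib.RelMcKay

open Cfsg
open scoped ComplexConjugate

attribute [local instance] Classical.propDecidable

universe u

variable {G : Type u} [Group G] [Fintype G]

theorem mem_sup_zpowers {K : Subgroup G} {y : G} (hy : y ∈ Subgroup.normalizer (K : Set G)) {g : G} :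
    g ∈ Subgroup.zpowers y ⊔ K ↔ ∃ i : ℤ, ∃ k ∈ K, g = y ^ i * k := by
  rw [← SetLike.mem_coe, Subgroup.coe_mul_of_left_le_normalizer_right _ _
    (Subgroup.zpowers_le.2 hy), Set.mem_mul]
  constructor
  · rintro ⟨a, ha, k, hk, rfl⟩
    obtain ⟨i, rfl⟩ := Subgroup.mem_zpowers_iff.1 ha
    exact ⟨i, k, hk, rfl⟩
  · rintro ⟨i, k, hk, rfl⟩
    exact ⟨y ^ i, Subgroup.zpow_mem _ (Subgroup.mem_zpowers y) i, k, hk, rfl⟩

theorem sup_zpowers_le_normalizer {K : Subgroup G} {y : G}
    (hy : y ∈ Subgroup.normalizer (K : Set G)) :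
    Subgroup.zpowers y ⊔ K ≤ Subgroup.normalizer (K : Set G) :=
  sup_le (Subgroup.zpowers_le.2 hy) Subgroup.le_normalizer

theorem comm_mem_of_cyclic {K : Subgroup G} {y : G} (hy : y ∈ Subgroup.normalizer (K : Set G))
    {a b : G} (ha : a ∈ Subgroup.zpowers y ⊔ K) (hb : b ∈ Subgroup.zpowers y ⊔ K) :
    a⁻¹ * b⁻¹ * a * b ∈ K := by
  obtain ⟨i, k, hk, rfl⟩ := (mem_sup_zpowers hy).1 ha
  obtain ⟨j, l, hl, rfl⟩ := (mem_sup_zpowers hy).1 hb
  have hc : ∀ (n : ℤ) (c : G), c ∈ K → (y ^ n)⁻¹ * c * y ^ n ∈ K := fun n c hc =>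
    (norm_mem_iff (zpow_mem hy n) c).2 hc
  have e : (y ^ i * k)⁻¹ * (y ^ j * l)⁻¹ * (y ^ i * k) * (y ^ j * l) =
      k⁻¹ * ((y ^ i)⁻¹ * l⁻¹ * y ^ i) * ((y ^ j)⁻¹ * k * y ^ j) * l := by group
  rw [e]
  exact mul_mem (mul_mem (mul_mem (inv_mem hk) (hc i _ (inv_mem hl))) (hc j _ hk)) hl

/-- Invariant characters extend to a cyclic overgroup. -/
theorem exists_ext {K : Subgroup G} {y : G} (hy : y ∈ Subgroup.normalizer (K : Set G)) {θ : G → ℂ}
    (hθ : IrrOn K θ) (hfix : cj y θ = θ) :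
    ∃ μ, IrrOn (Subgroup.zpowers y ⊔ K) μ ∧ ∀ k ∈ K, μ k = θ k := by
  set J := Subgroup.zpowers y ⊔ K with hJ
  have hKJ : K ≤ J := le_sup_right
  haveI : (K.subgroupOf J).Normal :=
    Subgroup.normal_subgroupOf_of_le_normalizer (sup_zpowers_le_normalizer hy)
  have hinvJ : ∀ g ∈ J, cj g θ = θ := by
    intro g hg
    obtain ⟨i, k, hk, rfl⟩ := (mem_sup_zpowers hy).1 hg
    have hS : y ^ i ∈ ({ carrier := {g | cj g θ = θ}
                         one_mem' := cj_one θ
                         mul_mem' := fun ha hb => cj_mul' ha hb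
                         inv_mem' := fun ha => cj_inv ha } : Subgroup G) :=
      zpow_mem (show cj y θ = θ from hfix) i
    exact cj_mul' hS (cj_of_mem hθ hk)
  have hcyc : IsCyclic (J ⧸ K.subgroupOf J) := by
    refine ⟨⟨((⟨y, Subgroup.mem_sup_left (Subgroup.mem_zpowers y)⟩ : J) : J ⧸ K.subgroupOf J),
      fun q => ?_⟩⟩
    obtain ⟨⟨g, hg⟩, rfl⟩ := QuotientGroup.mk_surjective q
    obtain ⟨i, k, hk, rfl⟩ := (mem_sup_zpowers hy).1 hg
    refine ⟨i, ?_⟩
    show _ ^ i = _
    rw [← QuotientGroup.mk_zpow, QuotientGroup.eq, Subgroup.mem_subgroupOf]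
    simpa using hk
  obtain ⟨χ, hχ, hres⟩ := CharDeep.Extend.extends_of_cyclic (K.subgroupOf J)
    (fun n : K.subgroupOf J => θ ((n : J) : G))
    (CharTwist.isIrrCharacter_comp_equiv hθ.irr (Subgroup.subgroupOfEquivOfLe hKJ))
    (fun g n => by
      have h := congrFun (hinvJ (g : G)⁻¹ (inv_mem g.2)) ((n : J) : G)
      simpa [cj] using h)
    hcyc
  refine ⟨extendByZero J χ, mem_irrs.1 (Finset.mem_image.2 ⟨⟨χ, hχ⟩, Finset.mem_univ _, rfl⟩),
    fun k hk => ?_⟩
  rw [Char.extendByZero_apply_mem J _ (hKJ hk)]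
  exact hres ⟨⟨k, hKJ hk⟩, hk⟩

/-- A character of a cyclic overgroup over an invariant character extends it. -/
theorem res_eq_of_cyclic {K : Subgroup G} {y : G} (hy : y ∈ Subgroup.normalizer (K : Set G))
    {θ η : G → ℂ} (hθ : IrrOn K θ) (hfix : cj y θ = θ)
    (hη : IrrOn (Subgroup.zpowers y ⊔ K) η) (h : mult K η θ ≠ 0) :
    ∀ k ∈ K, η k = θ k := by
  obtain ⟨μ, hμ, hres⟩ := exists_ext hy hθ hfix
  have h1 : inn K μ μ = 1 := by rw [inn_congr hres hres]; exact hθ.inn_self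
  have hm : mult K η μ ≠ 0 := by
    rwa [mult, inn_congr (fun _ _ => rfl) hres]
  obtain ⟨lam, hlam, rfl⟩ := exists_twist le_sup_right (sup_zpowers_le_normalizer hy) hμ h1 hη hm
    (Or.inr fun a ha b hb => comm_mem_of_cyclic hy ha hb)
  intro k hk
  simp [hlam.triv k hk, hres k hk]

/-- An extension to a cyclic overgroup of order prime to `p` is fixed by a `p`-element. -/
theorem cyclic_ext_fixed {p : ℕ} [Fact p.Prime] {K : Subgroup G} {y t : G}
    (hy : y ∈ Subgroup.normalizer (K : Set G)) {θ μ : G → ℂ} (hθ : IrrOn K θ)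
    (hμ : IrrOn (Subgroup.zpowers y ⊔ K) μ) (hres : ∀ k ∈ K, μ k = θ k)
    (htK : t ∈ Subgroup.normalizer (K : Set G)) (htθ : cj t θ = θ)
    (hty : y⁻¹ * (t⁻¹ * y * t) ∈ K) {j : ℕ} (htp : cj (t ^ p ^ j) μ = μ)
    {o : ℕ} (hyo : y ^ o ∈ K) (hpo : ¬ p ∣ o) : cj t μ = μ := by
  set J := Subgroup.zpowers y ⊔ K with hJ
  have hKJ : K ≤ J := le_sup_right
  have hyJ : y ∈ J := Subgroup.mem_sup_left (Subgroup.mem_zpowers y)
  have h1 : inn K μ μ = 1 := by rw [inn_congr hres hres]; exact hθ.inn_self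
  have hstab : ∀ g ∈ J, g⁻¹ * (t⁻¹ * g * t) ∈ K := by
    intro g hg
    obtain ⟨i, k, hk, rfl⟩ := (mem_sup_zpowers hy).1 hg
    have hS : y ^ i ∈ ({ carrier := {g | g ∈ Subgroup.normalizer (K : Set G) ∧ g⁻¹ * (t⁻¹ * g * t) ∈ K}
                         one_mem' := ⟨one_mem _, by simp⟩
                         mul_mem' := by
                           rintro a b ⟨ha, ha'⟩ ⟨hb, hb'⟩
                           refine ⟨mul_mem ha hb, ?_⟩
                           have e : (a * b)⁻¹ * (t⁻¹ * (a * b) * t) =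
                               b⁻¹ * (a⁻¹ * (t⁻¹ * a * t)) * b * (b⁻¹ * (t⁻¹ * b * t)) := by group
                           rw [e]
                           exact mul_mem ((norm_mem_iff hb _).2 ha') hb'
                         inv_mem' := by
                           rintro a ⟨ha, ha'⟩
                           refine ⟨inv_mem ha, ?_⟩
                           have e : a⁻¹⁻¹ * (t⁻¹ * a⁻¹ * t) =
                               a * (a⁻¹ * (t⁻¹ * a * t))⁻¹ * a⁻¹ := by group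
                           rw [e]
                           exact (Subgroup.mem_normalizer_iff.1 ha _).1 (inv_mem ha') } : Subgroup G) :=
      zpow_mem (show y ∈ Subgroup.normalizer (K : Set G) ∧ _ from ⟨hy, hty⟩) i
    have e : (y ^ i * k)⁻¹ * (t⁻¹ * (y ^ i * k) * t) =
        k⁻¹ * ((y ^ i)⁻¹ * (t⁻¹ * y ^ i * t)) * (t⁻¹ * k * t) := by group
    rw [e]
    exact mul_mem (mul_mem (inv_mem hk) hS.2) ((norm_mem_iff htK k).2 hk)
  have htJ : t ∈ Subgroup.normalizer (J : Set G) := by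
    have hle : ∀ g ∈ J, t⁻¹ * g * t ∈ J := fun g hg => by
      have := mul_mem hg (hKJ (hstab g hg))
      rwa [mul_inv_cancel_left] at this
    refine Subgroup.mem_normalizer_iff.2 fun g => ⟨fun hg => ?_, fun hg => ?_⟩
    · -- the conjugate of `J` by `t⁻¹` lies in `J`, hence equals it
      have hmap : J.map (MulAut.conj t⁻¹).toMonoidHom = J :=
        Subgroup.eq_of_le_of_card_ge (by
          rintro _ ⟨a, ha, rfl⟩
          simpa [mul_assoc] using hle a ha)
          (by rw [Subgroup.card_map_of_injective (MulEquiv.injective _)])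
      rw [← hmap] at hg
      obtain ⟨a, ha, hag⟩ := hg
      rw [← hag]
      simpa [mul_assoc] using ha
    · have := hle _ hg
      simpa [mul_assoc] using this
  have hcμ : IrrOn J (cj t μ) := hμ.cj htJ
  have hm : mult K (cj t μ) μ = 1 := by
    have hk : ∀ k ∈ K, cj t μ k = θ k := fun k hk => by
      show μ (t⁻¹ * k * t) = θ k
      rw [hres _ ((norm_mem_iff htK k).2 hk)]
      exact congrFun htθ k
    rw [mult, inn_congr hk hres, hθ.inn_self]
    simp
  obtain ⟨lam, hlam, he⟩ := exists_twist hKJ (sup_zpowers_le_normalizer hy) hμ h1 hcμ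
    (by rw [hm]; exact one_ne_zero) (Or.inl hm)
  have hlt : ∀ g ∈ J, lam (t⁻¹ * g * t) = lam g := by
    intro g hg
    have : t⁻¹ * g * t = g * (g⁻¹ * (t⁻¹ * g * t)) := by group
    rw [this, hlam.mul _ hg _ (hKJ (hstab g hg)), hlam.triv _ (hstab g hg), mul_one]
  have hiter : ∀ n : ℕ, ∀ g ∈ J, cj (t ^ n) μ g = μ g * lam g ^ n := by
    intro n
    induction n with
    | zero => intro g _; simp [cj_one]
    | succ n ih =>
      intro g hg
      rw [pow_succ', ← cj_cj]
      show cj (t ^ n) μ (t⁻¹ * g * t) = _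
      have hg' : t⁻¹ * g * t ∈ J := (norm_mem_iff htJ g).2 hg
      rw [ih _ hg', hlt g hg]
      have := congrFun he g
      rw [cj_apply] at this
      rw [this, pow_succ]
      ring
  obtain ⟨n, hn, hne⟩ := exists_ne_zero_coset hKJ hμ h1 hyJ
  have hyn : y * n ∈ J := mul_mem hyJ (hKJ hn)
  have hlp : lam y ^ p ^ j = 1 := by
    have h := hiter (p ^ j) _ hyn
    rw [htp, hlam.mul _ hyJ _ (hKJ hn), hlam.triv n hn, mul_one] at h
    exact (mul_left_cancel₀ hne (by rw [mul_one]; exact h)).symm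
  have hlo : lam y ^ o = 1 := by rw [← hlam.map_pow hyJ, hlam.triv _ hyo]
  have hly : lam y = 1 := by
    have hcop : Nat.Coprime (p ^ j) o :=
      Nat.Coprime.pow_left j ((Fact.out : p.Prime).coprime_iff_not_dvd.2 hpo)
    have := (pow_gcd_eq_one (a := lam y)).mpr ⟨hlp, hlo⟩
    rwa [hcop.gcd_eq_one, pow_one] at this
  have hall : ∀ g ∈ J, lam g = 1 := by
    intro g hg
    obtain ⟨i, k, hk, rfl⟩ := (mem_sup_zpowers hy).1 hg
    have hS : y ^ i ∈ ({ carrier := {g | g ∈ J ∧ lam g = 1}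
                         one_mem' := ⟨one_mem _, hlam.one⟩
                         mul_mem' := fun ha hb => ⟨mul_mem ha.1 hb.1,
                           by rw [hlam.mul _ ha.1 _ hb.1, ha.2, hb.2, one_mul]⟩
                         inv_mem' := fun ha => ⟨inv_mem ha.1,
                           by have := hlam.map_inv ha.1; rwa [ha.2, mul_one] at this⟩ } : Subgroup G) :=
      zpow_mem (show y ∈ J ∧ lam y = 1 from ⟨hyJ, hly⟩) i
    rw [hlam.mul _ hS.1 _ (hKJ hk), hS.2, hlam.triv k hk, one_mul]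
  refine hcμ.ext hμ fun g hg => ?_
  rw [congrFun he g, hall g hg, mul_one]

/-- An element centralizing the layer fixes every character over `ν`. -/
theorem Lay.fixed_of_centralize {p : ℕ} [Fact p.Prime] {L K T : Subgroup G} {ν : G → ℂ}
    (D : Lay p L K T ν) {t : G} (ht : t ∈ T) (hc : ∀ k ∈ K, k⁻¹ * (t * k * t⁻¹) ∈ L) {θ : G → ℂ}
    (hθ : Over L K ν θ) : cj t θ = θ := by
  refine (hθ.1.cj (D.TnormK ht)).ext hθ.1 fun k hk => ?_
  have hkL := D.Knorm hk
  set J := Subgroup.zpowers k ⊔ L with hJ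
  have hJK : J ≤ K := sup_le (Subgroup.zpowers_le.2 hk) D.LK
  have hLJ : L ≤ J := le_sup_right
  have hkJ : k ∈ J := Subgroup.mem_sup_left (Subgroup.mem_zpowers k)
  haveI : (L.subgroupOf K).Normal := Subgroup.normal_subgroupOf_of_le_normalizer D.Knorm
  have hko : k ^ L.relIndex K ∈ L := by
    have := (L.subgroupOf K).pow_index_mem ⟨k, hk⟩
    simpa [Subgroup.mem_subgroupOf, Subgroup.relIndex] using this
  have htk : k⁻¹ * (t⁻¹ * k * t) ∈ L := by
    have h1 := hc k hk
    have e : k⁻¹ * (t⁻¹ * k * t) = k⁻¹ * (t⁻¹ * (k * (k⁻¹ * (t * k * t⁻¹))⁻¹ * k⁻¹) * t) * k := by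
      group
    rw [e]
    exact (Subgroup.mem_normalizer_iff''.1 hkL _).1
      ((norm_mem_iff (D.TnormL ht) _).2 ((Subgroup.mem_normalizer_iff.1 hkL _).1 (inv_mem h1)))
  have hψ : ∀ ψ ∈ irrs J, mult J θ ψ ≠ 0 → cj t ψ = ψ := by
    intro ψ hψ hm
    have hover := D.constituent_over hLJ hJK hθ (mem_irrs.1 hψ) hm
    have hres := res_eq_of_cyclic hkL D.nu (D.invK k hk) hover.1 hover.2
    obtain ⟨j, hj⟩ := D.pT t ht
    exact cyclic_ext_fixed hkL D.nu hover.1 hres (D.TnormL ht) (D.invT t ht) htk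
      (cj_of_mem hover.1 (hLJ hj)) hko D.cop
  have hk' : t⁻¹ * k * t ∈ J := by
    have := mul_mem hkJ (hLJ htk)
    rwa [mul_inv_cancel_left] at this
  rw [cj_apply, (hθ.1.charOn_sub hJK).decomp hk', (hθ.1.charOn_sub hJK).decomp hkJ]
  refine Finset.sum_congr rfl fun ψ hψ' => ?_
  by_cases hm : mult J θ ψ = 0
  · simp [hm]
  · rw [← congrFun (hψ ψ hψ' hm) k, cj_apply]

end CfsgLib.RelMcKay
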