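import Cfsg.Agent.Lib.RelMcKay.Count
import Cfsg.Agent.Lib.RelMcKay.Ext

/-!
# Extensions to a `p`-extension and their fixed points
-/

set_option autoImplicit false
set_option linter.unusedSectionVars false
set_option linter.style.haveILetI false

namespace CfsgLib.RelMcKay

open Cfsg
open scoped ComplexConjugate

attribute [local instance] Classical.propDecidable

universe u

variable {G : Type u} [Group G] [Fintype G] {p : ℕ} [Fact p.Prime]

namespace IsLin

variable {J K : Subgroup G} {lam lam' : G → ℂ}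

theorem mul' (h : IsLin J K lam) (h' : IsLin J K lam') : IsLin J K (fun x => lam x * lam' x) := by
  refine ⟨fun x hx y hy => ?_, fun k hk => ?_, fun x hx => ?_⟩
  · rw [h.mul x hx y hy, h'.mul x hx y hy]; ring
  · rw [h.triv k hk, h'.triv k hk, one_mul]
  · rw [h.supp x hx, zero_mul]

theorem cj_lin (h : IsLin J K lam) {g : G} (hJ : g ∈ Subgroup.normalizer (J : Set G))
    (hK : g ∈ Subgroup.normalizer (K : Set G)) : IsLin J K (cj g lam) := by
  refine ⟨fun x hx y hy => ?_, fun k hk => h.triv _ ((norm_mem_iff hK k).2 hk),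
    fun x hx => h.supp _ fun h' => hx ((norm_mem_iff hJ x).1 h')⟩
  rw [cj_apply, cj_apply, cj_apply, ← h.mul _ ((norm_mem_iff hJ x).2 hx) _ ((norm_mem_iff hJ y).2 hy)]
  congr 1
  group

theorem pow_relIndex (h : IsLin J K lam) (hn : J ≤ Subgroup.normalizer (K : Set G))
    {x : G} (hx : x ∈ J) : lam x ^ K.relIndex J = 1 := by
  haveI : (K.subgroupOf J).Normal := Subgroup.normal_subgroupOf_of_le_normalizer hn
  have h1 := Subgroup.pow_index_mem (K.subgroupOf J) ⟨x, hx⟩
  rw [Subgroup.mem_subgroupOf, SubgroupClass.coe_pow] at h1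
  rw [← h.map_pow hx]
  exact h.triv _ h1

end IsLin

/-- Equal degree over an invariant character means extension. -/
theorem ext_of_deg {K J : Subgroup G} (hKJ : K ≤ J) (hn : J ≤ Subgroup.normalizer (K : Set G))
    {θ η : G → ℂ} (hθ : IrrOn K θ) (hinv : ∀ g ∈ J, cj g θ = θ) (hη : IrrOn J η)
    (h : mult K η θ ≠ 0) (hd : deg η = deg θ) : mult K η θ = 1 ∧ ∀ k ∈ K, η k = θ k := by
  have hI : iner J θ = J := le_antisymm (iner_le J θ) fun g hg => ⟨hg, hinv g hg⟩
  have he := deg_eq hKJ hn hη hθ h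
  rw [hI, Subgroup.relIndex_self, one_mul, hd] at he
  have h1 : mult K η θ = 1 := Nat.eq_of_mul_eq_mul_right hθ.deg_pos (by rw [one_mul]; exact he.symm)
  refine ⟨h1, fun k hk => ?_⟩
  rw [(hη.charOn_sub hKJ).decomp hk, Finset.sum_eq_single θ]
  · rw [h1, Nat.cast_one, one_mul]
  · intro ψ hψ hne
    suffices h0 : mult K η ψ = 0 by rw [h0, Nat.cast_zero, zero_mul]
    by_contra h0
    obtain ⟨g, hg, e⟩ := exists_cj_eq hKJ hn hη hθ (mem_irrs.1 hψ) h h0
    exact hne (by rw [← e, hinv g hg])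
  · intro h0
    exact absurd (mem_irrs.2 hθ) h0

/-- Multiplicity prime to `p` means extension. -/
theorem ext_of_mult {K J : Subgroup G} (hKJ : K ≤ J) (hn : J ≤ Subgroup.normalizer (K : Set G))
    (hJK : ∃ n, K.relIndex J = p ^ n) {θ η : G → ℂ} (hθ : IrrOn K θ)
    (hinv : ∀ g ∈ J, cj g θ = θ) (hη : IrrOn J η) (h : ¬ p ∣ mult K η θ) :
    ∀ k ∈ K, η k = θ k := by
  have h0 : mult K η θ ≠ 0 := fun e => h (e ▸ dvd_zero p)
  obtain ⟨b, hb, hdvd⟩ := deg_over hKJ hn hθ hinv ⟨hη, h0⟩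
  obtain ⟨n, hn'⟩ := hJK
  have hI : iner J θ = J := le_antisymm (iner_le J θ) fun g hg => ⟨hg, hinv g hg⟩
  have he := deg_eq hKJ hn hη hθ h0
  rw [hI, Subgroup.relIndex_self, one_mul] at he
  have hbe : b = mult K η θ := Nat.eq_of_mul_eq_mul_right hθ.deg_pos (hb.symm.trans he)
  have hm : mult K η θ = 1 := by
    rw [hn', hbe] at hdvd
    obtain ⟨i, -, hi⟩ := (Nat.dvd_prime_pow (Fact.out : p.Prime)).1 hdvd
    rcases i with _ | i
    · rwa [pow_zero] at hi
    · exact absurd (hi ▸ dvd_pow_self p i.succ_ne_zero) h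
  exact (ext_of_deg hKJ hn hθ hinv hη h0 (by rw [he, hm, one_mul])).2

/-- A character of degree prime to `p` restricts irreducibly. -/
theorem irrOn_res_of_deg {K J : Subgroup G} (hKJ : K ≤ J) (hn : J ≤ Subgroup.normalizer (K : Set G))
    (hJK : ∃ n, K.relIndex J = p ^ n) {μ : G → ℂ} (hμ : IrrOn J μ) (hd : ¬ p ∣ deg μ) :
    IrrOn K (res K μ) := by
  obtain ⟨θ, hθ, hm⟩ : ∃ θ ∈ irrs K, mult K μ θ ≠ 0 := by
    by_contra hcon
    push Not at hcon
    have e := (hμ.charOn_sub hKJ).apply_one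
    rw [Finset.sum_eq_zero fun ψ hψ => by rw [hcon ψ hψ, zero_mul], Nat.cast_zero] at e
    exact hμ.apply_one_ne e
  rw [mem_irrs] at hθ
  have he := deg_eq hKJ hn hμ hθ hm
  obtain ⟨n, hn'⟩ := hJK
  have hmul := Subgroup.relIndex_mul_relIndex K (iner J θ) J (le_iner hKJ hθ) (iner_le J θ)
  have hr : (iner J θ).relIndex J = 1 := by
    obtain ⟨i, -, hi⟩ := (Nat.dvd_prime_pow (Fact.out : p.Prime)).1
      (hn' ▸ hmul ▸ dvd_mul_left ((iner J θ).relIndex J) _)
    rcases i with _ | i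
    · rwa [pow_zero] at hi
    · exact absurd (he ▸ ((hi ▸ dvd_pow_self p i.succ_ne_zero : p ∣ (iner J θ).relIndex J).mul_right
        _).mul_right _) hd
  have hinv : ∀ g ∈ J, cj g θ = θ := fun g hg => (Subgroup.relIndex_eq_one.1 hr hg).2
  have hext := ext_of_mult hKJ hn ⟨n, hn'⟩ hθ hinv hμ fun h => hd (by
    rw [he]; exact (h.mul_left _).mul_right _)
  convert hθ using 1
  funext x
  by_cases hx : x ∈ K
  · rw [res_apply hx, hext x hx]
  · rw [res, if_neg hx, hθ.supp x hx]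

/-- A fixed extension exists under a group acting through a `p'`-group. -/
theorem exists_fixed_ext {K J U C : Subgroup G} (hKJ : K ≤ J)
    (hn : J ≤ Subgroup.normalizer (K : Set G)) (hJK : ∃ n, K.relIndex J = p ^ n) {θ μ : G → ℂ}
    (hθ : IrrOn K θ) (hμ : IrrOn J μ) (hres : ∀ k ∈ K, μ k = θ k)
    (hUJ : U ≤ Subgroup.normalizer (J : Set G)) (hUK : U ≤ Subgroup.normalizer (K : Set G))
    (hUθ : ∀ g ∈ U, cj g θ = θ) (hCJ : C ≤ J) (hUC : U ≤ Subgroup.normalizer (C : Set G))
    (hp : ¬ p ∣ C.relIndex U) :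
    ∃ μ₀, IrrOn J μ₀ ∧ (∀ k ∈ K, μ₀ k = θ k) ∧ ∀ g ∈ U, cj g μ₀ = μ₀ := by
  have h1 : inn K μ μ = 1 := by rw [inn_congr hres hres]; exact hθ.inn_self
  have hex : ∀ u : U, ∃ lam, IsLin J K lam ∧ cj (u : G) μ = fun x => μ x * lam x := by
    intro u
    have hcj := hμ.cj (hUJ u.2)
    have hm : mult K (cj (u : G) μ) μ = 1 := by
      have e : inn K (cj (u : G) μ) μ = 1 := by
        rw [inn_congr (f' := θ) (g' := θ) (fun k hk => ?_) hres, hθ.inn_self]
        have hk' := (norm_mem_iff (hUK u.2) k).2 hk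
        rw [cj_apply, hres _ hk']
        exact congrFun (hUθ _ u.2) k
      simp [mult, e]
    exact exists_twist hKJ hn hμ h1 hcj (by rw [hm]; exact one_ne_zero) (Or.inl hm)
  choose lam hlam hcjμ using hex
  haveI : (C.subgroupOf U).Normal := Subgroup.normal_subgroupOf_of_le_normalizer hUC
  haveI : Fintype (U ⧸ C.subgroupOf U) := Fintype.ofFinite _
  have hmulL : ∀ u v : U, ∀ x ∈ J, lam (u * v) x = lam u x * cj (u : G) (lam v) x := by
    intro u v
    refine fun x hx => congrFun (twist_injective hKJ hμ h1 (hlam _)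
      ((hlam u).mul' ((hlam v).cj_lin (hUJ u.2) (hUK u.2))) fun y _ => ?_) x
    have e := congrFun (hcjμ (u * v)) y
    rw [Subgroup.coe_mul, ← cj_cj, hcjμ v] at e
    rw [← e, cj_apply]
    have e' := congrFun (hcjμ u) y
    rw [cj_apply] at e'
    rw [← mul_assoc, ← e', cj_apply]
  have hcoset : ∀ u v : U, (u : U ⧸ C.subgroupOf U) = v → lam u = lam v := by
    intro u v h
    have hc := Subgroup.mem_subgroupOf.1 (QuotientGroup.eq.1 h)
    refine twist_injective hKJ hμ h1 (hlam u) (hlam v) fun y _ => ?_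
    have e : cj (v : G) μ = cj (u : G) μ := by
      have hv : (v : G) = (u : G) * ((u⁻¹ * v : U) : G) := by simp
      rw [hv, ← cj_cj, cj_of_mem hμ (hCJ hc)]
    rw [hcjμ u, hcjμ v] at e
    exact (congrFun e y).symm
  set k := Fintype.card (U ⧸ C.subgroupOf U) with hk
  have hk' : k = C.relIndex U := by
    rw [hk, Subgroup.relIndex, Subgroup.index, Nat.card_eq_fintype_card]
  obtain ⟨n, hn'⟩ := hJK
  have hp1 : 1 < p ^ (n + 1) := Nat.one_lt_pow n.succ_ne_zero (Fact.out : p.Prime).one_lt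
  obtain ⟨k', -, hkk⟩ := Nat.exists_mul_mod_eq_one_of_coprime
    (show Nat.Coprime k (p ^ (n + 1)) from Nat.Coprime.pow_right _
      (((Fact.out : p.Prime).coprime_iff_not_dvd.2 (hk' ▸ hp)).symm)) hp1
  let f : G → ℂ := fun x => ∏ q : U ⧸ C.subgroupOf U, lam q.out x
  have hf : ∀ u : U, ∀ x ∈ J, f x = lam u x ^ k * cj (u : G) f x := by
    intro u x hx
    simp only [f, cj_apply]
    rw [← Fintype.prod_equiv (Equiv.mulLeft (u : U ⧸ C.subgroupOf U))
      (fun q => lam ((u : U ⧸ C.subgroupOf U) * q).out x) (fun q => lam q.out x) (fun _ => rfl)]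
    rw [Finset.prod_congr rfl fun q _ => by
      rw [hcoset _ (u * q.out) (by
        rw [QuotientGroup.out_eq', QuotientGroup.mk_mul, QuotientGroup.out_eq']), hmulL u _ x hx],
      Finset.prod_mul_distrib, Finset.prod_const, Finset.card_univ]
    rfl
  have hfl : IsLin J K (fun x => if x ∈ J then f x ^ k' else 0) := by
    refine ⟨fun x hx y hy => ?_, fun a ha => ?_, fun x hx => if_neg hx⟩
    · rw [if_pos (mul_mem hx hy), if_pos hx, if_pos hy, ← mul_pow]
      congr 1
      simp only [f, ← Finset.prod_mul_distrib]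
      exact Finset.prod_congr rfl fun q _ => (hlam _).mul x hx y hy
    · rw [if_pos (hKJ ha)]
      simp only [f]
      rw [Finset.prod_eq_one fun q _ => (hlam _).triv a ha, one_pow]
  refine ⟨_, irrOn_twist hμ hfl, fun a ha => ?_, fun g hg => ?_⟩
  · rw [hfl.triv a ha, mul_one, hres a ha]
  funext x
  by_cases hx : x ∈ J
  · have hx' := (norm_mem_iff (hUJ hg) x).2 hx
    have e := congrFun (hcjμ ⟨g, hg⟩) x
    rw [cj_apply] at e
    show μ (g⁻¹ * x * g) * (if g⁻¹ * x * g ∈ J then f (g⁻¹ * x * g) ^ k' else 0) =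
      μ x * (if x ∈ J then f x ^ k' else 0)
    have hf' := hf ⟨g, hg⟩ x hx
    rw [cj_apply] at hf'
    rw [if_pos hx, if_pos hx', e, hf', mul_pow, ← pow_mul]
    have hone : lam ⟨g, hg⟩ x ^ (k * k') = lam ⟨g, hg⟩ x := by
      rw [← Nat.mod_add_div (k * k') (p ^ (n + 1)), hkk, pow_add, pow_one, pow_mul,
        pow_succ p n, pow_mul, ← hn', (hlam _).pow_relIndex hn hx, one_pow, one_pow, mul_one]
    rw [hone, mul_assoc]
  · have hx' : g⁻¹ * x * g ∉ J := fun h => hx ((norm_mem_iff (hUJ hg) x).1 h)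
    show μ (g⁻¹ * x * g) * _ = μ x * _
    rw [hμ.supp _ hx', hμ.supp x hx, zero_mul, zero_mul]

/-- The number of extensions fixed by two elements, given one fixed extension. -/
theorem card_fixed_ext {K J : Subgroup G} (hKJ : K ≤ J) (hn : J ≤ Subgroup.normalizer (K : Set G))
    {θ μ : G → ℂ} (hθ : IrrOn K θ) (hμ : IrrOn J μ) (hres : ∀ k ∈ K, μ k = θ k) {x y : G}
    (hx : cj x μ = μ) (hy : cj y μ = μ) (hxJ : x ∈ Subgroup.normalizer (J : Set G))
    (hxK : x ∈ Subgroup.normalizer (K : Set G)) (hyJ : y ∈ Subgroup.normalizer (J : Set G))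
    (hyK : y ∈ Subgroup.normalizer (K : Set G)) :
    ((irrs J).filter fun η => (∀ k ∈ K, η k = θ k) ∧ cj x η = η ∧ cj y η = η).card =
      Nat.card {lam : G → ℂ // IsLin J K lam ∧ cj x lam = lam ∧ cj y lam = lam} := by
  have h1 : inn K μ μ = 1 := by rw [inn_congr hres hres]; exact hθ.inn_self
  have hfix : ∀ (g : G) (lam : G → ℂ), g ∈ Subgroup.normalizer (J : Set G) →
      g ∈ Subgroup.normalizer (K : Set G) → cj g μ = μ → IsLin J K lam →
      (cj g (fun z => μ z * lam z) = (fun z => μ z * lam z) ↔ cj g lam = lam) := by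
    intro g lam hgJ hgK hg hl
    have e : cj g (fun z => μ z * lam z) = fun z => μ z * cj g lam z := by
      funext z
      show μ (g⁻¹ * z * g) * _ = _
      rw [show μ (g⁻¹ * z * g) = μ z from congrFun hg z]
      rfl
    rw [e]
    refine ⟨fun h => twist_injective hKJ hμ h1 (hl.cj_lin hgJ hgK) hl fun z _ => congrFun h z,
      fun h => by rw [h]⟩
  rw [← Nat.card_eq_finsetCard]
  symm
  refine Nat.card_congr (Equiv.ofBijective
    (fun l => ⟨fun z => μ z * l.1 z, Finset.mem_filter.2 ⟨mem_irrs.2 (irrOn_twist hμ l.2.1),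
      fun k hk => by beta_reduce; rw [l.2.1.triv k hk, mul_one, hres k hk],
      (hfix x l.1 hxJ hxK hx l.2.1).2 l.2.2.1, (hfix y l.1 hyJ hyK hy l.2.1).2 l.2.2.2⟩⟩) ⟨?_, ?_⟩)
  · intro a b e
    exact Subtype.ext (twist_injective hKJ hμ h1 a.2.1 b.2.1 fun z _ =>
      congrFun (congrArg Subtype.val e) z)
  · rintro ⟨η, hη⟩
    rw [Finset.mem_filter, mem_irrs] at hη
    obtain ⟨hη, hres', hxη, hyη⟩ := hη
    have hm : mult K η μ = 1 := by
      have e : inn K η μ = 1 := by rw [inn_congr hres' hres]; exact hθ.inn_self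
      simp [mult, e]
    obtain ⟨l, hl, rfl⟩ := exists_twist hKJ hn hμ h1 hη (by rw [hm]; exact one_ne_zero) (Or.inl hm)
    exact ⟨⟨l, hl, (hfix x l hxJ hxK hx hl).1 hxη, (hfix y l hyJ hyK hy hl).1 hyη⟩, rfl⟩

/-- Restriction of linear characters from `J = K J'` to `J'`. -/
theorem card_lin_res {K J J' C : Subgroup G} (hJ : J' ⊔ K = J) (hC : J' ⊓ K = C)
    (hn : J' ≤ Subgroup.normalizer (K : Set G)) {x y : G}
    (hxJ : x ∈ Subgroup.normalizer (J : Set G)) (hxJ' : x ∈ Subgroup.normalizer (J' : Set G))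
    (hxK : x ∈ Subgroup.normalizer (K : Set G))
    (hyJ : y ∈ Subgroup.normalizer (J : Set G)) (hyJ' : y ∈ Subgroup.normalizer (J' : Set G))
    (hyK : y ∈ Subgroup.normalizer (K : Set G)) :
    Nat.card {lam : G → ℂ // IsLin J K lam ∧ cj x lam = lam ∧ cj y lam = lam} =
      Nat.card {lam : G → ℂ // IsLin J' C lam ∧ cj x lam = lam ∧ cj y lam = lam} := by
  have hJ'J : J' ≤ J := hJ ▸ le_sup_left
  have hKJ : K ≤ J := hJ ▸ le_sup_right
  have hdec : ∀ g ∈ J, ∃ a ∈ J', ∃ b ∈ K, g = a * b := by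
    intro g hg
    rw [← hJ, ← SetLike.mem_coe, Subgroup.coe_mul_of_left_le_normalizer_right _ _ hn,
      Set.mem_mul] at hg
    obtain ⟨a, ha, b, hb, e⟩ := hg
    exact ⟨a, ha, b, hb, e.symm⟩
  have hfix : ∀ (g : G) (l : G → ℂ), g ∈ Subgroup.normalizer (J' : Set G) →
      cj g l = l → cj g (res J' l) = res J' l := by
    intro g l hg h
    funext z
    by_cases hz : z ∈ J'
    · rw [cj_apply, res_apply hz, res_apply ((norm_mem_iff hg z).2 hz)]
      exact congrFun h z
    · exact (if_neg fun h' => hz ((norm_mem_iff hg z).1 h')).trans (if_neg hz).symm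
  have hlin : ∀ l, IsLin J K l → IsLin J' C (res J' l) := fun l hl =>
    ⟨fun a ha b hb => by
      rw [res_apply (mul_mem ha hb), res_apply ha, res_apply hb, hl.mul a (hJ'J ha) b (hJ'J hb)],
    fun c hc => by
      rw [← hC] at hc
      rw [res_apply (Subgroup.mem_inf.1 hc).1, hl.triv c (Subgroup.mem_inf.1 hc).2],
    fun z hz => if_neg hz⟩
  have hagree : ∀ l l', IsLin J K l → IsLin J K l' → (∀ a ∈ J', l a = l' a) → l = l' := by
    intro l l' hl hl' h
    funext z
    by_cases hz : z ∈ J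
    · obtain ⟨a, ha, b, hb, rfl⟩ := hdec z hz
      rw [hl.mul a (hJ'J ha) b (hKJ hb), hl'.mul a (hJ'J ha) b (hKJ hb), hl.triv b hb, hl'.triv b hb,
        h a ha]
    · rw [hl.supp z hz, hl'.supp z hz]
  refine Nat.card_congr (Equiv.ofBijective (fun l => ⟨res J' l.1, hlin _ l.2.1,
    hfix x _ hxJ' l.2.2.1, hfix y _ hyJ' l.2.2.2⟩) ⟨?_, ?_⟩)
  · intro l l' e
    refine Subtype.ext (hagree _ _ l.2.1 l'.2.1 fun a ha => ?_)
    have := congrFun (congrArg Subtype.val e) a
    simpa [res_apply ha] using this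
  · rintro ⟨m, hm, hmx, hmy⟩
    choose! af haf bf hbf hdecf using hdec
    have hwd : ∀ a ∈ J', ∀ b ∈ K, m (af (a * b)) = m a := by
      intro a ha b hb
      have hz : a * b ∈ J := mul_mem (hJ'J ha) (hKJ hb)
      have h2 : a⁻¹ * af (a * b) = b * (bf (a * b))⁻¹ := by
        have := hdecf _ hz
        rw [eq_mul_inv_iff_mul_eq, mul_assoc, ← this]
        group
      have h3 : a⁻¹ * af (a * b) ∈ C := by
        rw [← hC]
        exact Subgroup.mem_inf.2 ⟨mul_mem (inv_mem ha) (haf _ hz),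
          h2 ▸ mul_mem hb (inv_mem (hbf _ hz))⟩
      rw [show af (a * b) = a * (a⁻¹ * af (a * b)) by group,
        hm.mul a ha _ (mul_mem (inv_mem ha) (haf _ hz)), hm.triv _ h3, mul_one]
    let l : G → ℂ := fun z => if z ∈ J then m (af z) else 0
    have hl : IsLin J K l := by
      refine ⟨fun z hz w hw => ?_, fun b hb => ?_, fun z hz => if_neg hz⟩
      · simp only [l]
        rw [if_pos hz, if_pos hw, if_pos (mul_mem hz hw),
          ← hm.mul _ (haf z hz) _ (haf w hw)]
        have e : z * w = af z * af w * ((af w)⁻¹ * bf z * af w * bf w) := by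
          conv_lhs => rw [hdecf z hz, hdecf w hw]
          group
        rw [e]
        exact hwd _ (mul_mem (haf z hz) (haf w hw)) _
          (mul_mem ((norm_mem_iff (hn (haf w hw)) _).2 (hbf z hz)) (hbf w hw))
      · simp only [l]
        rw [if_pos (hKJ hb)]
        have := hwd 1 (one_mem _) b hb
        rw [one_mul] at this
        rw [this, hm.one]
    have hlres : ∀ a ∈ J', l a = m a := by
      intro a ha
      simp only [l]
      rw [if_pos (hJ'J ha)]
      simpa using hwd a ha 1 (one_mem K)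
    have hlfix : ∀ g, g ∈ Subgroup.normalizer (J : Set G) → g ∈ Subgroup.normalizer (J' : Set G) →
        g ∈ Subgroup.normalizer (K : Set G) → cj g m = m → cj g l = l := by
      intro g hgJ hgJ' hgK h
      refine hagree _ _ (hl.cj_lin hgJ hgK) hl fun a ha => ?_
      rw [cj_apply, hlres _ ((norm_mem_iff hgJ' a).2 ha), hlres a ha]
      exact congrFun h a
    refine ⟨⟨l, hl, hlfix x hxJ hxJ' hxK hmx, hlfix y hyJ hyJ' hyK hmy⟩, Subtype.ext ?_⟩
    funext z
    by_cases hz : z ∈ J'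
    · exact (res_apply hz).trans (hlres z hz)
    · exact (if_neg hz).trans (hm.supp z hz).symm

/-- Extensions exist above as soon as they exist below, and conversely. -/
theorem ext_iff {K J J' C : Subgroup G} (hJ : J' ⊔ K = J) (hC : J' ⊓ K = C)
    (hn : J' ≤ Subgroup.normalizer (K : Set G)) (hJK : ∃ n, K.relIndex J = p ^ n)
    (hJC : ∃ n, C.relIndex J' = p ^ n) {θ β : G → ℂ} (hθ : IrrOn K θ) (hβ : IrrOn C β)
    (hθi : ∀ g ∈ J', cj g θ = θ) (hβi : ∀ g ∈ J', cj g β = β) (hm : ¬ p ∣ mult C θ β) :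
    (∃ μ, IrrOn J μ ∧ ∀ k ∈ K, μ k = θ k) ↔ ∃ η, IrrOn J' η ∧ ∀ c ∈ C, η c = β c := by
  have hJ'J : J' ≤ J := hJ ▸ le_sup_left
  have hKJ : K ≤ J := hJ ▸ le_sup_right
  have hCJ' : C ≤ J' := hC ▸ inf_le_left
  have hCK : C ≤ K := hC ▸ inf_le_right
  have hJn : J ≤ Subgroup.normalizer (K : Set G) := hJ ▸ sup_le hn Subgroup.le_normalizer
  have hθJ : ∀ g ∈ J, cj g θ = θ := by
    intro g hg
    have hle : J ≤ iner ⊤ θ := hJ ▸ sup_le (fun a ha => ⟨trivial, hθi a ha⟩)
      fun a ha => ⟨trivial, cj_of_mem hθ ha⟩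
    exact (hle hg).2
  have hJ'n : J' ≤ Subgroup.normalizer (C : Set G) := by
    intro a ha
    rw [← hC]
    refine Subgroup.mem_normalizer_iff.2 fun g => ?_
    simp only [Subgroup.mem_inf]
    exact and_congr (Subgroup.mem_normalizer_iff.1 (Subgroup.le_normalizer ha) g)
      (Subgroup.mem_normalizer_iff.1 (hn ha) g)
  constructor
  · rintro ⟨μ, hμ, hres⟩
    have h1 : mult C θ β = ∑ η ∈ irrs J', mult J' μ η * mult C η β := by
      rw [← mult_trans hCJ' (hμ.charOn_sub hJ'J) hβ.charOn]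
      unfold mult
      rw [inn_congr (f := μ) (f' := θ) (g' := β) (fun c hc => hres c (hCK hc)) fun _ _ => rfl]
    obtain ⟨η, hη, hne⟩ : ∃ η ∈ irrs J', ¬ p ∣ mult C η β := by
      by_contra hcon
      push Not at hcon
      exact hm (h1 ▸ Finset.dvd_sum fun η hη => (hcon η hη).mul_left _)
    exact ⟨η, mem_irrs.1 hη, ext_of_mult hCJ' hJ'n hJC hβ hβi (mem_irrs.1 hη) hne⟩
  · rintro ⟨η, hη, hres⟩
    suffices key : ∑ χ ∈ irrs J, mult J' χ η * mult K χ θ = mult C θ β by
      obtain ⟨χ, hχ, hne⟩ : ∃ χ ∈ irrs J, ¬ p ∣ mult K χ θ := by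
        by_contra hcon
        push Not at hcon
        exact hm (key ▸ Finset.dvd_sum fun χ hχ => (hcon χ hχ).mul_left _)
      exact ⟨χ, mem_irrs.1 hχ, ext_of_mult hKJ hJn hJK hθ hθJ (mem_irrs.1 hχ) hne⟩
    have hJ0 : (Nat.card J' : ℂ) ≠ 0 := by exact_mod_cast Nat.card_pos.ne'
    have hK0 : (Nat.card K : ℂ) ≠ 0 := by exact_mod_cast Nat.card_pos.ne'
    have hC0 : (Nat.card C : ℂ) ≠ 0 := by exact_mod_cast Nat.card_pos.ne'
    have hcard : (Nat.card J' : ℂ) * (Nat.card K : ℂ) = (Nat.card C : ℂ) * (Nat.card J : ℂ) := by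
      have h := sum_prod_sub hn hJ (fun _ => 1)
      simpa [card_mems, hC] using h
    apply Nat.cast_injective (R := ℂ)
    rw [Nat.cast_sum]
    have e : ∀ χ ∈ irrs J, ((mult J' χ η * mult K χ θ : ℕ) : ℂ) =
        (Nat.card J' : ℂ)⁻¹ * (Nat.card K : ℂ)⁻¹ *
          ∑ a ∈ mems J', ∑ k ∈ mems K, χ a * conj (χ k) * (conj (η a) * θ k) := by
      intro χ hχ
      rw [Nat.cast_mul, mult_cast ((mem_irrs.1 hχ).charOn_sub hJ'J) hη.charOn]
      have h2 : ((mult K χ θ : ℕ) : ℂ) = conj (inn K χ θ) := by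
        rw [← mult_cast ((mem_irrs.1 hχ).charOn_sub hKJ) hθ.charOn, map_natCast]
      rw [h2, inn, inn, map_mul, map_inv₀, map_natCast, map_sum, mul_mul_mul_comm,
        Finset.sum_mul_sum]
      congr 1
      refine Finset.sum_congr rfl fun a _ => Finset.sum_congr rfl fun k _ => ?_
      rw [map_mul, Complex.conj_conj]
      ring
    rw [Finset.sum_congr rfl e, ← Finset.mul_sum, Finset.sum_comm,
      Finset.sum_congr rfl fun a ha => show (∑ χ ∈ irrs J, ∑ k ∈ mems K,
          χ a * conj (χ k) * (conj (η a) * θ k)) = (Nat.card J : ℂ) * (conj (η a) * θ a) by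
        rw [Finset.sum_comm]
        have haJ := hJ'J (mem_mems.1 ha)
        rw [Finset.sum_congr rfl fun k hk => by
          rw [← Finset.sum_mul, sum_col haJ (hKJ (mem_mems.1 hk)), ← nsmul_eq_mul,
            ← Finset.sum_const, Finset.sum_filter]]
        rw [Finset.sum_comm, Finset.sum_congr rfl fun h hh => show (∑ k ∈ mems K,
            if h * a * h⁻¹ = k then conj (η a) * θ k else 0) = conj (η a) * θ a by
          have hha : θ (h * a * h⁻¹) = θ a := by
            have := congrFun (hθJ h⁻¹ (inv_mem (mem_mems.1 hh))) a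
            rwa [cj_apply, inv_inv] at this
          rw [Finset.sum_ite_eq]
          split_ifs with hmem
          · rw [hha]
          · rw [← hha, hθ.supp _ (fun h' => hmem (mem_mems.2 h')), mul_zero],
          Finset.sum_const, card_mems, nsmul_eq_mul]]
    rw [← Finset.mul_sum, ← Finset.sum_subset (fun c hc => mem_mems.2 (hCJ' (mem_mems.1 hc)))
      fun a ha hn' => by
        rw [hθ.supp a fun h' => hn' (mem_mems.2 (hC ▸ Subgroup.mem_inf.2 ⟨mem_mems.1 ha, h'⟩)),
          mul_zero],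
      Finset.sum_congr rfl fun c hc => show conj (η c) * θ c = θ c * conj (β c) by
        rw [hres c (mem_mems.1 hc), mul_comm],
      mult_cast (hθ.charOn_sub hCK) hβ.charOn, inn]
    field_simp
    linear_combination -(∑ c ∈ mems C, θ c * conj (β c)) * hcard

end CfsgLib.RelMcKay
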