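import Cfsg.Agent.Lib.RelMcKay.Count
import Mathlib.GroupTheory.Sylow
import Mathlib.GroupTheory.SchurZassenhaus

/-!
# Indices, Sylow conjugacy and complements for subgroups of an ambient group
-/

set_option autoImplicit false
set_option linter.unusedSectionVars false
set_option linter.style.haveILetI false

namespace CfsgLib.RelMcKay

attribute [local instance] Classical.propDecidable

universe u

variable {G : Type u} [Group G] [Fintype G] {p : ℕ} [Fact p.Prime]

theorem card_sup_mul {A B : Subgroup G} (h : A ≤ Subgroup.normalizer (B : Set G)) :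
    Nat.card A * Nat.card B = Nat.card (A ⊓ B : Subgroup G) * Nat.card (A ⊔ B : Subgroup G) := by
  have h1 := sum_prod_sub h (rfl : A ⊔ B = A ⊔ B) (fun _ => 1)
  simp only [Finset.sum_const, card_mems, nsmul_eq_mul, mul_one] at h1
  exact_mod_cast h1

/-- The second isomorphism theorem for indices. -/
theorem relIndex_sup {A B : Subgroup G} (h : A ≤ Subgroup.normalizer (B : Set G)) :
    B.relIndex (A ⊔ B) = (A ⊓ B).relIndex A := by
  have h1 := card_sup_mul h
  have h2 := card_mul_relIndex (le_sup_right : B ≤ A ⊔ B)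
  have h3 := card_mul_relIndex (inf_le_left : A ⊓ B ≤ A)
  rw [← h2, ← h3] at h1
  refine Nat.eq_of_mul_eq_mul_left
    (Nat.mul_pos (Nat.card_pos (α := (A ⊓ B : Subgroup G))) (Nat.card_pos (α := B))) ?_
  calc _ = Nat.card (A ⊓ B : Subgroup G) * (Nat.card B * B.relIndex (A ⊔ B)) := by ring
    _ = Nat.card (A ⊓ B : Subgroup G) * (A ⊓ B).relIndex A * Nat.card B := h1.symm
    _ = _ := by ring

theorem relIndex_sup' {A B : Subgroup G} (h : A ≤ Subgroup.normalizer (B : Set G)) :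
    A.relIndex (A ⊔ B) = (A ⊓ B).relIndex B := by
  have h1 := card_sup_mul h
  have h2 := card_mul_relIndex (le_sup_left : A ≤ A ⊔ B)
  have h3 := card_mul_relIndex (inf_le_right : A ⊓ B ≤ B)
  rw [← h2, ← h3] at h1
  refine Nat.eq_of_mul_eq_mul_left
    (Nat.mul_pos (Nat.card_pos (α := (A ⊓ B : Subgroup G))) (Nat.card_pos (α := A))) ?_
  calc _ = Nat.card (A ⊓ B : Subgroup G) * (Nat.card A * A.relIndex (A ⊔ B)) := by ring
    _ = Nat.card A * (Nat.card (A ⊓ B : Subgroup G) * (A ⊓ B).relIndex B) := h1.symm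
    _ = _ := by ring

theorem relIndex_pos {A B : Subgroup G} : 0 < A.relIndex B :=
  Nat.pos_of_ne_zero Subgroup.index_ne_zero_of_finite

theorem norm_sup {A B : Subgroup G} {g : G} (hA : g ∈ Subgroup.normalizer (A : Set G))
    (hB : g ∈ Subgroup.normalizer (B : Set G)) :
    g ∈ Subgroup.normalizer ((A ⊔ B : Subgroup G) : Set G) := by
  refine Subgroup.mem_normalizer_fintype fun n hn => ?_
  have hle : (A ⊔ B).map (MulAut.conj g).toMonoidHom ≤ A ⊔ B := by
    rw [Subgroup.map_sup]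
    refine sup_le_sup ?_ ?_
    · rintro _ ⟨a, ha, rfl⟩; exact (Subgroup.mem_normalizer_iff.1 hA a).1 ha
    · rintro _ ⟨b, hb, rfl⟩; exact (Subgroup.mem_normalizer_iff.1 hB b).1 hb
  exact hle ⟨n, hn, rfl⟩

theorem norm_inf {A B : Subgroup G} {g : G} (hA : g ∈ Subgroup.normalizer (A : Set G))
    (hB : g ∈ Subgroup.normalizer (B : Set G)) :
    g ∈ Subgroup.normalizer ((A ⊓ B : Subgroup G) : Set G) :=
  Subgroup.mem_normalizer_iff.2 fun x => by
    simp only [Subgroup.mem_inf]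
    exact and_congr (Subgroup.mem_normalizer_iff.1 hA x) (Subgroup.mem_normalizer_iff.1 hB x)

/-- A `p`-group modulo a normal subgroup has index a power of `p` over it. -/
theorem relIndex_pow {L P : Subgroup G} (hn : P ≤ Subgroup.normalizer (L : Set G))
    (hp : ∀ t ∈ P, ∃ j : ℕ, t ^ p ^ j ∈ L) : ∃ n, L.relIndex P = p ^ n := by
  haveI : (L.subgroupOf P).Normal := Subgroup.normal_subgroupOf_of_le_normalizer hn
  have hQ : IsPGroup p (P ⧸ L.subgroupOf P) := by
    intro q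
    obtain ⟨t, rfl⟩ := QuotientGroup.mk_surjective q
    obtain ⟨j, hj⟩ := hp t t.2
    refine ⟨j, ?_⟩
    rw [← QuotientGroup.mk_pow, QuotientGroup.eq_one_iff, Subgroup.mem_subgroupOf]
    simpa using hj
  obtain ⟨n, hn⟩ := IsPGroup.iff_card.1 hQ
  exact ⟨n, by rw [← hn]; rfl⟩

/-- Conjugating a `p`-subgroup into a given Sylow subgroup. -/
theorem exists_conj_le {H S S' : Subgroup G} (hS : IsPGroup p S) (hSH : S ≤ H)
    (hp : ¬ p ∣ S.relIndex H) (hS' : IsPGroup p S') (hS'H : S' ≤ H) :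
    ∃ h ∈ H, ∀ s ∈ S', h * s * h⁻¹ ∈ S := by
  have h1 : IsPGroup p (S.subgroupOf H) :=
    hS.comap_of_injective H.subtype H.subtype_injective
  have h2 : IsPGroup p (S'.subgroupOf H) :=
    hS'.comap_of_injective H.subtype H.subtype_injective
  set T : Sylow p H := h1.toSylow hp with hT
  obtain ⟨T', hT'⟩ := h2.exists_le_sylow
  obtain ⟨g, hg⟩ := MulAction.exists_smul_eq H T' T
  refine ⟨g, g.2, fun s hs => ?_⟩
  have hmem : g * ⟨s, hS'H hs⟩ * g⁻¹ ∈ (T : Subgroup H) := by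
    rw [← hg, Sylow.coe_subgroup_smul]
    exact ⟨⟨s, hS'H hs⟩, hT' (Subgroup.mem_subgroupOf.2 hs), rfl⟩
  have h3 : g * ⟨s, hS'H hs⟩ * g⁻¹ ∈ S.subgroupOf H := hmem
  simpa [Subgroup.mem_subgroupOf] using h3

/-- A conjugate of a Sylow subgroup is conjugate back inside any subgroup containing both. -/
theorem exists_norm_sylow {H S : Subgroup G} (hS : IsPGroup p S) (hSH : S ≤ H)
    (hp : ¬ p ∣ S.relIndex H) {g : G} (hg : ∀ s ∈ S, g * s * g⁻¹ ∈ H) :
    ∃ h ∈ H, h * g ∈ Subgroup.normalizer (S : Set G) := by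
  have h' : S.map (MulAut.conj g).toMonoidHom ≤ H := by
    rintro _ ⟨s, hs, rfl⟩; exact hg s hs
  obtain ⟨h, hh, hc⟩ := exists_conj_le hS hSH hp (hS.map _) h'
  refine ⟨h, hh, Subgroup.mem_normalizer_fintype fun s hs => ?_⟩
  have := hc _ ⟨s, hs, rfl⟩
  rwa [MulEquiv.coe_toMonoidHom, MulAut.conj_apply,
    show h * (g * s * g⁻¹) * h⁻¹ = h * g * s * (h * g)⁻¹ by group] at this

/-- A complement, modulo `C`, to a normal subgroup that is a `p`-group modulo `C`. -/
theorem exists_complement {N C P : Subgroup G} (hCN : C ≤ N) (hPN : P ≤ N)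
    (hNC : N ≤ Subgroup.normalizer (C : Set G)) (hNP : N ≤ Subgroup.normalizer (P : Set G))
    (hPC : ∀ t ∈ P, ∃ j : ℕ, t ^ p ^ j ∈ C) (hp : ¬ p ∣ P.relIndex N) :
    ∃ H : Subgroup G, C ≤ H ∧ H ≤ N ∧ H ⊓ P ≤ C ∧ H ⊔ P = N := by
  haveI : (C.subgroupOf N).Normal := Subgroup.normal_subgroupOf_of_le_normalizer hNC
  haveI : (P.subgroupOf N).Normal := Subgroup.normal_subgroupOf_of_le_normalizer hNP
  set π := QuotientGroup.mk' (C.subgroupOf N) with hπ
  have hsurj : Function.Surjective π := QuotientGroup.mk'_surjective _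
  set M := (P.subgroupOf N).map π with hM
  haveI : M.Normal := Subgroup.Normal.map inferInstance π hsurj
  have hMp : IsPGroup p M := by
    rintro ⟨_, t, ht, rfl⟩
    obtain ⟨j, hj⟩ := hPC t (Subgroup.mem_subgroupOf.1 ht)
    refine ⟨j, Subtype.ext ?_⟩
    rw [SubgroupClass.coe_pow, ← map_pow]
    exact (QuotientGroup.eq_one_iff (t ^ p ^ j)).2 (Subgroup.mem_subgroupOf.2 (by simpa using hj))
  have hidx : ¬ p ∣ M.index := by
    intro h
    refine hp ?_
    rw [← Subgroup.index_comap_of_surjective (f := π) M hsurj] at h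
    exact h.trans (Subgroup.index_dvd_of_le (Subgroup.le_comap_map π _))
  have hcop : Nat.Coprime (Nat.card M) M.index := by
    obtain ⟨n, hn⟩ := IsPGroup.iff_card.1 hMp
    rw [hn]
    exact Nat.Coprime.pow_left _ ((Fact.out : p.Prime).coprime_iff_not_dvd.2 hidx)
  obtain ⟨Hc, hHc⟩ := Subgroup.exists_right_complement'_of_coprime hcop
  refine ⟨(Hc.comap π).map N.subtype, fun c hc => ?_, Subgroup.map_subtype_le _, ?_, ?_⟩
  · refine ⟨⟨c, hCN hc⟩, ?_, rfl⟩
    rw [SetLike.mem_coe, Subgroup.mem_comap,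
      show π ⟨c, hCN hc⟩ = 1 from (QuotientGroup.eq_one_iff (⟨c, hCN hc⟩ : N)).2 hc]
    exact one_mem Hc
  · rintro g ⟨⟨w, hw, rfl⟩, hgP⟩
    have hmem : π w ∈ M ⊓ Hc :=
      Subgroup.mem_inf.2 ⟨⟨w, Subgroup.mem_subgroupOf.2 hgP, rfl⟩, hw⟩
    rw [hHc.disjoint.eq_bot, Subgroup.mem_bot] at hmem
    exact Subgroup.mem_subgroupOf.1 ((QuotientGroup.eq_one_iff w).1 hmem)
  · refine le_antisymm (sup_le (Subgroup.map_subtype_le _) hPN) fun n hn => ?_
    obtain ⟨⟨⟨m, hm⟩, ⟨h, hh⟩⟩, e⟩ := hHc.2 (π ⟨n, hn⟩)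
    obtain ⟨t, ht, rfl⟩ := hm
    have e' : (π t) * h = π ⟨n, hn⟩ := e
    have hw : π (t⁻¹ * ⟨n, hn⟩) ∈ Hc := by
      rw [map_mul, map_inv, ← e', inv_mul_cancel_left]
      exact hh
    have hsplit : n = (t : G) * ((t⁻¹ * ⟨n, hn⟩ : N) : G) := by simp
    rw [hsplit]
    exact mul_mem (Subgroup.mem_sup_right (Subgroup.mem_subgroupOf.1 ht))
      (Subgroup.mem_sup_left ⟨_, hw, rfl⟩)

end CfsgLib.RelMcKay
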