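import Cfsg.Agent.Lib.RelMcKay.Coprime

/-!
# The commutator sum is preserved by the correspondence
-/

set_option autoImplicit false
set_option linter.unusedSectionVars false
set_option linter.style.haveILetI false
set_option maxHeartbeats 800000

namespace CfsgLib.RelMcKay

open Cfsg
open scoped ComplexConjugate

attribute [local instance] Classical.propDecidable

universe u

variable {G : Type u} [Group G] [Fintype G] {p : ℕ} [Fact p.Prime] {L K T : Subgroup G} {ν : G → ℂ}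

/-- The elements centralizing `K` modulo `L`. -/
def cent (L K : Subgroup G) : Subgroup G :=
  Subgroup.normalizer (L : Set G) ⊓ ⨅ k : K, stab L (k : G)

theorem mem_cent {L K : Subgroup G} {z : G} : z ∈ cent L K ↔
    z ∈ Subgroup.normalizer (L : Set G) ∧ ∀ k ∈ K, z ∈ stab L k := by
  rw [cent, Subgroup.mem_inf, Subgroup.mem_iInf, Subtype.forall]

/-- An operator on the data of a correspondence. -/
structure Op (p : ℕ) (L K T : Subgroup G) (ν θ : G → ℂ) (x : G) : Prop where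
  normL : x ∈ Subgroup.normalizer (L : Set G)
  normK : x ∈ Subgroup.normalizer (K : Set G)
  normT : x ∈ Subgroup.normalizer (T : Set G)
  fixν : cj x ν = ν
  fixθ : cj x θ = θ
  ord : ∃ o : ℕ, ¬ p ∣ o ∧ x ^ o ∈ fixPart L K T

namespace Op

variable {θ : G → ℂ} {x y : G}

theorem inv (h : Op p L K T ν θ x) : Op p L K T ν θ x⁻¹ :=
  ⟨inv_mem h.normL, inv_mem h.normK, inv_mem h.normT, cj_inv h.fixν, cj_inv h.fixθ,
    h.ord.imp fun o ho => ⟨ho.1, by rw [inv_pow]; exact inv_mem ho.2⟩⟩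

theorem mul (hx : Op p L K T ν θ x) (hy : Op p L K T ν θ y)
    (hc : x * y * x⁻¹ * y⁻¹ ∈ fixPart L K T) : Op p L K T ν θ (x * y) := by
  refine ⟨mul_mem hx.normL hy.normL, mul_mem hx.normK hy.normK, mul_mem hx.normT hy.normT,
    cj_mul' hx.fixν hy.fixν, cj_mul' hx.fixθ hy.fixθ, ?_⟩
  obtain ⟨o, ho, hox⟩ := hx.ord
  obtain ⟨o', ho', hoy⟩ := hy.ord
  refine ⟨o * o', fun hd => ((Fact.out : p.Prime).dvd_mul.1 hd).elim ho ho', ?_⟩
  set C := fixPart L K T
  let N := Subgroup.normalizer (C : Set G)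
  let X : N := ⟨x, norm_fixPart_of_norm hx.normL hx.normK hx.normT⟩
  let Y : N := ⟨y, norm_fixPart_of_norm hy.normL hy.normK hy.normT⟩
  haveI : (C.subgroupOf N).Normal := Subgroup.normal_subgroupOf_of_le_normalizer le_rfl
  let π := QuotientGroup.mk' (C.subgroupOf N)
  have hcomm : Commute (π X) (π Y) := by
    have h1 : π (X * Y * X⁻¹ * Y⁻¹) = 1 :=
      (QuotientGroup.eq_one_iff _).2 (Subgroup.mem_subgroupOf.2 hc)
    rw [map_mul, map_mul, map_mul, map_inv, map_inv, mul_inv_eq_one, mul_inv_eq_iff_eq_mul] at h1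
    exact h1
  have h1 : π X ^ (o * o') = 1 := by
    rw [pow_mul, ← map_pow, show π (X ^ o) = 1 from (QuotientGroup.eq_one_iff (X ^ o)).2
      (Subgroup.mem_subgroupOf.2 (by simpa [X] using hox)), one_pow]
  have h2 : π Y ^ (o * o') = 1 := by
    rw [mul_comm, pow_mul, ← map_pow, show π (Y ^ o') = 1 from (QuotientGroup.eq_one_iff (Y ^ o')).2
      (Subgroup.mem_subgroupOf.2 (by simpa [Y] using hoy)), one_pow]
  have h3 : π ((X * Y) ^ (o * o')) = 1 := by
    rw [map_pow, map_mul, hcomm.mul_pow, h1, h2, one_mul]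
  simpa [X, Y] using Subgroup.mem_subgroupOf.1 ((QuotientGroup.eq_one_iff _).1 h3)

end Op

namespace Lay

variable {θ : G → ℂ}

theorem le_cent (D : Lay p L K T ν) : L ≤ T ⊓ cent L K := fun l hl =>
  Subgroup.mem_inf.2 ⟨D.LT hl, mem_cent.2 ⟨Subgroup.le_normalizer hl, fun k hk =>
    ⟨Subgroup.le_normalizer hl, by
      rw [show k⁻¹ * (l * k * l⁻¹) = k⁻¹ * l * k * l⁻¹ by group]
      exact mul_mem ((Subgroup.mem_normalizer_iff''.1 (D.Knorm hk) l).1 hl) (inv_mem hl)⟩⟩⟩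

/-- Conjugation preserves the centralizer of the layer. -/
theorem norm_cent {x : G} (hxL : x ∈ Subgroup.normalizer (L : Set G))
    (hxK : x ∈ Subgroup.normalizer (K : Set G)) : x ∈ Subgroup.normalizer (cent L K : Set G) := by
  have hmem : ∀ y : G, y ∈ Subgroup.normalizer (L : Set G) → y ∈ Subgroup.normalizer (K : Set G) →
      ∀ z ∈ cent L K, y * z * y⁻¹ ∈ cent L K := by
    intro y hyL hyK z hz
    rw [mem_cent] at hz ⊢
    refine ⟨mul_mem (mul_mem hyL hz.1) (inv_mem hyL), fun k hk =>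
      ⟨mul_mem (mul_mem hyL hz.1) (inv_mem hyL), ?_⟩⟩
    have h := (hz.2 _ ((norm_mem_iff hyK k).2 hk)).2
    have e : k⁻¹ * (y * z * y⁻¹ * k * (y * z * y⁻¹)⁻¹) =
        y * ((y⁻¹ * k * y)⁻¹ * (z * (y⁻¹ * k * y) * z⁻¹)) * y⁻¹ := by group
    rw [e]
    exact (Subgroup.mem_normalizer_iff.1 hyL _).1 h
  refine Subgroup.mem_normalizer_iff.2 fun g => ⟨hmem x hxL hxK g, fun h => ?_⟩
  have := hmem x⁻¹ (inv_mem hxL) (inv_mem hxK) _ h
  rwa [show x⁻¹ * (x * g * x⁻¹) * x⁻¹⁻¹ = g by group] at this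

/-- When the acting group centralizes the layer the correspondence is trivial. -/
theorem down_of_central (D : Lay p L K T ν) (hT : T ≤ cent L K) (hθ : θ ∈ overInv L K T ν) :
    fixPart L K T = K ∧ D.down hθ = θ := by
  have hC : fixPart L K T = K := le_antisymm inf_le_left fun k hk => Subgroup.mem_inf.2
    ⟨hk, D.Knorm hk, fun t ht => ((mem_cent.1 (hT ht)).2 k hk).2⟩
  refine ⟨hC, D.below_unique hθ (D.down_mem hθ) (by rwa [hC]) (D.down_spec hθ) ?_⟩
  rw [hC, mult_self (mem_overInv.1 hθ).1.1]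
  exact (Fact.out : p.Prime).not_dvd_one

theorem W_eq_of_trivial (D : Lay p L K T ν) (hθ : θ ∈ overInv L K T ν) {A : Subgroup G}
    (hZA : T ⊓ cent L K ≤ A) (hAT : A ≤ T) (hTA : T ≤ Subgroup.normalizer (A : Set G))
    {x y : G} (hx : Op p L K T ν θ x) (hy : Op p L K T ν θ y)
    (hxA : x ∈ Subgroup.normalizer (A : Set G)) (hyA : y ∈ Subgroup.normalizer (A : Set G))
    (hxy : x * y * x⁻¹ * y⁻¹ ∈ fixPart L K T) (htriv : ∀ a ∈ A, y ∈ stab (T ⊓ cent L K) a)
    (hrec : ∀ (D₁ : Lay p L (fixPart L K A) T ν) (θ₁ : G → ℂ)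
      (hθ₁ : θ₁ ∈ overInv L (fixPart L K A) T ν),
      Op p L (fixPart L K A) T ν θ₁ x → Op p L (fixPart L K A) T ν θ₁ y →
      W (fixPart L K A) θ₁ x y = W (fixPart L (fixPart L K A) T) (D₁.down hθ₁) x y) :
    W K θ x y = W (fixPart L K T) (D.down hθ) x y := by
  set Z := T ⊓ cent L K with hZ
  have hLA : L ≤ A := D.le_cent.trans hZA
  obtain ⟨o, hpo, hyo⟩ := hy.ord
  have hyZ : y ∈ Subgroup.normalizer (Z : Set G) :=
    Subgroup.mem_normalizer_iff.2 fun g => by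
      simp only [hZ, Subgroup.mem_inf]
      exact and_congr (Subgroup.mem_normalizer_iff.1 hy.normT g)
        (Subgroup.mem_normalizer_iff.1 (norm_cent hy.normL hy.normK) g)
  have hAL : A ≤ Subgroup.normalizer (L : Set G) := hAT.trans D.TnormL
  -- the part of `A` fixed by `y`
  set T₀ := A ⊓ fix L (Subgroup.zpowers y) with hT₀
  have hyQ : Subgroup.zpowers y ≤ Subgroup.normalizer (L : Set G) := Subgroup.zpowers_le.2 hy.normL
  have hLT₀ : L ≤ T₀ := fun l hl => Subgroup.mem_inf.2 ⟨hLA hl, Subgroup.le_normalizer hl,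
    fun t ht => mul_mem (inv_mem hl) ((Subgroup.mem_normalizer_iff.1 (hyQ ht) l).1 hl)⟩
  have hyT₀ : y ∈ fix L T₀ := ⟨hy.normL, fun t ht =>
    (stab_symm (hAL (Subgroup.mem_inf.1 ht).1)
      (((mem_fix_iff_stab hyQ).1 (Subgroup.mem_inf.1 ht).2).2 (Subgroup.mem_zpowers y))).2⟩
  have hcov : ∀ a ∈ A, ∃ z ∈ Z, a * z ∈ T₀ := by
    intro a ha
    obtain ⟨z, hz, hfz⟩ := exists_fixed_in_coset D.le_cent hZA hAL (fun b hb => D.pT b (hAT hb))
      o hpo y hy.normL hyZ hyA htriv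
      (fun b hb => stab_symm (pow_mem hy.normL o) ⟨hAL hb, (Subgroup.mem_inf.1 hyo).2.2 b (hAT hb)⟩) a ha
    refine ⟨z, hz, Subgroup.mem_inf.2 ⟨mul_mem ha (hZA hz), (mem_fix_iff_stab hyQ).2
      ⟨hAL (mul_mem ha (hZA hz)), Subgroup.zpowers_le.2 hfz⟩⟩⟩
  have hC1 : fixPart L K T₀ = fixPart L K A := by
    refine le_antisymm (fun g hg => ?_) (inf_le_inf_left _ (fix_mono inf_le_left))
    obtain ⟨hgK, hgf⟩ := Subgroup.mem_inf.1 hg
    refine Subgroup.mem_inf.2 ⟨hgK, hgf.1, fun a ha => ?_⟩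
    obtain ⟨z, hz, haz⟩ := hcov a ha
    have h1 : a * z ∈ stab L g := ⟨hAL (Subgroup.mem_inf.1 haz).1, hgf.2 _ haz⟩
    have h2 : z ∈ stab L g := (mem_cent.1 (Subgroup.mem_inf.1 hz).2).2 g hgK
    have h3 := mul_mem h1 (inv_mem h2)
    rw [mul_inv_cancel_right] at h3
    exact h3.2
  set DA := D.mono hAT hLA with hDA
  have hθA : θ ∈ overInv L K A ν :=
    mem_overInv.2 ⟨(mem_overInv.1 hθ).1, fun t ht => (mem_overInv.1 hθ).2 t (hAT ht)⟩
  have hθ0 : θ ∈ overInv L K T₀ ν :=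
    mem_overInv.2 ⟨(mem_overInv.1 hθ).1, fun t ht =>
      (mem_overInv.1 hθA).2 t (Subgroup.mem_inf.1 ht).1⟩
  set D₀ := DA.mono (T₀ := T₀) inf_le_left hLT₀ with hD₀
  set θ₁ := DA.down hθA with hθ₁
  have hdown : D₀.down hθ0 = θ₁ := by
    refine D₀.below_unique hθ0 (D₀.down_mem hθ0) ?_ (D₀.down_spec hθ0) ?_
    · rw [hC1]
      exact mem_overInv.2 ⟨(mem_overInv.1 (DA.down_mem hθA)).1,
        fun t ht => (mem_overInv.1 (DA.down_mem hθA)).2 t (Subgroup.mem_inf.1 ht).1⟩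
    · rw [hC1]; exact DA.down_spec hθA
  -- `x` normalizes `T₀`
  have hxT₀ : x ∈ Subgroup.normalizer (T₀ : Set G) := by
    have hmem : ∀ w : G, w ∈ Subgroup.normalizer (L : Set G) → w ∈ Subgroup.normalizer (A : Set G) →
        w * y * w⁻¹ * y⁻¹ ∈ fixPart L K T → ∀ t ∈ T₀, w * t * w⁻¹ ∈ T₀ := by
      intro w hwL hwA hwc t ht
      obtain ⟨htA, htf⟩ := Subgroup.mem_inf.1 ht
      have htA' : w * t * w⁻¹ ∈ A := (Subgroup.mem_normalizer_iff.1 hwA t).1 htA
      refine Subgroup.mem_inf.2 ⟨htA', (mem_fix_iff_stab hyQ).2 ⟨hAL htA', Subgroup.zpowers_le.2 ?_⟩⟩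
      have h1 : y ∈ stab L t := ((mem_fix_iff_stab hyQ).1 htf).2 (Subgroup.mem_zpowers y)
      have h2 : w * y * w⁻¹ ∈ stab L (w * t * w⁻¹) := by
        refine ⟨mul_mem (mul_mem hwL hy.normL) (inv_mem hwL), ?_⟩
        rw [show (w * t * w⁻¹)⁻¹ * (w * y * w⁻¹ * (w * t * w⁻¹) * (w * y * w⁻¹)⁻¹) =
          w * (t⁻¹ * (y * t * y⁻¹)) * w⁻¹ by group]
        exact (Subgroup.mem_normalizer_iff.1 hwL _).1 h1.2
      have h3 : w * y * w⁻¹ * y⁻¹ ∈ stab L (w * t * w⁻¹) :=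
        stab_symm (Subgroup.mem_inf.1 hwc).2.1 ⟨hAL htA', (Subgroup.mem_inf.1 hwc).2.2 _ (hAT htA')⟩
      have h4 := mul_mem (inv_mem h3) h2
      rwa [show (w * y * w⁻¹ * y⁻¹)⁻¹ * (w * y * w⁻¹) = y by group] at h4
    have hxi : x⁻¹ * y * x⁻¹⁻¹ * y⁻¹ ∈ fixPart L K T := by
      rw [show x⁻¹ * y * x⁻¹⁻¹ * y⁻¹ = x⁻¹ * (x * y * x⁻¹ * y⁻¹)⁻¹ * x by group]
      exact (norm_mem_iff (norm_fixPart_of_norm hx.normL hx.normK hx.normT) _).2 (inv_mem hxy)
    refine Subgroup.mem_normalizer_iff.2 fun g => ⟨hmem x hx.normL hxA hxy g, fun h => ?_⟩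
    have := hmem x⁻¹ (inv_mem hx.normL) (inv_mem hxA) hxi _ h
    rwa [show x⁻¹ * (x * g * x⁻¹) * x⁻¹⁻¹ = g by group] at this
  have hCle : fixPart L K T ≤ fixPart L K T₀ := inf_le_inf_left _ (fix_mono (inf_le_left.trans hAT))
  rw [D₀.W_step hθ0 hx.normL hx.normK hxT₀ hx.fixν hx.fixθ hyT₀ hy.normK hy.fixν hy.fixθ
    (hCle hyo) hpo (hCle hxy), hdown, hC1]
  have hTC : T ≤ Subgroup.normalizer (fixPart L K A : Set G) := fun t ht =>
    norm_fixPart_of_norm (D.TnormL ht) (D.TnormK ht) (hTA ht)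
  have D₁ : Lay p L (fixPart L K A) T ν := D.sub DA.le_fixPart DA.fixPart_le hTC
  have hθ₁T : θ₁ ∈ overInv L (fixPart L K A) T ν :=
    mem_overInv.2 ⟨(mem_overInv.1 (DA.down_mem hθA)).1, fun t ht =>
      DA.down_fixed hθA (D.TnormL ht) (D.TnormK ht) (hTA ht) (D.invT t ht)
        ((mem_overInv.1 hθ).2 t ht)⟩
  have hCC : fixPart L (fixPart L K A) T = fixPart L K T := fixPart_fixPart hAT
  rw [hrec D₁ θ₁ hθ₁T
    ⟨hx.normL, norm_fixPart_of_norm hx.normL hx.normK hxA, hx.normT, hx.fixν,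
      DA.down_fixed hθA hx.normL hx.normK hxA hx.fixν hx.fixθ, by rw [hCC]; exact hx.ord⟩
    ⟨hy.normL, norm_fixPart_of_norm hy.normL hy.normK hyA, hy.normT, hy.fixν,
      DA.down_fixed hθA hy.normL hy.normK hyA hy.fixν hy.fixθ, by rw [hCC]; exact hy.ord⟩, hCC,
    D.down_trans hAT hLA hTA D₁ hθ hθA hθ₁T]

/-- The commutator sum is preserved by the correspondence. -/
theorem W_down (D : Lay p L K T ν) (hθ : θ ∈ overInv L K T ν) {x y : G}
    (hx : Op p L K T ν θ x) (hy : Op p L K T ν θ y)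
    (hxy : x * y * x⁻¹ * y⁻¹ ∈ fixPart L K T) :
    W K θ x y = W (fixPart L K T) (D.down hθ) x y := by
  induction hn : ((mems T).filter (fun t => t ∉ cent L K)).card using Nat.strong_induction_on
    generalizing K θ x y with
  | _ n ih =>
  by_cases hT : T ≤ cent L K
  · obtain ⟨h1, h2⟩ := D.down_of_central hT hθ
    rw [h1, h2]
  set Z := T ⊓ cent L K with hZ
  have hZT : Z < T := lt_of_le_of_ne inf_le_left fun e => hT (e ▸ inf_le_right)
  have hTZ : T ≤ Subgroup.normalizer (Z : Set G) := fun t ht =>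
    Subgroup.mem_normalizer_iff.2 fun g => by
      simp only [hZ, Subgroup.mem_inf]
      exact and_congr (Subgroup.mem_normalizer_iff.1 (Subgroup.le_normalizer ht) g)
        (Subgroup.mem_normalizer_iff.1 (norm_cent (D.TnormL ht) (D.TnormK ht)) g)
  have hnormZ : ∀ w, w ∈ Subgroup.normalizer (L : Set G) → w ∈ Subgroup.normalizer (K : Set G) →
      w ∈ Subgroup.normalizer (T : Set G) → w ∈ Subgroup.normalizer (Z : Set G) := fun w hL hK hT' =>
    Subgroup.mem_normalizer_iff.2 fun g => by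
      simp only [hZ, Subgroup.mem_inf]
      exact and_congr (Subgroup.mem_normalizer_iff.1 hT' g)
        (Subgroup.mem_normalizer_iff.1 (norm_cent hL hK) g)
  -- the candidates for the next layer
  let P : Subgroup G → Prop := fun A => Z < A ∧ A ≤ T ∧ T ≤ Subgroup.normalizer (A : Set G) ∧
    x ∈ Subgroup.normalizer (A : Set G) ∧ y ∈ Subgroup.normalizer (A : Set G) ∧
    ∀ a ∈ A, ∀ t ∈ T, a * t * a⁻¹ * t⁻¹ ∈ Z
  have hP : ∃ A, P A := by
    haveI : (Z.subgroupOf T).Normal := Subgroup.normal_subgroupOf_of_le_normalizer hTZ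
    set Q := T ⧸ Z.subgroupOf T
    have hQp : IsPGroup p Q := by
      intro q
      obtain ⟨t, rfl⟩ := QuotientGroup.mk_surjective q
      obtain ⟨j, hj⟩ := D.pT t t.2
      refine ⟨j, ?_⟩
      rw [← QuotientGroup.mk_pow, QuotientGroup.eq_one_iff, Subgroup.mem_subgroupOf]
      simpa [hZ, Subgroup.mem_inf] using D.le_cent hj
    haveI : Nontrivial Q := by
      obtain ⟨t, ht, htZ⟩ := SetLike.exists_of_lt hZT
      refine ⟨⟨((⟨t, ht⟩ : T) : Q), 1, fun e => htZ ?_⟩⟩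
      exact Subgroup.mem_subgroupOf.1 ((QuotientGroup.eq_one_iff _).1 e)
    haveI := hQp.center_nontrivial
    set A0 := ((Subgroup.center Q).comap (QuotientGroup.mk' (Z.subgroupOf T))).map T.subtype with hA0
    have hmem : ∀ a, a ∈ A0 ↔ a ∈ T ∧ ∀ t ∈ T, a * t * a⁻¹ * t⁻¹ ∈ Z := by
      intro a
      rw [hA0, Subgroup.mem_map]
      constructor
      · rintro ⟨a, ha, rfl⟩
        refine ⟨a.2, fun t ht => ?_⟩
        have h := Subgroup.mem_center_iff.1 (Subgroup.mem_comap.1 ha)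
          (QuotientGroup.mk' _ ⟨t, ht⟩)
        have h' : QuotientGroup.mk' (Z.subgroupOf T) (a * ⟨t, ht⟩ * a⁻¹ * ⟨t, ht⟩⁻¹) = 1 := by
          rw [map_mul, map_mul, map_mul, map_inv, map_inv, ← h]
          group
        simpa [Subgroup.mem_subgroupOf] using (QuotientGroup.eq_one_iff _).1 h'
      · rintro ⟨haT, ha⟩
        refine ⟨⟨a, haT⟩, Subgroup.mem_comap.2 (Subgroup.mem_center_iff.2 fun q => ?_), rfl⟩
        obtain ⟨t, rfl⟩ := QuotientGroup.mk'_surjective (Z.subgroupOf T) q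
        have h' : QuotientGroup.mk' (Z.subgroupOf T) (⟨a, haT⟩ * t * ⟨a, haT⟩⁻¹ * t⁻¹) = 1 :=
          (QuotientGroup.eq_one_iff _).2 (Subgroup.mem_subgroupOf.2 (by simpa using ha t t.2))
        rw [map_mul, map_mul, map_mul, map_inv, map_inv, mul_inv_eq_one, mul_inv_eq_iff_eq_mul] at h'
        exact h'.symm
    have hnorm : ∀ w, w ∈ Subgroup.normalizer (T : Set G) → w ∈ Subgroup.normalizer (Z : Set G) →
        w ∈ Subgroup.normalizer (A0 : Set G) := by
      have hone : ∀ w, w ∈ Subgroup.normalizer (T : Set G) → w ∈ Subgroup.normalizer (Z : Set G) →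
          ∀ a ∈ A0, w * a * w⁻¹ ∈ A0 := by
        intro w hwT hwZ a ha
        rw [hmem] at ha ⊢
        refine ⟨(Subgroup.mem_normalizer_iff.1 hwT a).1 ha.1, fun t ht => ?_⟩
        rw [show w * a * w⁻¹ * t * (w * a * w⁻¹)⁻¹ * t⁻¹ =
          w * (a * (w⁻¹ * t * w) * a⁻¹ * (w⁻¹ * t * w)⁻¹) * w⁻¹ by group]
        exact (Subgroup.mem_normalizer_iff.1 hwZ _).1 (ha.2 _ ((norm_mem_iff hwT t).2 ht))
      intro w hwT hwZ
      refine Subgroup.mem_normalizer_iff.2 fun a => ⟨hone w hwT hwZ a, fun h => ?_⟩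
      have := hone w⁻¹ (inv_mem hwT) (inv_mem hwZ) _ h
      rwa [show w⁻¹ * (w * a * w⁻¹) * w⁻¹⁻¹ = a by group] at this
    refine ⟨A0, ?_, fun a ha => ((hmem a).1 ha).1,
      fun t ht => hnorm t (Subgroup.le_normalizer ht) (hTZ ht),
      hnorm x hx.normT (hnormZ x hx.normL hx.normK hx.normT),
      hnorm y hy.normT (hnormZ y hy.normL hy.normK hy.normT), fun a ha => ((hmem a).1 ha).2⟩
    refine lt_of_le_of_ne (fun z hz => (hmem z).2 ⟨hZT.le hz, fun t ht => ?_⟩) fun e => ?_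
    · rw [show z * t * z⁻¹ * t⁻¹ = z * (t * z⁻¹ * t⁻¹) by group]
      exact mul_mem hz ((Subgroup.mem_normalizer_iff.1 (hTZ ht) _).1 (inv_mem hz))
    · obtain ⟨c, hc⟩ := exists_ne (1 : Subgroup.center Q)
      obtain ⟨a, ha⟩ := QuotientGroup.mk'_surjective (Z.subgroupOf T) (c : Q)
      have haA : (a : G) ∈ A0 := Subgroup.mem_map.2 ⟨a, Subgroup.mem_comap.2 (ha ▸ c.2), rfl⟩
      rw [← e] at haA
      exact hc (Subtype.ext (by
        rw [← ha]
        exact (QuotientGroup.eq_one_iff _).2 (Subgroup.mem_subgroupOf.2 haA)))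
  obtain ⟨A, hAmin⟩ := (Set.toFinite {A | P A}).exists_minimal hP
  obtain ⟨⟨hZA, hAT, hTA, hxA, hyA, hAcomm⟩, hmin⟩ := hAmin
  have hmin' : ∀ B, P B → B ≤ A → A ≤ B := fun B hB hle => hmin hB hle
  -- the operators on `A / Z`
  haveI : (Z.subgroupOf A).Normal :=
    Subgroup.normal_subgroupOf_of_le_normalizer (hAT.trans hTZ)
  let hAcm : ∀ a b : A ⧸ Z.subgroupOf A, a * b = b * a := by
    intro a b
    obtain ⟨a, rfl⟩ := QuotientGroup.mk_surjective a
    obtain ⟨b, rfl⟩ := QuotientGroup.mk_surjective b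
    have h : ((a * b * a⁻¹ * b⁻¹ : A) : A ⧸ Z.subgroupOf A) = 1 :=
      (QuotientGroup.eq_one_iff _).2 (Subgroup.mem_subgroupOf.2 (by
        simpa using hAcomm a a.2 b (hAT b.2)))
    rw [QuotientGroup.mk_mul, QuotientGroup.mk_mul, QuotientGroup.mk_mul, QuotientGroup.mk_inv,
      QuotientGroup.mk_inv, mul_inv_eq_one, mul_inv_eq_iff_eq_mul] at h
    exact h
  letI : CommGroup (A ⧸ Z.subgroupOf A) :=
    { (inferInstance : Group (A ⧸ Z.subgroupOf A)) with mul_comm := hAcm }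
  set V := Additive (A ⧸ Z.subgroupOf A)
  let NA := Subgroup.normalizer (A : Set G) ⊓ Subgroup.normalizer (Z : Set G)
  let cA : NA → (A →* A) := fun w =>
    { toFun := fun a => ⟨w * a * (w : G)⁻¹,
        (Subgroup.mem_normalizer_iff.1 (Subgroup.mem_inf.1 w.2).1 a).1 a.2⟩
      map_one' := Subtype.ext (by simp)
      map_mul' := fun a b => Subtype.ext (by simp [mul_assoc]) }
  let E : NA → AddMonoid.End V := fun w => MonoidHom.toAdditive
    (QuotientGroup.map (Z.subgroupOf A) (Z.subgroupOf A) (cA w) fun a ha =>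
      Subgroup.mem_comap.2 (Subgroup.mem_subgroupOf.2
        ((Subgroup.mem_normalizer_iff.1 (Subgroup.mem_inf.1 w.2).2 _).1 ha)))
  have hEval : ∀ (w : NA) (a : A), E w (Additive.ofMul (a : A ⧸ Z.subgroupOf A)) =
      Additive.ofMul ((cA w a : A) : A ⧸ Z.subgroupOf A) := fun _ _ => rfl
  have hEext : ∀ f g : AddMonoid.End V, (∀ a : A, f (Additive.ofMul (a : A ⧸ Z.subgroupOf A)) =
      g (Additive.ofMul (a : A ⧸ Z.subgroupOf A))) → f = g := by
    intro f g h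
    refine AddMonoidHom.ext fun v => ?_
    obtain ⟨a, ha⟩ := QuotientGroup.mk_surjective (Additive.toMul v)
    have := h a
    rwa [ha] at this
  have hEmul : ∀ w w' : NA, E (w * w') = E w * E w' := fun w w' => hEext _ _ fun a => by
    show E (w * w') _ = E w (E w' _)
    rw [hEval, hEval, hEval]
    congr 2
    exact Subtype.ext (by simp [cA, mul_assoc])
  have hE1 : ∀ w : NA, (∀ a ∈ A, (w : G) ∈ stab Z a) → E w = 1 := fun w hw => hEext _ _ fun a => by
    show E w _ = _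
    rw [hEval]
    refine congrArg Additive.ofMul (QuotientGroup.eq.2 ?_).symm
    exact Subgroup.mem_subgroupOf.2 (by simpa [cA] using (hw a a.2).2)
  have hE1' : ∀ w : NA, E w = 1 → ∀ a ∈ A, (w : G) ∈ stab Z a := by
    intro w hw a ha
    have h : E w (Additive.ofMul ((⟨a, ha⟩ : A) : A ⧸ Z.subgroupOf A)) =
        Additive.ofMul ((⟨a, ha⟩ : A) : A ⧸ Z.subgroupOf A) := by rw [hw]; rfl
    rw [hEval] at h
    have h' := QuotientGroup.eq.1 (Additive.ofMul.injective h).symm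
    exact ⟨(Subgroup.mem_inf.1 w.2).2, by simpa [cA] using Subgroup.mem_subgroupOf.1 h'⟩
  set C := fixPart L K T with hCdef
  have hCstab : ∀ c ∈ C, ∀ a ∈ A, c ∈ stab L a := fun c hc a ha =>
    stab_symm (Subgroup.mem_inf.1 hc).2.1
      ⟨D.TnormL (hAT ha), (Subgroup.mem_inf.1 hc).2.2 a (hAT ha)⟩
  have hCNA : C ≤ NA := by
    have hone : ∀ c ∈ C, ∀ B : Subgroup G, L ≤ B → B ≤ A → ∀ b ∈ B, c * b * c⁻¹ ∈ B := by
      intro c hc B hLB hBA b hb
      have := mul_mem hb (hLB (hCstab c hc b (hBA hb)).2)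
      rwa [mul_inv_cancel_left] at this
    have hboth : ∀ B : Subgroup G, L ≤ B → B ≤ A → C ≤ Subgroup.normalizer (B : Set G) := by
      intro B hLB hBA c hc
      refine Subgroup.mem_normalizer_iff.2 fun b => ⟨hone c hc B hLB hBA b, fun h => ?_⟩
      have := hone c⁻¹ (inv_mem hc) B hLB hBA _ h
      rwa [show c⁻¹ * (c * b * c⁻¹) * c⁻¹⁻¹ = b by group] at this
    exact le_inf (hboth A (D.le_cent.trans hZA.le) le_rfl) (hboth Z D.le_cent hZA.le)
  have hCE : ∀ c : NA, (c : G) ∈ C → E c = 1 := fun c hc => hE1 c fun a ha =>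
    ⟨(Subgroup.mem_inf.1 c.2).2, D.le_cent (hCstab c hc a ha).2⟩
  let X : NA := ⟨x, Subgroup.mem_inf.2 ⟨hxA, hnormZ x hx.normL hx.normK hx.normT⟩⟩
  let Y : NA := ⟨y, Subgroup.mem_inf.2 ⟨hyA, hnormZ y hy.normL hy.normK hy.normT⟩⟩
  have hpow : ∀ (w : NA) (k : ℕ), E w ^ k = E (w ^ k) := by
    intro w k
    induction k with
    | zero => rw [pow_zero, pow_zero]; exact (hE1 1 fun a _ => one_mem _).symm
    | succ k ihk => rw [pow_succ, pow_succ, ihk, hEmul]
  have hcomm : E X * E Y = E Y * E X := by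
    rw [← hEmul, ← hEmul, show X * Y = (X * Y * X⁻¹ * Y⁻¹) * (Y * X) by group, hEmul,
      hCE _ (by simpa [X, Y] using hxy), one_mul]
  set R := Subring.closure ({E X, E Y} : Set (AddMonoid.End V)) with hR
  haveI : IsMulCommutative R := Subring.isMulCommutative_closure fun a ha b hb => by
    rcases ha with rfl | rfl <;> rcases hb with rfl | rfl
    exacts [rfl, hcomm, hcomm.symm, rfl]
  have hRcomm : ∀ a b : R, a * b = b * a := fun a b => IsMulCommutative.is_comm.comm a b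
  have hXR : E X ∈ R := Subring.subset_closure (Set.mem_insert _ _)
  have hYR : E Y ∈ R := Subring.subset_closure (Set.mem_insert_of_mem _ rfl)
  haveI : Finite (AddMonoid.End V) := Finite.of_injective
    (fun f : AddMonoid.End V => (fun v : V => f v)) DFunLike.coe_injective
  -- every nonzero member is injective
  have hinj : ∀ r : R, r ≠ 0 → ∀ v, (r : AddMonoid.End V) v = 0 → v = 0 := by
    intro r hr
    let φ : A →* Multiplicative V :=
      { toFun := fun a => Multiplicative.ofAdd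
          ((r : AddMonoid.End V) (Additive.ofMul (a : A ⧸ Z.subgroupOf A)))
        map_one' := by rw [QuotientGroup.mk_one, ofMul_one, map_zero, ofAdd_zero]
        map_mul' := fun a b => by rw [QuotientGroup.mk_mul, ofMul_mul, map_add, ofAdd_add] }
    let B : Subgroup G := φ.ker.map A.subtype
    have hmemB : ∀ a (ha : a ∈ A), a ∈ B ↔
        (r : AddMonoid.End V) (Additive.ofMul ((⟨a, ha⟩ : A) : A ⧸ Z.subgroupOf A)) = 0 := by
      intro a ha
      constructor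
      · rintro ⟨b, hb, hba⟩
        rw [show (⟨a, ha⟩ : A) = b from Subtype.ext hba.symm]
        exact Multiplicative.ofAdd.injective (MonoidHom.mem_ker.1 hb)
      · intro h
        refine ⟨⟨a, ha⟩, MonoidHom.mem_ker.2 ?_, rfl⟩
        show Multiplicative.ofAdd _ = _
        rw [h, ofAdd_zero]
    have hBA : B ≤ A := Subgroup.map_subtype_le _
    have hZB : Z ≤ B := fun z hz => (hmemB z (hZA.le hz)).2 (by
      rw [(QuotientGroup.eq_one_iff (N := Z.subgroupOf A) (⟨z, hZA.le hz⟩ : A)).2 hz, ofMul_one,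
        map_zero])
    rcases hZB.eq_or_lt with he | hlt
    · intro v hv
      obtain ⟨⟨a, ha⟩, hav⟩ := QuotientGroup.mk_surjective (Additive.toMul v)
      have hv' : v = Additive.ofMul ((⟨a, ha⟩ : A) : A ⧸ Z.subgroupOf A) := by rw [hav]; rfl
      rw [hv'] at hv ⊢
      rw [(QuotientGroup.eq_one_iff (N := Z.subgroupOf A) (⟨a, ha⟩ : A)).2
        (Subgroup.mem_subgroupOf.2 (he.symm ▸ (hmemB a ha).2 hv)), ofMul_one]
    · exfalso
      have hnormB : ∀ w : NA, E w ∈ R → ∀ a ∈ B, (w : G) * a * (w : G)⁻¹ ∈ B := by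
        intro w hw a ha
        have haA := hBA ha
        have hwa : (w : G) * a * (w : G)⁻¹ ∈ A :=
          (Subgroup.mem_normalizer_iff.1 (Subgroup.mem_inf.1 w.2).1 a).1 haA
        rw [hmemB _ hwa]
        rw [hmemB a haA] at ha
        have h := congrArg (fun s : R => (s : AddMonoid.End V)
          (Additive.ofMul ((⟨a, haA⟩ : A) : A ⧸ Z.subgroupOf A))) (hRcomm r ⟨E w, hw⟩)
        simp only [Subring.coe_mul] at h
        change (r : AddMonoid.End V) (E w _) = E w ((r : AddMonoid.End V) _) at h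
        rw [ha, map_zero, hEval] at h
        exact h
      have hnB : ∀ w : NA, E w ∈ R → E w⁻¹ ∈ R → (w : G) ∈ Subgroup.normalizer (B : Set G) := by
        intro w hw hw'
        refine Subgroup.mem_normalizer_iff.2 fun a => ⟨hnormB w hw a, fun h => ?_⟩
        have := hnormB w⁻¹ hw' _ h
        rwa [show ((w⁻¹ : NA) : G) * ((w : G) * a * (w : G)⁻¹) * ((w⁻¹ : NA) : G)⁻¹ = a by
          rw [Subgroup.coe_inv]; group] at this
      have hTB : T ≤ Subgroup.normalizer (B : Set G) := by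
        have hone : ∀ t ∈ T, ∀ a ∈ B, t * a * t⁻¹ ∈ B := by
          intro t ht a ha
          have hz : a⁻¹ * (t * a * t⁻¹) ∈ Z := by
            have := hAcomm a⁻¹ (inv_mem (hBA ha)) t ht
            rwa [show a⁻¹ * t * a⁻¹⁻¹ * t⁻¹ = a⁻¹ * (t * a * t⁻¹) by group] at this
          have := mul_mem ha (hZB hz)
          rwa [mul_inv_cancel_left] at this
        intro t ht
        refine Subgroup.mem_normalizer_iff.2 fun a => ⟨hone t ht a, fun h => ?_⟩
        have := hone t⁻¹ (inv_mem ht) _ h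
        rwa [show t⁻¹ * (t * a * t⁻¹) * t⁻¹⁻¹ = a by group] at this
      have hinvR : ∀ w : NA, E w ∈ R → (∃ o : ℕ, o ≠ 0 ∧ (w : G) ^ o ∈ C) → E w⁻¹ ∈ R := by
        rintro w hw ⟨o, ho, hwo⟩
        have h1 : E (w ^ o) = 1 := hCE _ (by simpa using hwo)
        have : E w⁻¹ = E w ^ (o - 1) := by
          rw [hpow, show w ^ (o - 1) = w ^ o * w⁻¹ by
            conv_rhs => rw [← Nat.sub_add_cancel (Nat.one_le_iff_ne_zero.2 ho), pow_succ,
              mul_inv_cancel_right], hEmul, h1, one_mul]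
        rw [this]
        exact pow_mem hw _
      have hord : ∀ w : G, (∃ o : ℕ, ¬ p ∣ o ∧ w ^ o ∈ C) → ∃ o : ℕ, o ≠ 0 ∧ w ^ o ∈ C :=
        fun w ⟨o, ho, h⟩ => ⟨o, fun e => ho (e ▸ dvd_zero p), h⟩
      have hAB : A ≤ B := hmin' B ⟨hlt, hBA.trans hAT, hTB,
        hnB X hXR (hinvR X hXR (hord x hx.ord)), hnB Y hYR (hinvR Y hYR (hord y hy.ord)),
        fun a ha => hAcomm a (hBA ha)⟩ hBA
      refine hr (Subtype.ext (hEext _ _ fun a => ?_))
      exact (hmemB a a.2).1 (hAB a.2)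
  haveI : Nontrivial R := by
    obtain ⟨a, ha, haZ⟩ := SetLike.exists_of_lt hZA
    refine ⟨⟨1, 0, fun e => haZ ?_⟩⟩
    have h := congrArg (fun s : R => (s : AddMonoid.End V)
      (Additive.ofMul ((⟨a, ha⟩ : A) : A ⧸ Z.subgroupOf A))) e
    exact Subgroup.mem_subgroupOf.1 ((QuotientGroup.eq_one_iff _).1 (Additive.ofMul.injective h))
  haveI : NoZeroDivisors R := ⟨fun {a b} hab => by
    by_contra hc
    push Not at hc
    refine hc.2 (Subtype.ext (hEext _ _ fun c => hinj a hc.1 _ ?_))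
    exact congrArg (fun s : R => (s : AddMonoid.End V) _) hab⟩
  haveI : IsDomain R := NoZeroDivisors.to_isDomain R
  haveI : Finite R := inferInstance
  letI : CommRing R := { (inferInstance : Ring R) with mul_comm := hRcomm }
  have hunit : ∀ w : NA, E w ∈ R → (∃ o : ℕ, ¬ p ∣ o ∧ (w : G) ^ o ∈ C) →
      ∃ u : Rˣ, ((u : R) : AddMonoid.End V) = E w := by
    rintro w hw ⟨o, ho, hwo⟩
    have h : (⟨E w, hw⟩ : R) ^ o = 1 := Subtype.ext (by
      rw [SubmonoidClass.coe_pow, hpow]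
      exact hCE _ (by simpa using hwo))
    exact ⟨Units.ofPowEqOne _ o h (fun e => ho (e ▸ dvd_zero p)), rfl⟩
  obtain ⟨ux, hux⟩ := hunit X hXR hx.ord
  obtain ⟨uy, huy⟩ := hunit Y hYR hy.ord
  haveI : Finite Rˣ := inferInstance
  obtain ⟨g, hg⟩ := IsCyclic.exists_monoid_generator (α := Rˣ)
  obtain ⟨a, rfl⟩ := Submonoid.mem_powers_iff _ _ |>.1 (hg ux)
  obtain ⟨b, rfl⟩ := Submonoid.mem_powers_iff _ _ |>.1 (hg uy)
  -- Euclid's algorithm on the exponents
  suffices hEuc : ∀ (n a b : ℕ), a + b = n → ∀ (x y : G) (hxN : x ∈ NA) (hyN : y ∈ NA),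
      Op p L K T ν θ x → Op p L K T ν θ y → x * y * x⁻¹ * y⁻¹ ∈ C →
      E ⟨x, hxN⟩ = ((g ^ a : Rˣ) : R) → E ⟨y, hyN⟩ = ((g ^ b : Rˣ) : R) →
      W K θ x y = W C (D.down hθ) x y from
    hEuc _ a b rfl x y X.2 Y.2 hx hy hxy hux.symm huy.symm
  intro m
  induction m using Nat.strong_induction_on with
  | _ m ihm =>
  intro a b hab x y hxN hyN hx hy hxy hEx hEy
  have hend : ∀ (x y : G) (hxN : x ∈ NA) (hyN : y ∈ NA), Op p L K T ν θ x → Op p L K T ν θ y →
      x * y * x⁻¹ * y⁻¹ ∈ C → E ⟨y, hyN⟩ = 1 → W K θ x y = W C (D.down hθ) x y := by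
    intro x y hxN hyN hx hy hxy hEy
    refine D.W_eq_of_trivial hθ hZA.le hAT hTA hx hy (Subgroup.mem_inf.1 hxN).1
      (Subgroup.mem_inf.1 hyN).1 hxy (hE1' _ hEy) ?_
    intro D₁ θ₁ hθ₁ hx₁ hy₁
    refine ih _ ?_ D₁ hθ₁ hx₁ hy₁ ?_ rfl
    · rw [← hn]
      refine Finset.card_lt_card (Finset.ssubset_iff_of_subset ?_ |>.2 ?_)
      · intro t ht
        rw [Finset.mem_filter] at ht ⊢
        refine ⟨ht.1, fun hc => ht.2 (mem_cent.2 ⟨(mem_cent.1 hc).1, fun k hk =>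
          (mem_cent.1 hc).2 k (Subgroup.mem_inf.1 hk).1⟩)⟩
      · obtain ⟨t, ht, htZ⟩ := SetLike.exists_of_lt hZA
        refine ⟨t, Finset.mem_filter.2 ⟨mem_mems.2 (hAT ht),
          fun hc => htZ (Subgroup.mem_inf.2 ⟨hAT ht, hc⟩)⟩, fun hc => (Finset.mem_filter.1 hc).2 ?_⟩
        exact mem_cent.2 ⟨D.TnormL (hAT ht), fun k hk =>
          ⟨D.TnormL (hAT ht), (Subgroup.mem_inf.1 hk).2.2 t ht⟩⟩
    · rw [fixPart_fixPart hAT]; exact hxy
  have hθi := (mem_overInv.1 hθ).1.1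
  have hβi := (mem_overInv.1 (D.down_mem hθ)).1.1
  have hswap : ∀ x y : G, W K θ y x = W C (D.down hθ) y x → W K θ x y = W C (D.down hθ) x y :=
    fun x y h => by rw [W_swap hθi y x, W_swap hβi y x, h]
  have hCn : ∀ w : G, Op p L K T ν θ w → w ∈ Subgroup.normalizer (C : Set G) := fun w hw =>
    norm_fixPart_of_norm hw.normL hw.normK hw.normT
  have hxy' : y * x * y⁻¹ * x⁻¹ ∈ C := by
    rw [show y * x * y⁻¹ * x⁻¹ = (x * y * x⁻¹ * y⁻¹)⁻¹ by group]
    exact inv_mem hxy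
  -- the shifted element
  have hshift : ∀ (x y : G) (hxN : x ∈ NA) (hyN : y ∈ NA) (a b : ℕ), b ≤ a → Op p L K T ν θ x →
      Op p L K T ν θ y → x * y * x⁻¹ * y⁻¹ ∈ C →
      E ⟨x, hxN⟩ = ((g ^ a : Rˣ) : R) → E ⟨y, hyN⟩ = ((g ^ b : Rˣ) : R) →
      Op p L K T ν θ (x * y⁻¹) ∧ x * y⁻¹ * y * (x * y⁻¹)⁻¹ * y⁻¹ ∈ C ∧
      E ⟨x * y⁻¹, mul_mem hxN (inv_mem hyN)⟩ = ((g ^ (a - b) : Rˣ) : R) := by
    intro x y hxN hyN a b hle hx hy hxy hEx hEy
    refine ⟨hx.mul hy.inv ?_, ?_, ?_⟩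
    · rw [show x * y⁻¹ * x⁻¹ * y⁻¹⁻¹ = y⁻¹ * (x * y * x⁻¹ * y⁻¹)⁻¹ * y by group]
      exact (norm_mem_iff (hCn y hy) _).2 (inv_mem hxy)
    · rw [show x * y⁻¹ * y * (x * y⁻¹)⁻¹ * y⁻¹ = x * y * x⁻¹ * y⁻¹ by group]
      exact hxy
    · have h1 := hEmul ⟨x * y⁻¹, mul_mem hxN (inv_mem hyN)⟩ ⟨y, hyN⟩
      rw [show (⟨x * y⁻¹, mul_mem hxN (inv_mem hyN)⟩ : NA) * ⟨y, hyN⟩ = ⟨x, hxN⟩ from
        Subtype.ext (inv_mul_cancel_right x y), hEx, hEy] at h1
      have h2 : ((g ^ (a - b) : Rˣ) : R).1 * ((g ^ b : Rˣ) : R).1 = ((g ^ a : Rˣ) : R).1 := by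
        rw [← Subring.coe_mul, ← Units.val_mul, ← pow_add, Nat.sub_add_cancel hle]
      have h3 : ((g ^ b : Rˣ) : R).1 * (((g ^ b)⁻¹ : Rˣ) : R).1 = 1 := by
        rw [← Subring.coe_mul, ← Units.val_mul, mul_inv_cancel, Units.val_one, Subring.coe_one]
      have h4 := congrArg (fun s => s * (((g ^ b)⁻¹ : Rˣ) : R).1) (h2.trans h1)
      simpa only [mul_assoc, h3, mul_one] using h4.symm
  rcases Nat.eq_zero_or_pos b with rfl | hb
  · exact hend x y hxN hyN hx hy hxy (by rw [hEy, pow_zero]; rfl)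
  rcases Nat.eq_zero_or_pos a with rfl | ha
  · exact hswap x y (hend y x hyN hxN hy hx hxy' (by rw [hEx, pow_zero]; rfl))
  rcases le_total b a with hle | hle
  · obtain ⟨h1, h2, h3⟩ := hshift x y hxN hyN a b hle hx hy hxy hEx hEy
    have h := ihm (a - b + b) (by omega) (a - b) b rfl (x * y⁻¹) y (mul_mem hxN (inv_mem hyN)) hyN
      h1 hy h2 h3 hEy
    rwa [← W_shift θ (x * y⁻¹) hy.normK, ← W_shift (D.down hθ) (x * y⁻¹) (hCn y hy),
      inv_mul_cancel_right] at h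
  · obtain ⟨h1, h2, h3⟩ := hshift y x hyN hxN b a hle hy hx hxy' hEy hEx
    have h := ihm (b - a + a) (by omega) (b - a) a rfl (y * x⁻¹) x (mul_mem hyN (inv_mem hxN)) hxN
      h1 hx h2 h3 hEx
    rw [← W_shift θ (y * x⁻¹) hx.normK, ← W_shift (D.down hθ) (y * x⁻¹) (hCn x hx),
      inv_mul_cancel_right] at h
    exact hswap x y h

end Lay

end CfsgLib.RelMcKay
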