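import Cfsg.Agent.Lib.RelMcKay.Congr
import Cfsg.Agent.Lib.Glauberman.LayerCorr
import Cfsg.Agent.Lib.BlockReg.Integral
import Cfsg.Agent.Lib.Char.Normal

/-!
# The correspondence across a layer of order prime to `p`

`L ≤ K` with `p ∤ |K : L|`, a group `T` acts through a `p`-group, `C/L` is the fixed part of `K/L`
and `ν` is an invariant character of `L`. Invariant characters over `ν` of `K` and of `C` correspond
by multiplicities prime to `p`.
-/

set_option autoImplicit false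
set_option linter.unusedSectionVars false
set_option linter.style.haveILetI false
set_option maxHeartbeats 800000

namespace CfsgLib.RelMcKay

open Cfsg
open scoped ComplexConjugate

attribute [local instance] Classical.propDecidable

universe u

variable {G : Type u} [Group G]

/-- The elements normalizing `L` that `T` fixes modulo `L`. -/
def fix (L T : Subgroup G) : Subgroup G where
  carrier := {g | g ∈ Subgroup.normalizer (L : Set G) ∧ ∀ t ∈ T, g⁻¹ * (t * g * t⁻¹) ∈ L}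
  one_mem' := ⟨one_mem _, fun _ _ => by simp⟩
  mul_mem' := by
    rintro g h ⟨hg, hg'⟩ ⟨hh, hh'⟩
    refine ⟨mul_mem hg hh, fun t ht => ?_⟩
    have e : (g * h)⁻¹ * (t * (g * h) * t⁻¹) =
        h⁻¹ * (g⁻¹ * (t * g * t⁻¹)) * h * (h⁻¹ * (t * h * t⁻¹)) := by group
    rw [e]
    exact mul_mem ((Subgroup.mem_normalizer_iff''.1 hh _).1 (hg' t ht)) (hh' t ht)
  inv_mem' := by
    rintro g ⟨hg, hg'⟩
    refine ⟨inv_mem hg, fun t ht => ?_⟩
    have e : g⁻¹⁻¹ * (t * g⁻¹ * t⁻¹) = g * (g⁻¹ * (t * g * t⁻¹))⁻¹ * g⁻¹ := by group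
    rw [e]
    exact (Subgroup.mem_normalizer_iff.1 hg _).1 (inv_mem (hg' t ht))

theorem mem_fix {L T : Subgroup G} {g : G} : g ∈ fix L T ↔
    g ∈ Subgroup.normalizer (L : Set G) ∧ ∀ t ∈ T, g⁻¹ * (t * g * t⁻¹) ∈ L := Iff.rfl

/-- The fixed part of a layer. -/
def fixPart (L K T : Subgroup G) : Subgroup G := K ⊓ fix L T

variable [Fintype G]

/-- A layer with an invariant character. -/
structure Lay (p : ℕ) (L K T : Subgroup G) (ν : G → ℂ) : Prop where
  LK : L ≤ K
  Knorm : K ≤ Subgroup.normalizer (L : Set G)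
  TnormL : T ≤ Subgroup.normalizer (L : Set G)
  TnormK : T ≤ Subgroup.normalizer (K : Set G)
  LT : L ≤ T
  pT : ∀ t ∈ T, ∃ j : ℕ, t ^ p ^ j ∈ L
  cop : ¬ p ∣ L.relIndex K
  nu : IrrOn L ν
  invK : ∀ g ∈ K, cj g ν = ν
  invT : ∀ t ∈ T, cj t ν = ν

/-- The invariant characters of `H` over `ν`. -/
noncomputable def overInv (L H T : Subgroup G) (ν : G → ℂ) : Finset (G → ℂ) :=
  (irrs H).filter (fun θ => mult L θ ν ≠ 0 ∧ ∀ t ∈ T, cj t θ = θ)

theorem mem_overInv {L H T : Subgroup G} {ν θ : G → ℂ} :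
    θ ∈ overInv L H T ν ↔ Over L H ν θ ∧ ∀ t ∈ T, cj t θ = θ := by
  rw [overInv, Finset.mem_filter, mem_irrs, Over, and_assoc]

namespace Lay

variable {p : ℕ} {L K T : Subgroup G} {ν : G → ℂ}

theorem le_fixPart (D : Lay p L K T ν) : L ≤ fixPart L K T := fun l hl =>
  Subgroup.mem_inf.2 ⟨D.LK hl, Subgroup.le_normalizer hl, fun t ht =>
    mul_mem (inv_mem hl) ((Subgroup.mem_normalizer_iff.1 (D.TnormL ht) l).1 hl)⟩

theorem fixPart_le (_D : Lay p L K T ν) : fixPart L K T ≤ K := inf_le_left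

theorem norm_fixPart (D : Lay p L K T ν) : T ≤ Subgroup.normalizer (fixPart L K T : Set G) := by
  have hmem : ∀ t ∈ T, ∀ c ∈ fixPart L K T, t * c * t⁻¹ ∈ fixPart L K T := by
    intro t ht c hc
    have h : c⁻¹ * (t * c * t⁻¹) ∈ fixPart L K T := D.le_fixPart ((Subgroup.mem_inf.1 hc).2.2 t ht)
    have := mul_mem hc h
    rwa [mul_inv_cancel_left] at this
  intro t ht
  rw [Subgroup.mem_normalizer_iff]
  refine fun c => ⟨hmem t ht c, fun h => ?_⟩
  have := hmem t⁻¹ (inv_mem ht) _ h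
  rwa [show t⁻¹ * (t * c * t⁻¹) * t⁻¹⁻¹ = c by group] at this

theorem cop_sub (D : Lay p L K T ν) {H : Subgroup G} (hLH : L ≤ H) (hHK : H ≤ K) :
    ¬ p ∣ L.relIndex H := fun h =>
  D.cop (h.trans (Dvd.intro _ (Subgroup.relIndex_mul_relIndex L H K hLH hHK)))

/-- Degrees over `ν` inside the layer. -/
theorem deg_factor (D : Lay p L K T ν) {H : Subgroup G} (hLH : L ≤ H) (hHK : H ≤ K)
    {θ : G → ℂ} (hθ : Over L H ν θ) : ∃ b : ℕ, deg θ = b * deg ν ∧ ¬ p ∣ b := by
  obtain ⟨b, hb, hdvd⟩ := deg_over hLH (hHK.trans D.Knorm) D.nu (fun g hg => D.invK g (hHK hg)) hθ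
  exact ⟨b, hb, fun h => D.cop_sub hLH hHK (h.trans hdvd)⟩

theorem mult_nu_cj (D : Lay p L K T ν) {θ : G → ℂ} {t : G} (ht : t ∈ T) :
    mult L (cj t θ) ν = mult L θ ν := by
  conv_lhs => rw [← D.invT t ht]
  exact mult_cj (D.TnormL ht) θ ν

/-- Invariant sums over the characters of an intermediate subgroup. -/
theorem sum_irrs_fixed (D : Lay p L K T ν) [Fact p.Prime] {H : Subgroup G} (hLH : L ≤ H)
    (hTH : T ≤ Subgroup.normalizer (H : Set G)) (f : (G → ℂ) → ZMod p)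
    (hf : ∀ t ∈ T, ∀ θ ∈ irrs H, f (cj t θ) = f θ) :
    ∑ θ ∈ irrs H, f θ = ∑ θ ∈ (irrs H).filter (fun θ => ∀ t ∈ T, cj t θ = θ), f θ := by
  have h := sum_fixed (irrs H) T cj (fun a _ => cj_one a) (fun t _ u _ a _ => (cj_cj t u a).symm)
    (fun t ht a ha => mem_irrs.2 ((mem_irrs.1 ha).cj (hTH ht))) (fun t ht => ?_) f hf
  · convert h
  obtain ⟨j, hj⟩ := D.pT t ht
  exact ⟨j, fun a ha => cj_of_mem (mem_irrs.1 ha) (hLH hj)⟩

variable [Fact p.Prime]

theorem zmod_ne_zero {n : ℕ} (h : ¬ p ∣ n) : (n : ZMod p) ≠ 0 := fun h0 =>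
  h ((ZMod.natCast_eq_zero_iff n p).1 h0)

/-- The `T`-fixed cosets of `L` in `K` are those in `C`. -/
theorem mem_fix_of_coset (D : Lay p L K T ν) {k : G} (hk : k ∈ K) :
    k ∈ fixPart L K T ↔ ∀ t ∈ T, k⁻¹ * (t * k * t⁻¹) ∈ L :=
  ⟨fun h => (Subgroup.mem_inf.1 h).2.2, fun h => Subgroup.mem_inf.2 ⟨hk, D.Knorm hk, h⟩⟩

/-- Two distinct invariant characters over `ν` of `K` cannot both have multiplicity prime to `p`
against one character of `C`. -/
theorem orth (D : Lay p L K T ν) {θ θ' β : G → ℂ} (hθ : θ ∈ overInv L K T ν)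
    (hθ' : θ' ∈ overInv L K T ν) (hne : θ ≠ θ') (hβ : β ∈ overInv L (fixPart L K T) T ν)
    (h : ¬ p ∣ mult (fixPart L K T) θ β) : p ∣ mult (fixPart L K T) θ' β := by
  by_contra h'
  obtain ⟨M, hM⟩ := BlockReg.exists_isPModular (Fact.out : p.Prime)
  rw [mem_overInv] at hθ hθ' hβ
  set C := fixPart L K T with hCdef
  haveI : (L.subgroupOf K).Normal := Subgroup.normal_subgroupOf_of_le_normalizer D.Knorm
  set N := L.subgroupOf K with hN
  set C' := C.subgroupOf K with hC'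
  have hnorm : ∀ t ∈ T, ∀ g ∈ K, t * g * t⁻¹ ∈ K := fun t ht g hg =>
    (Subgroup.mem_normalizer_iff.1 (D.TnormK ht) g).1 hg
  set φ := Glauberman.conjHom K T hnorm with hφdef
  have happly : ∀ (t : T) (g : K), ((φ t g : K) : G) = t * g * (t : G)⁻¹ :=
    Glauberman.conjHom_apply K T hnorm
  let ν' : IrrCharacter N := ⟨fun n => ν ((n : K) : G),
    CharTwist.isIrrCharacter_comp_equiv D.nu.irr (Subgroup.subgroupOfEquivOfLe D.LK)⟩
  let χ : IrrCharacter K := ⟨fun x => θ x, hθ.1.1.irr⟩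
  let χ' : IrrCharacter K := ⟨fun x => θ' x, hθ'.1.1.irr⟩
  let b : IrrCharacter C' := ⟨fun c => β ((c : K) : G),
    CharTwist.isIrrCharacter_comp_equiv hβ.1.1.irr (Subgroup.subgroupOfEquivOfLe D.fixPart_le)⟩
  have hNC : N ≤ C' := fun x hx => D.le_fixPart hx
  have hinnN : ∀ f : G → ℂ, classInner (fun n : N => f ((n : K) : G)) (ν' : N → ℂ) = inn L f ν :=
    fun f => by
      rw [inn_eq, ← Clifford.classInner_comp_equiv (Subgroup.subgroupOfEquivOfLe D.LK)
        (fun l : L => f l) (fun l : L => ν l)]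
      rfl
  have hinv : ∀ g : K, CharTwist.conjFun N (ν' : N → ℂ) g = (ν' : N → ℂ) := fun g => funext fun n => by
    have e := congrFun (D.invK (g : G)⁻¹ (inv_mem g.2)) ((n : K) : G)
    simpa [cj, CharTwist.conjFun, ν'] using e
  have hinvfun : ∀ (f : G → ℂ) (t : G), cj t f = f → ∀ x : G, f (t * x * t⁻¹) = f x := by
    intro f t ht x
    conv_rhs => rw [← congrFun (cj_inv ht) x]
    simp [cj]
  have hover : ∀ (ξ : G → ℂ) (hξ : Over L K ν ξ),
      Glauberman.OverTop N (ν' : N → ℂ) (⟨fun x => ξ x, hξ.1.irr⟩ : IrrCharacter K) := fun ξ hξ => by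
    show classInner (fun n : N => ξ ((n : K) : G)) (ν' : N → ℂ) ≠ 0
    rw [hinnN, ← mult_cast (hξ.1.charOn_sub D.LK) D.nu.charOn]
    exact_mod_cast hξ.2
  have hb : Glauberman.Over N hNC (ν' : N → ℂ) b := by
    show classInner (fun n : N => β ((n : K) : G)) (ν' : N → ℂ) ≠ 0
    rw [hinnN, ← mult_cast (hβ.1.1.charOn_sub D.le_fixPart) D.nu.charOn]
    exact_mod_cast hβ.1.2
  have key := Glauberman.lamL_mul_memIdeal N (C := C') hNC φ hM (M := M) (p := p) (θ := ν')
    (show ¬ p ∣ N.index from D.cop) hinv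
    (fun t n hn => by
      show ((φ t n : K) : G) ∈ L
      rw [happly]
      exact (Subgroup.mem_normalizer_iff.1 (D.TnormL t.2) _).1 hn)
    (fun g => by
      show (g : G) ∈ C ↔ _
      rw [hCdef, D.mem_fix_of_coset g.2]
      constructor
      · intro hg t
        show ((g⁻¹ * φ t g : K) : G) ∈ L
        rw [Subgroup.coe_mul, Subgroup.coe_inv, happly]
        exact hg t t.2
      · intro hg t ht
        have e : ((g⁻¹ * φ ⟨t, ht⟩ g : K) : G) ∈ L := hg ⟨t, ht⟩
        rwa [Subgroup.coe_mul, Subgroup.coe_inv, happly] at e)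
    (fun t => by
      obtain ⟨j, hj⟩ := D.pT t t.2
      refine ⟨j, fun g => ?_⟩
      show ((g⁻¹ * φ (t ^ p ^ j) g : K) : G) ∈ L
      rw [Subgroup.coe_mul, Subgroup.coe_inv, happly, SubgroupClass.coe_pow]
      have e : (g : G)⁻¹ * ((t : G) ^ p ^ j * g * ((t : G) ^ p ^ j)⁻¹) =
          ((g : G)⁻¹ * (t : G) ^ p ^ j * g) * ((t : G) ^ p ^ j)⁻¹ := by group
      rw [e]
      exact mul_mem ((Subgroup.mem_normalizer_iff''.1 (D.Knorm g.2) _).1 hj) (inv_mem hj))
    hb
    (fun t c c' hc => by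
      show β ((c' : K) : G) = β ((c : K) : G)
      rw [show ((c' : K) : G) = t * ((c : K) : G) * (t : G)⁻¹ by rw [hc, happly]]
      exact hinvfun β t (hβ.2 t t.2) _)
    (hover θ hθ.1) (hover θ' hθ'.1)
    (fun t g => by show θ ((φ t g : K) : G) = θ g; rw [happly]; exact hinvfun θ t (hθ.2 t t.2) g)
    (fun t g => by show θ' ((φ t g : K) : G) = θ' g; rw [happly]; exact hinvfun θ' t (hθ'.2 t t.2) g)
    (fun e => hne (hθ.1.1.ext hθ'.1.1 fun x hx => congrFun (congrArg Subtype.val e) ⟨x, hx⟩))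
  -- the test values are units
  obtain ⟨bb, hbb, hpb⟩ := D.deg_factor D.le_fixPart D.fixPart_le hβ.1
  have hCK : ¬ p ∣ C.relIndex K := fun hd =>
    D.cop (hd.trans (Dvd.intro_left _ (Subgroup.relIndex_mul_relIndex L C K D.le_fixPart D.fixPart_le)))
  have hunit : ∀ (ξ : G → ℂ) (hξ : Over L K ν ξ), ¬ p ∣ mult C ξ β →
      MemLocalRing M (Glauberman.lamL (⟨fun x => ξ x, hξ.1.irr⟩ : IrrCharacter K) b) ∧
      ¬ MemLocalIdeal M (Glauberman.lamL (⟨fun x => ξ x, hξ.1.irr⟩ : IrrCharacter K) b) := by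
    intro ξ hξ hm
    obtain ⟨a, ha, hpa⟩ := D.deg_factor D.LK le_rfl hξ
    set ξ' : IrrCharacter K := ⟨fun x => ξ x, hξ.1.irr⟩
    have hsum : Glauberman.lamL ξ' b = ξ 1 / ((Nat.card K : ℂ) * β 1) *
        ((Nat.card C : ℂ) * inn C β ξ) := by
      rw [Glauberman.lamL, Finset.sum_congr rfl (fun g _ => mul_comm _ _),
        Char.sum_extendByZero_mul]
      have hC0 : (Nat.card C : ℂ) ≠ 0 := by exact_mod_cast Nat.card_pos.ne'
      rw [inn, ← mul_assoc (Nat.card C : ℂ), mul_inv_cancel₀ hC0, one_mul, sum_mems,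
        Finset.mul_sum, Finset.sum_div]
      refine Fintype.sum_equiv (Subgroup.subgroupOfEquivOfLe D.fixPart_le).toEquiv _ _ fun c => ?_
      rw [Glauberman.blockCoeff_singleton]
      show β ((c : K) : G) * (ξ ((1 : K) : G) * conj (ξ ((c : K) : G)) / (Nat.card K : ℂ)) /
        β (((1 : C') : K) : G) = ξ 1 / ((Nat.card K : ℂ) * β 1) *
          (β ((c : K) : G) * conj (ξ ((c : K) : G)))
      simp only [OneMemClass.coe_one]
      have := hβ.1.1.apply_one_ne
      have hK0 : (Nat.card K : ℂ) ≠ 0 := by exact_mod_cast Nat.card_pos.ne'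
      field_simp
    have hval : Glauberman.lamL ξ' b = (mult C ξ β : ℂ) * (a : ℂ) *
        ((C.relIndex K : ℂ)⁻¹ * (bb : ℂ)⁻¹) := by
      rw [hsum, mult_comm (hξ.1.charOn_sub D.fixPart_le) hβ.1.1.charOn,
        mult_cast hβ.1.1.charOn (hξ.1.charOn_sub D.fixPart_le), ← hξ.1.deg_cast, ← hβ.1.1.deg_cast,
        ha, hbb, Nat.cast_mul, Nat.cast_mul]
      have hKC : (Nat.card C : ℂ) * (C.relIndex K : ℂ) = (Nat.card K : ℂ) := by
        rw [← Nat.cast_mul, Subgroup.relIndex, ← Subgroup.card_mul_index (C.subgroupOf K)]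
        rw [Nat.card_congr (Subgroup.subgroupOfEquivOfLe D.fixPart_le).toEquiv]
      have hν0 : (deg ν : ℂ) ≠ 0 := by exact_mod_cast D.nu.deg_pos.ne'
      have hC0 : (Nat.card C : ℂ) ≠ 0 := by exact_mod_cast Nat.card_pos.ne'
      have hb0 : (bb : ℂ) ≠ 0 := by
        exact_mod_cast (fun e : bb = 0 => hpb (e ▸ dvd_zero p))
      have hi0 : (C.relIndex K : ℂ) ≠ 0 := by
        exact_mod_cast (fun e : C.relIndex K = 0 => hCK (e ▸ dvd_zero p))
      rw [← hKC]
      field_simp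
    rw [hval]
    have r1 := BlockReg.memRing_natCast hM (mult C ξ β)
    have r2 := BlockReg.memRing_natCast hM a
    have r3 := BlockReg.memRing_inv_natCast hM hCK
    have r4 := BlockReg.memRing_inv_natCast hM hpb
    refine ⟨BlockReg.memRing_mul hM (BlockReg.memRing_mul hM r1 r2) (BlockReg.memRing_mul hM r3 r4), ?_⟩
    exact BlockReg.not_memIdeal_mul hM (BlockReg.memRing_mul hM r1 r2)
      (BlockReg.memRing_mul hM r3 r4)
      (BlockReg.not_memIdeal_mul hM r1 r2 (BlockReg.not_memIdeal_natCast hM hm)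
        (BlockReg.not_memIdeal_natCast hM hpa))
      (BlockReg.not_memIdeal_mul hM r3 r4
        (BlockReg.not_memIdeal_inv hM (BlockReg.memRing_natCast hM _) (BlockReg.not_memIdeal_natCast hM hCK))
        (BlockReg.not_memIdeal_inv hM (BlockReg.memRing_natCast hM _) (BlockReg.not_memIdeal_natCast hM hpb)))
  obtain ⟨u1, v1⟩ := hunit θ hθ.1 h
  obtain ⟨u2, v2⟩ := hunit θ' hθ'.1 h'
  exact BlockReg.not_memIdeal_mul hM u1 u2 v1 v2 key

/-- Over an invariant character every constituent is that character. -/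
theorem unique_constituent (D : Lay p L K T ν) {θ ψ : G → ℂ} (hθ : Over L K ν θ)
    (hψ : IrrOn L ψ) (h : mult L θ ψ ≠ 0) : ψ = ν := by
  haveI : (L.subgroupOf K).Normal := Subgroup.normal_subgroupOf_of_le_normalizer D.Knorm
  let e := Subgroup.subgroupOfEquivOfLe D.LK
  have hne : ∀ f : G → ℂ, IrrOn L f → mult L θ f ≠ 0 →
      classInner (fun n : L.subgroupOf K => (fun x : K => θ x) (n : K))
        (fun n : L.subgroupOf K => f ((n : K) : G)) ≠ 0 := by
    intro f hf hm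
    have h1 := Clifford.classInner_comp_equiv e (fun l : L => θ l) (fun l : L => f l)
    rw [← inn_eq, ← mult_cast (hθ.1.charOn_sub D.LK) hf.charOn] at h1
    intro h0
    exact hm (Nat.cast_eq_zero.1 (h1.symm.trans h0))
  obtain ⟨g, hg⟩ := Char.exists_conjFun_eq_of_constituent (N := L.subgroupOf K) (θ := fun x : K => θ x) (hθ := hθ.1.irr)
    (fun n : L.subgroupOf K => ν ((n : K) : G)) (fun n : L.subgroupOf K => ψ ((n : K) : G))
    (CharTwist.isIrrCharacter_comp_equiv D.nu.irr e) (CharTwist.isIrrCharacter_comp_equiv hψ.irr e)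
    (hne ν D.nu hθ.2) (hne ψ hψ h)
  refine hψ.ext D.nu fun l hl => ?_
  have h1 := congrFun hg ⟨⟨l, D.LK hl⟩, hl⟩
  refine h1.trans ?_
  have h2 := congrFun (D.invK (g : G)⁻¹ (inv_mem g.2)) l
  simpa [cj, CharTwist.conjFun] using h2

theorem constituent_over (D : Lay p L K T ν) {H : Subgroup G} (hLH : L ≤ H) (hHK : H ≤ K)
    {θ β : G → ℂ} (hθ : Over L K ν θ) (hβ : IrrOn H β) (h : mult H θ β ≠ 0) : Over L H ν β := by
  obtain ⟨ψ, hψ, hm⟩ : ∃ ψ ∈ irrs L, mult L β ψ ≠ 0 := by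
    by_contra hcon
    push Not at hcon
    have e := (hβ.charOn_sub hLH).apply_one
    rw [Finset.sum_eq_zero (fun ψ hψ => by rw [hcon ψ hψ, zero_mul]), Nat.cast_zero] at e
    exact hβ.apply_one_ne e
  have hψ' := mem_irrs.1 hψ
  have h2 : mult L θ ψ ≠ 0 := by
    rw [mult_trans hLH (hθ.1.charOn_sub hHK) hψ'.charOn]
    intro h0
    exact (Nat.mul_ne_zero h hm) ((Finset.sum_eq_zero_iff.1 h0) β (mem_irrs.2 hβ))
  exact ⟨hβ, by rwa [D.unique_constituent hθ hψ' h2] at hm⟩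

/-- Some invariant character of `K` has multiplicity prime to `p` against `β`. -/
theorem exists_above (D : Lay p L K T ν) {β : G → ℂ} (hβ : β ∈ overInv L (fixPart L K T) T ν) :
    ∃ θ ∈ overInv L K T ν, ¬ p ∣ mult (fixPart L K T) θ β := by
  rw [mem_overInv] at hβ
  set C := fixPart L K T with hC
  obtain ⟨bb, hbb, hpb⟩ := D.deg_factor D.le_fixPart D.fixPart_le hβ.1
  have hCK : ¬ p ∣ C.relIndex K := fun hd =>
    D.cop (hd.trans (Dvd.intro_left _ (Subgroup.relIndex_mul_relIndex L C K D.le_fixPart D.fixPart_le)))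
  have hν0 := D.nu.deg_pos
  have hdeg : ∀ θ ∈ irrs K, mult C θ β ≠ 0 → deg θ = deg θ / deg ν * deg ν := by
    intro θ hθ hm
    have hθ' := mem_irrs.1 hθ
    obtain ⟨a, ha, -⟩ := D.deg_factor D.LK le_rfl
      ⟨hθ', over_of_constituent D.le_fixPart D.fixPart_le D.nu hθ' hβ.1 hm⟩
    rw [ha, Nat.mul_div_cancel _ hν0]
  have hcount : ∑ θ ∈ irrs K, mult C θ β * deg θ = C.relIndex K * deg β := by
    have h1 : ((∑ θ ∈ irrs K, mult C θ β * deg θ : ℕ) : ℂ) =
        (C.relIndex K : ℂ) * (deg β : ℂ) := by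
      rw [Nat.cast_sum, Finset.sum_congr rfl (fun θ hθ => show ((mult C θ β * deg θ : ℕ) : ℂ) =
        (Nat.card C : ℂ)⁻¹ * ∑ c ∈ mems C, conj (β c) * (θ 1 * θ c) by
          rw [Nat.cast_mul, mult_cast ((mem_irrs.1 hθ).charOn_sub D.fixPart_le) hβ.1.1.charOn,
            (mem_irrs.1 hθ).deg_cast, inn, mul_assoc, Finset.sum_mul]
          congr 1
          exact Finset.sum_congr rfl fun c _ => by ring)]
      rw [← Finset.mul_sum, Finset.sum_comm, Finset.sum_eq_single (1 : G)]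
      · rw [← Finset.mul_sum, sum_deg_mul (one_mem K), if_pos rfl, ← hβ.1.1.deg_cast, map_natCast]
        have hC0 : (Nat.card C : ℂ) ≠ 0 := by exact_mod_cast Nat.card_pos.ne'
        have hKC : (Nat.card C : ℂ) * (C.relIndex K : ℂ) = (Nat.card K : ℂ) := by
          rw [← Nat.cast_mul, Subgroup.relIndex, ← Subgroup.card_mul_index (C.subgroupOf K)]
          rw [Nat.card_congr (Subgroup.subgroupOfEquivOfLe D.fixPart_le).toEquiv]
        rw [← hKC]
        field_simp
      · intro c hc hc1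
        rw [← Finset.mul_sum, sum_deg_mul (D.fixPart_le (mem_mems.1 hc)), if_neg hc1, mul_zero]
      · intro h; exact absurd (mem_mems.2 (one_mem _)) h
    exact_mod_cast h1
  have hcount' : ∑ θ ∈ irrs K, mult C θ β * (deg θ / deg ν) = C.relIndex K * bb := by
    refine Nat.eq_of_mul_eq_mul_right hν0 ?_
    rw [Finset.sum_mul, mul_assoc, ← hbb, ← hcount]
    refine Finset.sum_congr rfl fun θ hθ => ?_
    by_cases hm : mult C θ β = 0
    · simp [hm]
    · rw [mul_assoc, ← hdeg θ hθ hm]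
  by_contra hcon
  push Not at hcon
  have hfix := D.sum_irrs_fixed D.LK D.TnormK
    (fun θ => ((mult C θ β * (deg θ / deg ν) : ℕ) : ZMod p)) (fun t ht θ _ => by
      congr 2
      · conv_lhs => rw [← hβ.2 t ht]
        exact mult_cj (D.norm_fixPart ht) θ β
      · rw [deg_cj])
  have hzero : ∑ θ ∈ (irrs K).filter (fun θ => ∀ t ∈ T, cj t θ = θ),
      ((mult C θ β * (deg θ / deg ν) : ℕ) : ZMod p) = 0 := by
    refine Finset.sum_eq_zero fun θ hθ => ?_
    rw [Finset.mem_filter] at hθ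
    rw [ZMod.natCast_eq_zero_iff]
    by_cases hm : mult C θ β = 0
    · simp [hm]
    · have hθ' := mem_irrs.1 hθ.1
      exact dvd_mul_of_dvd_left (hcon θ (mem_overInv.2
        ⟨⟨hθ', over_of_constituent D.le_fixPart D.fixPart_le D.nu hθ' hβ.1 hm⟩, hθ.2⟩)) _
  rw [← Nat.cast_sum, hcount', hzero, ZMod.natCast_eq_zero_iff] at hfix
  exact ((Fact.out : p.Prime).dvd_mul.1 hfix).elim hCK hpb

/-- Some invariant character of `C` has multiplicity prime to `p` in `θ`. -/
theorem exists_below (D : Lay p L K T ν) {θ : G → ℂ} (hθ : θ ∈ overInv L K T ν) :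
    ∃ β ∈ overInv L (fixPart L K T) T ν, ¬ p ∣ mult (fixPart L K T) θ β := by
  rw [mem_overInv] at hθ
  set C := fixPart L K T with hC
  obtain ⟨a, ha, hpa⟩ := D.deg_factor D.LK le_rfl hθ.1
  have hν0 := D.nu.deg_pos
  have hcount : ∑ β ∈ irrs C, mult C θ β * deg β = deg θ := by
    have h1 := (hθ.1.1.charOn_sub D.fixPart_le).apply_one
    rw [← hθ.1.1.deg_cast] at h1
    exact (Nat.cast_injective h1).symm
  have hcount' : ∑ β ∈ irrs C, mult C θ β * (deg β / deg ν) = a := by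
    refine Nat.eq_of_mul_eq_mul_right hν0 ?_
    rw [Finset.sum_mul, ← ha, ← hcount]
    refine Finset.sum_congr rfl fun β hβ => ?_
    by_cases hm : mult C θ β = 0
    · simp [hm]
    · obtain ⟨b, hb, -⟩ := D.deg_factor D.le_fixPart D.fixPart_le
        (D.constituent_over D.le_fixPart D.fixPart_le hθ.1 (mem_irrs.1 hβ) hm)
      rw [mul_assoc, hb, Nat.mul_div_cancel _ hν0]
  by_contra hcon
  push Not at hcon
  have hfix := D.sum_irrs_fixed D.le_fixPart D.norm_fixPart
    (fun β => ((mult C θ β * (deg β / deg ν) : ℕ) : ZMod p)) (fun t ht β _ => by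
      congr 2
      · conv_lhs => rw [← hθ.2 t ht]
        exact mult_cj (D.norm_fixPart ht) θ β
      · rw [deg_cj])
  have hzero : ∑ β ∈ (irrs C).filter (fun β => ∀ t ∈ T, cj t β = β),
      ((mult C θ β * (deg β / deg ν) : ℕ) : ZMod p) = 0 := by
    refine Finset.sum_eq_zero fun β hβ => ?_
    rw [Finset.mem_filter] at hβ
    rw [ZMod.natCast_eq_zero_iff]
    by_cases hm : mult C θ β = 0
    · simp [hm]
    · exact dvd_mul_of_dvd_left (hcon β (mem_overInv.2
        ⟨D.constituent_over D.le_fixPart D.fixPart_le hθ.1 (mem_irrs.1 hβ.1) hm, hβ.2⟩)) _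
  rw [← Nat.cast_sum, hcount', hzero, ZMod.natCast_eq_zero_iff] at hfix
  exact hpa hfix

/-- Mackey's formula modulo `p`. -/
theorem mackey (D : Lay p L K T ν) {β β' : G → ℂ} (hβ : β ∈ overInv L (fixPart L K T) T ν)
    (hβ' : β' ∈ overInv L (fixPart L K T) T ν) :
    ∑ θ ∈ irrs K, ((mult (fixPart L K T) θ β * mult (fixPart L K T) θ β' : ℕ) : ZMod p) =
      if β = β' then 1 else 0 := by
  rw [mem_overInv] at hβ hβ'
  set C := fixPart L K T with hC
  haveI : (L.subgroupOf K).Normal := Subgroup.normal_subgroupOf_of_le_normalizer D.Knorm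
  set S : G → ℂ := fun k => ∑ c ∈ mems C, conj (β c) * β' (k * c * k⁻¹) with hS
  have hCK := D.fixPart_le
  -- the double sum
  have hsum : (Nat.card C : ℂ) ^ 2 *
      ((∑ θ ∈ irrs K, mult C θ β * mult C θ β' : ℕ) : ℂ) = ∑ k ∈ mems K, S k := by
    rw [Nat.cast_sum, Finset.mul_sum, Finset.sum_congr rfl (fun θ hθ =>
      show (Nat.card C : ℂ) ^ 2 * ((mult C θ β * mult C θ β' : ℕ) : ℂ) =
        ∑ c ∈ mems C, ∑ d ∈ mems C, conj (β c) * β' d * (θ c * conj (θ d)) by
        have hθC := (mem_irrs.1 hθ).charOn_sub hCK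
        have hC0 : (Nat.card C : ℂ) ≠ 0 := by exact_mod_cast Nat.card_pos.ne'
        rw [Nat.cast_mul, mult_cast hθC hβ.1.1.charOn, mult_comm hθC hβ'.1.1.charOn,
          mult_cast hβ'.1.1.charOn hθC, inn, inn]
        rw [show ∀ A B : ℂ, (Nat.card C : ℂ) ^ 2 * ((Nat.card C : ℂ)⁻¹ * A *
            ((Nat.card C : ℂ)⁻¹ * B)) = A * B from fun A B => by field_simp,
          Finset.sum_mul_sum]
        exact Finset.sum_congr rfl fun c _ => Finset.sum_congr rfl fun d _ => by ring)]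
    rw [Finset.sum_comm, Finset.sum_comm (s := mems K)]
    refine Finset.sum_congr rfl fun c hc => ?_
    rw [Finset.sum_comm]
    have e1 : ∀ d ∈ mems C, ∑ θ ∈ irrs K, conj (β c) * β' d * (θ c * conj (θ d)) =
        ∑ k ∈ mems K, if k * c * k⁻¹ = d then conj (β c) * β' d else 0 := by
      intro d hd
      rw [← Finset.mul_sum, sum_col (hCK (mem_mems.1 hc)) (hCK (mem_mems.1 hd)), ← Finset.sum_filter,
        Finset.sum_const, nsmul_eq_mul]
      ring
    rw [Finset.sum_congr rfl e1, Finset.sum_comm]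
    refine Finset.sum_congr rfl fun k _ => ?_
    rw [Finset.sum_ite_eq]
    split_ifs with h
    · rfl
    · rw [hβ'.1.1.supp _ (fun h' => h (mem_mems.2 h')), mul_zero]
  -- each term is a multiple of `|L|`
  have hnat : ∀ k ∈ K, ∃ r : ℕ, S k = (r : ℂ) * (Nat.card L : ℂ) := by
    intro k hk
    set I : Subgroup G := C ⊓ C.comap (MulAut.conj k).toMonoidHom with hI
    have hmem : ∀ x, x ∈ I ↔ x ∈ C ∧ k * x * k⁻¹ ∈ C := fun x => by
      simp [hI, Subgroup.mem_inf]
    have hLI : L ≤ I := fun l hl => (hmem l).2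
      ⟨D.le_fixPart hl, D.le_fixPart ((Subgroup.mem_normalizer_iff.1 (D.Knorm hk) l).1 hl)⟩
    have hb' : CharOn I (fun x => β' (k * x * k⁻¹)) := by
      let f : I →* C :=
        { toFun := fun x => ⟨k * x * k⁻¹, ((hmem x).1 x.2).2⟩
          map_one' := Subtype.ext (by simp)
          map_mul' := fun x y => Subtype.ext (by simp [mul_assoc]) }
      exact Char.IsCharacter.comp hβ'.1.1.charOn f
    have hb : CharOn I β := hβ.1.1.charOn.mono inf_le_left
    refine ⟨mult I (fun x => β' (k * x * k⁻¹)) β * L.relIndex I, ?_⟩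
    have hI0 : (Nat.card I : ℂ) ≠ 0 := by exact_mod_cast Nat.card_pos.ne'
    have hIL : (L.relIndex I : ℂ) * (Nat.card L : ℂ) = (Nat.card I : ℂ) := by
      rw [← Nat.cast_mul, Subgroup.relIndex, ← Subgroup.index_mul_card (L.subgroupOf I)]
      rw [Nat.card_congr (Subgroup.subgroupOfEquivOfLe hLI).toEquiv]
    rw [Nat.cast_mul, mul_assoc, hIL, mult_cast hb' hb, inn, mul_comm ((Nat.card I : ℂ)⁻¹) _,
      mul_assoc, inv_mul_cancel₀ hI0, mul_one]
    refine (Finset.sum_subset (fun x hx => mem_mems.2 ((hmem x).1 (mem_mems.1 hx)).1) ?_).symm.trans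
      (Finset.sum_congr rfl fun x _ => by ring)
    intro x hx hxI
    rw [hβ'.1.1.supp _ (fun h => hxI (mem_mems.2 ((hmem x).2 ⟨mem_mems.1 hx, h⟩))), mul_zero]
  -- invariance
  have hSl : ∀ k ∈ K, ∀ l ∈ L, S (k * l) = S k := by
    intro k _ l hl
    have hlC := D.le_fixPart hl
    refine Finset.sum_nbij' (fun c => l * c * l⁻¹) (fun c => l⁻¹ * c * l) ?_ ?_ ?_ ?_ ?_
    · intro c hc; exact mem_mems.2 (mul_mem (mul_mem hlC (mem_mems.1 hc)) (inv_mem hlC))
    · intro c hc; exact mem_mems.2 (mul_mem (mul_mem (inv_mem hlC) (mem_mems.1 hc)) hlC)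
    · intro c _; group
    · intro c _; group
    · intro c _
      rw [hβ.1.1.apply_conj hlC c]
      simp [mul_assoc]
  have hSt : ∀ t ∈ T, ∀ k, S (t * k * t⁻¹) = S k := by
    intro t ht k
    have htC := D.norm_fixPart ht
    refine Finset.sum_nbij' (fun c => t⁻¹ * c * t) (fun c => t * c * t⁻¹) ?_ ?_ ?_ ?_ ?_
    · intro c hc; exact mem_mems.2 ((norm_mem_iff htC c).2 (mem_mems.1 hc))
    · intro c hc; exact mem_mems.2 ((Subgroup.mem_normalizer_iff.1 htC c).1 (mem_mems.1 hc))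
    · intro c _; group
    · intro c _; group
    · intro c _
      have e1 : β (t⁻¹ * c * t) = β c := congrFun (hβ.2 t ht) c
      have e2 : β' (k * (t⁻¹ * c * t) * k⁻¹) = β' (t * k * t⁻¹ * c * (t * k * t⁻¹)⁻¹) := by
        have := congrFun (hβ'.2 t ht) (t * k * t⁻¹ * c * (t * k * t⁻¹)⁻¹)
        rw [← this, cj_apply]
        congr 1
        group
      rw [e1, e2]
  choose! r hr using hnat
  haveI : Fintype (K ⧸ L.subgroupOf K) := Fintype.ofFinite _
  let R : K ⧸ L.subgroupOf K → ℕ := fun q => r (q.out : K)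
  have hR : ∀ k : K, (R (k : K ⧸ L.subgroupOf K) : ℕ) = r k := by
    intro k
    obtain ⟨n, hn⟩ := QuotientGroup.mk_out_eq_mul (L.subgroupOf K) k
    have h1 : S ((QuotientGroup.mk k : K ⧸ L.subgroupOf K).out : K) = S k := by
      rw [hn, Subgroup.coe_mul]
      exact hSl k k.2 _ n.2
    rw [hr _ (SetLike.coe_mem _), hr _ k.2, mul_left_inj' (by exact_mod_cast Nat.card_pos.ne')] at h1
    exact_mod_cast h1
  have htotal : ∑ k ∈ mems K, S k = (Nat.card L : ℂ) ^ 2 * ((∑ q, R q : ℕ) : ℂ) := by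
    haveI : Fintype (L.subgroupOf K) := Fintype.ofFinite _
    rw [sum_mems K S, Glauberman.sum_eq_sum_out (L.subgroupOf K), Nat.cast_sum, Finset.mul_sum]
    refine Finset.sum_congr rfl fun q _ => ?_
    rw [Finset.sum_congr rfl (g := fun _ => (R q : ℂ) * (Nat.card L : ℂ))
      (fun (n : L.subgroupOf K) _ => by rw [Subgroup.coe_mul]; exact (hSl _ q.out.2 ((n : K) : G) (Subgroup.mem_subgroupOf.1 n.2)).trans (hr _ q.out.2)),
      Finset.sum_const, nsmul_eq_mul, Finset.card_univ, ← Nat.card_eq_fintype_card,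
      Nat.card_congr (Subgroup.subgroupOfEquivOfLe D.LK).toEquiv]
    ring
  set d := L.relIndex C with hd
  have hLC : (Nat.card C : ℂ) = (d : ℂ) * (Nat.card L : ℂ) := by
    rw [hd, ← Nat.cast_mul, Subgroup.relIndex,
      ← Nat.card_congr (Subgroup.subgroupOfEquivOfLe D.le_fixPart).toEquiv, Subgroup.index_mul_card]
  have hmain : d ^ 2 * (∑ θ ∈ irrs K, mult C θ β * mult C θ β') = ∑ q, R q := by
    rw [htotal, hLC, mul_pow, mul_comm ((d : ℂ) ^ 2), mul_assoc] at hsum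
    have := mul_left_cancel₀ (pow_ne_zero 2 (by exact_mod_cast Nat.card_pos.ne')) hsum
    exact_mod_cast this
  -- the action on cosets
  let σ : G → (K ⧸ L.subgroupOf K) → (K ⧸ L.subgroupOf K) := fun t q =>
    if h : t ∈ T then
      ((⟨t * (q.out : K) * t⁻¹,
        (Subgroup.mem_normalizer_iff.1 (D.TnormK h) _).1 (SetLike.coe_mem _)⟩ : K) : K ⧸ L.subgroupOf K)
    else q
  have hσ : ∀ t ∈ T, ∀ k k' : K, (k' : G) = t * k * t⁻¹ →
      σ t (k : K ⧸ L.subgroupOf K) = (k' : K ⧸ L.subgroupOf K) := by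
    intro t ht k k' he
    simp only [σ, dif_pos ht]
    rw [QuotientGroup.eq, Subgroup.mem_subgroupOf]
    obtain ⟨n, hn⟩ := QuotientGroup.mk_out_eq_mul (L.subgroupOf K) k
    simp only [Subgroup.coe_mul, Subgroup.coe_inv, he, hn]
    have e : (t * ((k : G) * ((n : K) : G)) * t⁻¹)⁻¹ * (t * k * t⁻¹) =
        t * (((n : K) : G))⁻¹ * t⁻¹ := by group
    rw [e]
    exact (Subgroup.mem_normalizer_iff.1 (D.TnormL ht) _).1 (inv_mem n.2)
  have hfix := sum_fixed (p := p) (Finset.univ) T σ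
    (fun q _ => by
      obtain ⟨k, rfl⟩ := QuotientGroup.mk_surjective q
      exact hσ 1 (one_mem T) k k (by simp))
    (fun t ht u hu q _ => by
      obtain ⟨k, rfl⟩ := QuotientGroup.mk_surjective q
      let k1 : K := ⟨u * k * u⁻¹, (Subgroup.mem_normalizer_iff.1 (D.TnormK hu) _).1 k.2⟩
      let k2 : K := ⟨t * k1 * t⁻¹, (Subgroup.mem_normalizer_iff.1 (D.TnormK ht) _).1 k1.2⟩
      rw [hσ u hu k k1 rfl, hσ t ht k1 k2 rfl, hσ (t * u) (mul_mem ht hu) k k2 (by simp [k1, k2, mul_assoc])])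
    (fun t _ q _ => Finset.mem_univ _)
    (fun t ht => by
      obtain ⟨j, hj⟩ := D.pT t ht
      refine ⟨j, fun q _ => ?_⟩
      obtain ⟨k, rfl⟩ := QuotientGroup.mk_surjective q
      let k1 : K := ⟨t ^ p ^ j * k * (t ^ p ^ j)⁻¹,
        (Subgroup.mem_normalizer_iff.1 (D.TnormK (pow_mem ht _)) _).1 k.2⟩
      rw [hσ _ (pow_mem ht _) k k1 rfl, QuotientGroup.eq, Subgroup.mem_subgroupOf]
      have e : ((k1⁻¹ * k : K) : G) = t ^ p ^ j * ((k : G)⁻¹ * (t ^ p ^ j)⁻¹ * k) := by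
        simp [k1, mul_assoc]
      rw [e]
      exact mul_mem hj ((Subgroup.mem_normalizer_iff''.1 (D.Knorm k.2) _).1 (inv_mem hj)))
    (fun q => (R q : ZMod p))
    (fun t ht q _ => by
      obtain ⟨k, rfl⟩ := QuotientGroup.mk_surjective q
      let k1 : K := ⟨t * k * t⁻¹, (Subgroup.mem_normalizer_iff.1 (D.TnormK ht) _).1 k.2⟩
      rw [hσ t ht k k1 rfl, hR, hR]
      congr 1
      have h1 := hSt t ht (k : G)
      rw [show t * (k : G) * t⁻¹ = (k1 : G) from rfl, hr _ k1.2, hr _ k.2,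
        mul_left_inj' (by exact_mod_cast Nat.card_pos.ne')] at h1
      exact_mod_cast h1)
  have hfixed : ∀ k : K, (∀ t ∈ T, σ t (k : K ⧸ L.subgroupOf K) = k) ↔ (k : G) ∈ C := by
    intro k
    rw [hC, D.mem_fix_of_coset k.2]
    refine forall₂_congr fun t ht => ?_
    rw [hσ t ht k ⟨t * k * t⁻¹, (Subgroup.mem_normalizer_iff.1 (D.TnormK ht) _).1 k.2⟩ rfl,
      eq_comm, QuotientGroup.eq, Subgroup.mem_subgroupOf]
    simp
  have hcardfix : ((Finset.univ : Finset (K ⧸ L.subgroupOf K)).filter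
      (fun q => ∀ t ∈ T, σ t q = q)).card = d := by
    haveI : Fintype (C ⧸ L.subgroupOf C) := Fintype.ofFinite _
    rw [hd, Subgroup.relIndex, Subgroup.index, Nat.card_eq_fintype_card, ← Finset.card_univ]
    symm
    refine Finset.card_bij (fun q _ => ((Subgroup.inclusion hCK q.out : K) : K ⧸ L.subgroupOf K))
      ?_ ?_ ?_
    · intro q _
      exact Finset.mem_filter.2 ⟨Finset.mem_univ _, (hfixed _).2 q.out.2⟩
    · intro q _ q' _ e
      rw [QuotientGroup.eq, Subgroup.mem_subgroupOf] at e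
      rw [← QuotientGroup.out_eq' q, ← QuotientGroup.out_eq' q', QuotientGroup.eq,
        Subgroup.mem_subgroupOf]
      simpa using e
    · intro q hq
      rw [Finset.mem_filter] at hq
      obtain ⟨k, rfl⟩ := QuotientGroup.mk_surjective q
      refine ⟨((⟨(k : G), (hfixed k).1 hq.2⟩ : C) : C ⧸ L.subgroupOf C), Finset.mem_univ _, ?_⟩
      obtain ⟨n, hn⟩ := QuotientGroup.mk_out_eq_mul (L.subgroupOf C) ⟨(k : G), (hfixed k).1 hq.2⟩
      rw [QuotientGroup.eq, Subgroup.mem_subgroupOf]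
      simp [hn]
      exact n.2
  have hrfix : ∀ q ∈ (Finset.univ : Finset (K ⧸ L.subgroupOf K)).filter
      (fun q => ∀ t ∈ T, σ t q = q), (R q : ZMod p) = ((if β = β' then d else 0 : ℕ) : ZMod p) := by
    intro q hq
    rw [Finset.mem_filter] at hq
    obtain ⟨k, rfl⟩ := QuotientGroup.mk_surjective q
    have hk : (k : G) ∈ C := (hfixed k).1 hq.2
    rw [hR]
    congr 1
    have h1 : S k = (Nat.card C : ℂ) * inn C β' β := by
      rw [inn, ← mul_assoc, mul_inv_cancel₀ (by exact_mod_cast Nat.card_pos.ne'), one_mul]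
      exact Finset.sum_congr rfl fun c _ => by rw [hβ'.1.1.apply_conj hk]; ring
    rw [hr _ k.2, hLC] at h1
    have hL0 : (Nat.card L : ℂ) ≠ 0 := by exact_mod_cast Nat.card_pos.ne'
    split_ifs with he
    · subst he
      rw [hβ.1.1.inn_self, mul_one, mul_left_inj' hL0] at h1
      exact_mod_cast h1
    · rw [hβ'.1.1.inn_ne hβ.1.1 (Ne.symm he), mul_zero, mul_eq_zero] at h1
      simpa [hL0] using h1
  replace hfix := hfix.trans (Eq.trans (by congr 1; convert rfl) (Finset.sum_congr rfl hrfix))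
  rw [Finset.sum_const, hcardfix, ← Nat.cast_sum, ← hmain,
    Nat.cast_mul, Nat.cast_pow, nsmul_eq_mul] at hfix
  have hd0 : (d : ZMod p) ≠ 0 := zmod_ne_zero (D.cop_sub D.le_fixPart D.fixPart_le)
  rw [← Nat.cast_sum]
  refine mul_left_cancel₀ (pow_ne_zero 2 hd0) (hfix.trans ?_)
  split_ifs <;> simp [sq]

/-- At most one invariant character of `K` corresponds to `β`. -/
theorem above_unique (D : Lay p L K T ν) {θ θ' β : G → ℂ} (hθ : θ ∈ overInv L K T ν)
    (hθ' : θ' ∈ overInv L K T ν) (hβ : β ∈ overInv L (fixPart L K T) T ν)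
    (h : ¬ p ∣ mult (fixPart L K T) θ β) (h' : ¬ p ∣ mult (fixPart L K T) θ' β) : θ = θ' := by
  by_contra hne
  exact h' (D.orth hθ hθ' hne hβ h)

/-- At most one invariant character of `C` corresponds to `θ`. -/
theorem below_unique (D : Lay p L K T ν) {θ β β' : G → ℂ} (hθ : θ ∈ overInv L K T ν)
    (hβ : β ∈ overInv L (fixPart L K T) T ν) (hβ' : β' ∈ overInv L (fixPart L K T) T ν)
    (h : ¬ p ∣ mult (fixPart L K T) θ β) (h' : ¬ p ∣ mult (fixPart L K T) θ β') : β = β' := by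
  by_contra hne
  have hm := D.mackey hβ hβ'
  rw [if_neg hne, D.sum_irrs_fixed D.LK D.TnormK _ (fun t ht ξ _ => by
    congr 2
    · conv_lhs => rw [← (mem_overInv.1 hβ).2 t ht]
      exact mult_cj (D.norm_fixPart ht) ξ β
    · conv_lhs => rw [← (mem_overInv.1 hβ').2 t ht]
      exact mult_cj (D.norm_fixPart ht) ξ β'), Finset.sum_eq_single θ] at hm
  · rw [ZMod.natCast_eq_zero_iff] at hm
    exact ((Fact.out : p.Prime).dvd_mul.1 hm).elim h h'
  · intro ξ hξ hξθ
    rw [Finset.mem_filter] at hξ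
    rw [ZMod.natCast_eq_zero_iff]
    by_cases hm0 : mult (fixPart L K T) ξ β = 0
    · simp [hm0]
    · exact dvd_mul_of_dvd_left (D.orth hθ (mem_overInv.2 ⟨⟨mem_irrs.1 hξ.1, over_of_constituent
        D.le_fixPart D.fixPart_le D.nu (mem_irrs.1 hξ.1) (mem_overInv.1 hβ).1 hm0⟩, hξ.2⟩)
        (Ne.symm hξθ) hβ h) _
  · intro hn
    exact absurd (Finset.mem_filter.2
      ⟨mem_irrs.2 (mem_overInv.1 hθ).1.1, (mem_overInv.1 hθ).2⟩) hn

/-- The correspondent of an invariant character. -/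
noncomputable def down (D : Lay p L K T ν) {θ : G → ℂ} (hθ : θ ∈ overInv L K T ν) : G → ℂ :=
  (D.exists_below hθ).choose

theorem down_mem (D : Lay p L K T ν) {θ : G → ℂ} (hθ : θ ∈ overInv L K T ν) :
    D.down hθ ∈ overInv L (fixPart L K T) T ν :=
  (D.exists_below hθ).choose_spec.1

theorem down_spec (D : Lay p L K T ν) {θ : G → ℂ} (hθ : θ ∈ overInv L K T ν) :
    ¬ p ∣ mult (fixPart L K T) θ (D.down hθ) :=
  (D.exists_below hθ).choose_spec.2

end Lay

end CfsgLib.RelMcKay
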