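import Cfsg.Agent.Lib.RelMcKay.Step
import Cfsg.Prelude.Def_Local

/-!
# The relative count of characters of degree prime to `p` in `p`-solvable groups
-/

set_option autoImplicit false
set_option linter.unusedSectionVars false
set_option linter.style.haveILetI false

namespace CfsgLib.RelMcKay

open Cfsg
open scoped ComplexConjugate

attribute [local instance] Classical.propDecidable

universe u

variable {G : Type u} [Group G] [Fintype G] {p : ℕ} [Fact p.Prime]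

/-- The invariant characters of `K` of degree prime to `p` over `ν`. -/
noncomputable def inv' (p : ℕ) (K L P : Subgroup G) (ν : G → ℂ) : Finset (G → ℂ) :=
  (irrs K).filter fun θ => ¬ p ∣ deg θ ∧ mult L θ ν ≠ 0 ∧ ∀ t ∈ P, cj t θ = θ

theorem mem_inv' {K L P : Subgroup G} {ν θ : G → ℂ} :
    θ ∈ inv' p K L P ν ↔ IrrOn K θ ∧ ¬ p ∣ deg θ ∧ mult L θ ν ≠ 0 ∧ ∀ t ∈ P, cj t θ = θ := by
  rw [inv', Finset.mem_filter, mem_irrs]

/-- Sorting characters by their invariant constituents on `K`. -/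
theorem fibre {X Y L K P S : Subgroup G} {ν : G → ℂ} (hLK : L ≤ K) (hKY : K ≤ Y) (hYX : Y ≤ X)
    (hXL : X ≤ Subgroup.normalizer (L : Set G)) (hXK : X ≤ Subgroup.normalizer (K : Set G))
    (hS : IsPGroup p S) (hSY : S ≤ Y) (hSp : ¬ p ∣ S.relIndex X) (hP : P = L ⊔ S)
    (hν : IrrOn L ν) (hinv : ∀ g ∈ X, cj g ν = ν)
    (hNY : X ⊓ Subgroup.normalizer (P : Set G) ≤ Y) :
    ((cset p Y L ν).card : ℚ) = ∑ θ ∈ inv' p K L P ν,
      ((cset p Y K θ).card : ℚ) /
        ((orb (X ⊓ Subgroup.normalizer (P : Set G)) θ).card : ℚ) := by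
  set N := X ⊓ Subgroup.normalizer (P : Set G) with hN
  have hLY : L ≤ Y := hLK.trans hKY
  have hPY : P ≤ Y := hP ▸ sup_le hLY hSY
  have hSP : S ≤ P := hP ▸ le_sup_right
  have hYL : Y ≤ Subgroup.normalizer (L : Set G) := hYX.trans hXL
  have hYK : Y ≤ Subgroup.normalizer (K : Set G) := hYX.trans hXK
  have hpT : ∀ t ∈ P, ∃ j : ℕ, t ^ p ^ j ∈ L :=
    hP ▸ pow_mem_of_sup hS (hSY.trans hYL)
  set Θ := inv' p K L P ν with hΘ
  have hup : ∀ θ ∈ Θ, ∀ χ ∈ cset p Y K θ, χ ∈ cset p Y L ν := by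
    intro θ hθ χ hχ
    obtain ⟨h1, h2, h3⟩ := mem_cset.1 hχ
    obtain ⟨a, -, c, -⟩ := mem_inv'.1 hθ
    exact mem_cset.2 ⟨h1, h2, over_of_constituent hLK hKY hν h1 ⟨a, c⟩ h3⟩
  have hex : ∀ χ ∈ cset p Y L ν, ∃ θ ∈ Θ, mult K χ θ ≠ 0 := by
    intro χ hχ
    obtain ⟨h1, h2, h3⟩ := mem_cset.1 hχ
    have e := (h1.charOn_sub hKY).apply_one
    rw [← h1.deg_cast, Nat.cast_inj] at e
    have hsum := sum_fixed (p := p) (irrs K) P cj (fun a _ => cj_one a)
      (fun t _ u _ a _ => (cj_cj t u a).symm)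
      (fun t ht a ha => mem_irrs.2 ((mem_irrs.1 ha).cj (hYK (hPY ht))))
      (fun t ht => (hpT t ht).imp fun j hj a ha => cj_of_mem (mem_irrs.1 ha) (hLK hj))
      (fun ψ => ((mult K χ ψ * deg ψ : ℕ) : ZMod p)) (fun t ht ψ _ => by
        rw [deg_cj]
        congr 2
        conv_lhs => rw [← cj_of_mem h1 (hPY ht)]
        exact mult_cj (hYK (hPY ht)) χ ψ)
    rw [← Nat.cast_sum, ← e] at hsum
    by_contra hcon
    push Not at hcon
    refine h2 ((ZMod.natCast_eq_zero_iff _ p).1 (hsum.trans (Finset.sum_eq_zero fun θ hθ => ?_)))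
    simp only [Finset.mem_filter, mem_irrs] at hθ
    rw [ZMod.natCast_eq_zero_iff]
    by_contra hd
    have hm : mult K χ θ ≠ 0 := fun h0 => hd (by rw [h0, zero_mul]; exact dvd_zero p)
    obtain ⟨ψ, hψ, hψm⟩ : ∃ ψ ∈ irrs L, mult L θ ψ ≠ 0 := by
      by_contra hc
      push Not at hc
      have e' := (hθ.1.charOn_sub hLK).apply_one
      rw [Finset.sum_eq_zero fun ψ hψ => by rw [hc ψ hψ, zero_mul], Nat.cast_zero] at e'
      exact hθ.1.apply_one_ne e'
    have hψ' := mem_irrs.1 hψ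
    have hχψ : mult L χ ψ ≠ 0 := over_of_constituent hLK hKY hψ' h1 ⟨hθ.1, hψm⟩ hm
    obtain ⟨g, hg, hgψ⟩ := exists_cj_eq hLY hYL h1 hν hψ' h3 hχψ
    rw [hinv g (hYX hg)] at hgψ
    subst hgψ
    exact hm (hcon θ (mem_inv'.2 ⟨hθ.1, fun h => hd (h.mul_left _), hψm, hθ.2⟩))
  have horb : ∀ χ ∈ cset p Y L ν, ∀ θ ∈ Θ, mult K χ θ ≠ 0 →
      Θ.filter (fun ψ => mult K χ ψ ≠ 0) = orb N θ := by
    intro χ hχ θ hθ hm
    have h1 := (mem_cset.1 hχ).1
    obtain ⟨hθi, hθd, hθν, hθf⟩ := mem_inv'.1 hθ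
    ext ψ
    rw [Finset.mem_filter, mem_orb]
    constructor
    · rintro ⟨hψ, hψm⟩
      obtain ⟨hψi, -, -, hψf⟩ := mem_inv'.1 hψ
      obtain ⟨g, hg, hgθ⟩ := exists_cj_eq hKY hYK h1 hθi hψi hm hψm
      have hSI : S ≤ iner Y ψ := fun s hs => ⟨hSY hs, hψf s (hSP hs)⟩
      have hSIp : ¬ p ∣ S.relIndex (iner Y ψ) := fun h => hSp (h.trans (Dvd.intro _
        (Subgroup.relIndex_mul_relIndex S (iner Y ψ) X hSI ((iner_le Y ψ).trans hYX))))
      have hgI : ∀ s ∈ S, g * s * g⁻¹ ∈ iner Y ψ := fun s hs => by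
        refine ⟨mul_mem (mul_mem hg (hSY hs)) (inv_mem hg), ?_⟩
        rw [← cj_cj, ← cj_cj, show cj g⁻¹ ψ = θ by rw [← hgθ, cj_cj, inv_mul_cancel, cj_one],
          hθf s (hSP hs), hgθ]
      obtain ⟨h, hh, hn⟩ := exists_norm_sylow hS hSI hSIp hgI
      refine ⟨h * g, Subgroup.mem_inf.2 ⟨hYX (mul_mem hh.1 hg), ?_⟩, by rw [← cj_cj, hgθ, hh.2]⟩
      rw [hP]
      exact norm_sup (hYL (mul_mem hh.1 hg)) hn
    · rintro ⟨g, hg, rfl⟩
      have hgP := (Subgroup.mem_inf.1 hg).2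
      have hgY := hNY hg
      refine ⟨mem_inv'.2 ⟨hθi.cj (hYK hgY), by rwa [deg_cj], ?_, fun t ht => ?_⟩, ?_⟩
      · conv => arg 1; arg 3; rw [← hinv g (hYX hgY)]
        rwa [mult_cj (hYL hgY)]
      · have e : t * g = g * (g⁻¹ * t * g) := by group
        rw [cj_cj, e, ← cj_cj, hθf _ ((norm_mem_iff hgP t).2 ht)]
      · conv => arg 1; arg 2; rw [← cj_of_mem h1 hgY]
        rwa [mult_cj (hYK hgY)]
  have hswap : ∑ θ ∈ Θ, ((cset p Y K θ).card : ℚ) / ((orb N θ).card : ℚ) =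
      ∑ χ ∈ cset p Y L ν, ∑ θ ∈ Θ.filter (fun ψ => mult K χ ψ ≠ 0),
        (1 : ℚ) / ((orb N θ).card : ℚ) := by
    simp only [Finset.sum_filter]
    rw [Finset.sum_comm]
    refine Finset.sum_congr rfl fun θ hθ => ?_
    rw [← Finset.sum_filter, Finset.sum_const, nsmul_eq_mul, mul_one_div]
    congr 2
    have : cset p Y K θ = (cset p Y L ν).filter (fun χ => mult K χ θ ≠ 0) := by
      ext χ
      rw [Finset.mem_filter]
      exact ⟨fun h => ⟨hup θ hθ χ h, (mem_cset.1 h).2.2⟩,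
        fun h => mem_cset.2 ⟨(mem_cset.1 h.1).1, (mem_cset.1 h.1).2.1, h.2⟩⟩
    rw [this]
  rw [hswap, Finset.card_eq_sum_ones, Nat.cast_sum, Nat.cast_one]
  refine Finset.sum_congr rfl fun χ hχ => ?_
  obtain ⟨θ, hθ, hm⟩ := hex χ hχ
  rw [horb χ hχ θ hθ hm]
  have hsame : ∀ ψ ∈ orb N θ, orb N ψ = orb N θ := by
    intro ψ hψ
    obtain ⟨g, hg, rfl⟩ := mem_orb.1 hψ
    ext φ
    simp only [mem_orb]
    constructor
    · rintro ⟨k, hk, rfl⟩
      exact ⟨k * g, mul_mem hk hg, (cj_cj k g θ).symm⟩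
    · rintro ⟨k, hk, rfl⟩
      exact ⟨k * g⁻¹, mul_mem hk (inv_mem hg), by rw [cj_cj, inv_mul_cancel_right]⟩
  rw [Finset.sum_congr rfl fun ψ hψ => by rw [hsame ψ hψ], Finset.sum_const, nsmul_eq_mul,
    mul_one_div, div_self]
  have : θ ∈ orb N θ := mem_orb.2 ⟨1, one_mem N, cj_one θ⟩
  exact_mod_cast (Finset.card_pos.2 ⟨θ, this⟩).ne'

/-- A `p`-chief step above `L` inside `X`. -/
theorem exists_step (hG : Cfsg.IsPSolvable p G) {X L : Subgroup G} (hLX : L ≤ X)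
    (hXL : X ≤ Subgroup.normalizer (L : Set G)) (hne : ¬ X ≤ L) :
    ∃ K : Subgroup G, L ≤ K ∧ K ≤ X ∧ X ≤ Subgroup.normalizer (K : Set G) ∧
      1 < L.relIndex K ∧ ((∃ m, L.relIndex K = p ^ m) ∨ ¬ p ∣ L.relIndex K) := by
  obtain ⟨n, H, h0, hlast, hmono, hnorm, hfac⟩ := hG
  obtain ⟨i, hi1, hi2⟩ : ∃ i : Fin n, H i.castSucc ⊓ X ≤ L ∧ ¬ H i.succ ⊓ X ≤ L := by
    by_contra hcon
    push Not at hcon
    have hall : ∀ i : Fin (n + 1), H i ⊓ X ≤ L := by
      intro i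
      induction i using Fin.induction with
      | zero => rw [h0, bot_inf_eq]; exact bot_le
      | succ i ih => exact hcon i ih
    have := hall (Fin.last n)
    rw [hlast, top_inf_eq] at this
    exact hne this
  haveI := hnorm i.succ
  haveI := hnorm i.castSucc
  set A := H i.succ ⊓ X with hA
  have hAL : A ≤ Subgroup.normalizer (L : Set G) := inf_le_right.trans hXL
  have hle : H i.castSucc ≤ H i.succ := hmono i.castSucc_le_succ
  refine ⟨A ⊔ L, le_sup_right, sup_le inf_le_right hLX,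
    fun g hg => norm_sup (norm_inf (by simp [Subgroup.normalizer_eq_top])
      (Subgroup.le_normalizer hg)) (hXL hg), ?_, ?_⟩
  · refine lt_of_le_of_ne relIndex_pos fun h => hi2 ?_
    exact le_sup_left.trans (Subgroup.relIndex_eq_one.1 h.symm)
  · have hd : L.relIndex (A ⊔ L) ∣ (H i.castSucc).relIndex (H i.succ) := by
      rw [relIndex_sup hAL]
      refine (Subgroup.relIndex_dvd_of_le_left A
        (show H i.castSucc ⊓ A ≤ A ⊓ L from fun g hg => ?_)).trans ?_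
      · obtain ⟨h1, h2⟩ := Subgroup.mem_inf.1 hg
        exact Subgroup.mem_inf.2 ⟨h2, hi1 (Subgroup.mem_inf.2 ⟨h1, (Subgroup.mem_inf.1 h2).2⟩)⟩
      · rw [Subgroup.inf_relIndex_right, ← Subgroup.relIndex_subgroupOf (inf_le_left : A ≤ H i.succ)]
        exact Subgroup.relIndex_dvd_index_of_normal ((H i.castSucc).subgroupOf (H i.succ)) _
    rcases hfac i with ⟨m, hm⟩ | hc
    · obtain ⟨j, -, hj⟩ := (Nat.dvd_prime_pow (Fact.out : p.Prime)).1 (hm ▸ hd)
      exact Or.inl ⟨j, hj⟩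
    · exact Or.inr fun h =>
        ((Fact.out : p.Prime).coprime_iff_not_dvd.1 hc.symm) (h.trans hd)

/-- The count. -/
theorem main (hG : Cfsg.IsPSolvable p G) : ∀ (n : ℕ) (X L S P : Subgroup G) (ν : G → ℂ),
    L.relIndex X = n → L ≤ X → X ≤ Subgroup.normalizer (L : Set G) → IsPGroup p S → S ≤ X →
    ¬ p ∣ S.relIndex X → P = L ⊔ S → IrrOn L ν → (∀ t ∈ P, cj t ν = ν) →
    (cset p X L ν).card = (cset p (X ⊓ Subgroup.normalizer (P : Set G)) L ν).card := by
  intro n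
  induction n using Nat.strong_induction_on with
  | _ n ih =>
  intro X L S P ν hn hLX hXL hS hSX hSp hP hν hPν
  set N := X ⊓ Subgroup.normalizer (P : Set G) with hN
  have hPX : P ≤ X := hP ▸ sup_le hLX hSX
  have hLP : L ≤ P := hP ▸ le_sup_left
  have hSP : S ≤ P := hP ▸ le_sup_right
  have hPN : P ≤ N := le_inf hPX Subgroup.le_normalizer
  have hNX : N ≤ X := inf_le_left
  have hLN : L ≤ N := hLP.trans hPN
  by_cases hd : p ∣ deg ν
  · rw [cset_eq_empty hLX hXL hν hd, cset_eq_empty hLN (hNX.trans hXL) hν hd]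
  set I := iner X ν with hI
  have hIX : I ≤ X := iner_le X ν
  have hSI : S ≤ I := fun s hs => ⟨hSX hs, hPν s (hSP hs)⟩
  have hIp : ¬ p ∣ I.relIndex X := fun h =>
    hSp (h.trans (Dvd.intro_left _ (Subgroup.relIndex_mul_relIndex S I X hSI hIX)))
  by_cases hXI : X ≤ I
  swap
  · have hlt : L.relIndex I < n := by
      rw [← hn, ← Subgroup.relIndex_mul_relIndex L I X (le_iner hLX hν) hIX]
      refine lt_mul_of_one_lt_right relIndex_pos (lt_of_le_of_ne relIndex_pos fun h => hXI ?_)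
      exact Subgroup.relIndex_eq_one.1 h.symm
    have hSIp : ¬ p ∣ S.relIndex I := fun h =>
      hSp (h.trans (Dvd.intro _ (Subgroup.relIndex_mul_relIndex S I X hSI hIX)))
    have h1 := ih _ hlt I L S P ν rfl (le_iner hLX hν) (hIX.trans hXL) hS hSI hSIp hP hν hPν
    have hIN : iner N ν = I ⊓ Subgroup.normalizer (P : Set G) := by
      ext g
      simp only [mem_iner, hI, hN, Subgroup.mem_inf]
      tauto
    have hSN : S ≤ iner N ν := fun s hs => ⟨hPN (hSP hs), hPν s (hSP hs)⟩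
    have hNp : ¬ p ∣ (iner N ν).relIndex N := fun h => hSp (h.trans ((Dvd.intro_left _
      (Subgroup.relIndex_mul_relIndex S (iner N ν) N hSN (iner_le N ν))).trans (Dvd.intro _
      (Subgroup.relIndex_mul_relIndex S N X (hSP.trans hPN) hNX))))
    rw [card_cset_iner hLX hXL hν hIp, card_cset_iner hLN (hNX.trans hXL) hν hNp, h1, hIN]
  have hinv : ∀ g ∈ X, cj g ν = ν := fun g hg => (hXI hg).2
  by_cases hXP : X ≤ Subgroup.normalizer (P : Set G)
  · rw [show N = X from inf_eq_left.2 hXP]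
  obtain ⟨K, hLK, hKX, hXK, hK1, hKtype⟩ := exists_step hG hLX hXL fun h =>
    hXP fun g hg => Subgroup.le_normalizer (hLP (h hg))
  set P' := K ⊔ S with hP'
  set X' := X ⊓ Subgroup.normalizer (P' : Set G) with hX'
  have hPP' : P ≤ P' := hP ▸ sup_le_sup_right hLK S
  have hP'eq : P' = P ⊔ K := le_antisymm (sup_le le_sup_right (hSP.trans le_sup_left))
    (sup_le hPP' le_sup_left)
  have hNX' : N ≤ X' := fun g hg => Subgroup.mem_inf.2 ⟨hNX hg, by
    rw [hP'eq]; exact norm_sup (Subgroup.mem_inf.1 hg).2 (hXK (hNX hg))⟩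
  have hKX' : K ≤ X' := le_inf hKX (le_sup_left.trans Subgroup.le_normalizer)
  have hSX' : S ≤ X' := hSP.trans (hPN.trans hNX')
  have hlt : K.relIndex X < n := by
    rw [← hn, ← Subgroup.relIndex_mul_relIndex L K X hLK hKX]
    exact lt_mul_of_one_lt_left relIndex_pos hK1
  have hfib : (cset p X L ν).card = (cset p X' L ν).card := by
    have e1 := fibre hLK hKX le_rfl hXL hXK hS hSX hSp hP hν hinv hNX
    have e2 := fibre hLK hKX' (inf_le_left : X' ≤ X) hXL hXK hS hSX' hSp hP hν hinv hNX'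
    apply Nat.cast_injective (R := ℚ)
    rw [e1, e2]
    refine Finset.sum_congr rfl fun θ hθ => ?_
    obtain ⟨hθi, -, -, hθf⟩ := mem_inv'.1 hθ
    congr 2
    refine ih _ hlt X K S P' θ rfl hKX hXK hS hSX hSp rfl hθi fun t ht => ?_
    exact ((sup_le (fun a ha => ⟨trivial, cj_of_mem hθi ha⟩)
      fun a ha => ⟨trivial, hθf a (hSP ha)⟩ : P' ≤ iner ⊤ θ) ht).2
  by_cases hXX' : X ≤ X'
  swap
  · have hlt' : L.relIndex X' < n := by
      rw [← hn, ← Subgroup.relIndex_mul_relIndex L X' X (hLK.trans hKX') inf_le_left]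
      refine lt_mul_of_one_lt_right relIndex_pos (lt_of_le_of_ne relIndex_pos fun h => hXX' ?_)
      exact Subgroup.relIndex_eq_one.1 h.symm
    have hSp' : ¬ p ∣ S.relIndex X' := fun h =>
      hSp (h.trans (Dvd.intro _ (Subgroup.relIndex_mul_relIndex S X' X hSX' inf_le_left)))
    rw [hfib, ih _ hlt' X' L S P ν rfl (hLK.trans hKX') (inf_le_left.trans hXL) hS hSX' hSp' hP hν
      hPν]
    congr 2
    refine le_antisymm (fun g hg => Subgroup.mem_inf.2
      ⟨(Subgroup.mem_inf.1 (Subgroup.mem_inf.1 hg).1).1, (Subgroup.mem_inf.1 hg).2⟩)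
      (le_inf hNX' inf_le_right)
  have hXJ : X ≤ Subgroup.normalizer ((P ⊔ K : Subgroup G) : Set G) := fun g hg =>
    hP'eq ▸ (Subgroup.mem_inf.1 (hXX' hg)).2
  rcases hKtype with ⟨m, hm⟩ | hcop
  · exfalso
    have hPK : P ≤ Subgroup.normalizer (K : Set G) := hPX.trans hXK
    have h1 : P.relIndex (P ⊔ K) ∣ p ^ m := by
      rw [relIndex_sup' hPK, ← hm]
      exact Subgroup.relIndex_dvd_of_le_left K (le_inf hLP hLK)
    have h2 : ¬ p ∣ P.relIndex (P ⊔ K) := fun h => hSp ((h.trans (Dvd.intro _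
      (Subgroup.relIndex_mul_relIndex P (P ⊔ K) X le_sup_left (sup_le hPX hKX)))).trans
      (Subgroup.relIndex_dvd_of_le_left X hSP))
    obtain ⟨j, -, hj⟩ := (Nat.dvd_prime_pow (Fact.out : p.Prime)).1 h1
    rcases j with _ | j
    · rw [pow_zero, Subgroup.relIndex_eq_one] at hj
      exact hXP (fun g hg => (le_antisymm hj le_sup_left : P ⊔ K = P) ▸ hXJ hg)
    · exact h2 (hj ▸ dvd_pow_self p j.succ_ne_zero)
  exact step hLK hKX hXL hXK hXJ hS hSX hSp hP hcop hν hinv hd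

end CfsgLib.RelMcKay
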