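import Cfsg.Agent.Lib.RelMcKay.Iterate
import Cfsg.Agent.Lib.RelMcKay.Exts
import Cfsg.Agent.Lib.RelMcKay.Groups

/-!
# The count for a layer of order prime to `p`
-/

set_option autoImplicit false
set_option linter.unusedSectionVars false
set_option linter.style.haveILetI false
set_option maxHeartbeats 800000

namespace CfsgLib.RelMcKay

open Cfsg
open scoped ComplexConjugate

attribute [local instance] Classical.propDecidable

universe u

variable {G : Type u} [Group G] [Fintype G] {p : ℕ} [Fact p.Prime]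

/-- The commutator sum of an extension is that of its restriction. -/
theorem W_ext {J K : Subgroup G} (hKJ : K ≤ J) {θ μ : G → ℂ} (hθ : IrrOn K θ) (hμ : IrrOn J μ)
    (hres : ∀ k ∈ K, μ k = θ k) {x y : G} (hxJ : x ∈ Subgroup.normalizer (J : Set G))
    (hxK : x ∈ Subgroup.normalizer (K : Set G)) (hyJ : y ∈ Subgroup.normalizer (J : Set G))
    (hyK : y ∈ Subgroup.normalizer (K : Set G)) (hx : cj x μ = μ) (hy : cj y μ = μ)
    (hxy : x * y * x⁻¹ * y⁻¹ ∈ K) : W J μ x y = W K θ x y := by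
  obtain ⟨μh, hμh, hr⟩ := exists_ext hyJ hμ hy
  set Jy := Subgroup.zpowers y ⊔ J with hJy
  have hJle : J ≤ Jy := le_sup_right
  have hyJy : y ∈ Jy := Subgroup.mem_sup_left (Subgroup.mem_zpowers y)
  have hxn : x ∈ Subgroup.normalizer (Jy : Set G) := by
    refine Subgroup.mem_normalizer_fintype fun n hn => ?_
    obtain ⟨i, j, hj, rfl⟩ := (mem_sup_zpowers hyJ).1 hn
    rw [show x * (y ^ i * j) * x⁻¹ = (x * y * x⁻¹) ^ i * (x * j * x⁻¹) by rw [conj_zpow]; group]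
    refine mul_mem (zpow_mem ?_ i) (hJle ((Subgroup.mem_normalizer_iff.1 hxJ j).1 hj))
    rw [show x * y * x⁻¹ = x * y * x⁻¹ * y⁻¹ * y by group]
    exact mul_mem (hJle (hKJ hxy)) hyJy
  have h1 : inn J μh μh = 1 := by rw [inn_congr hr hr]; exact hμ.inn_self
  have hη : IrrOn Jy (cj x⁻¹ μh) := hμh.cj (inv_mem hxn)
  have hηr : ∀ j ∈ J, cj x⁻¹ μh j = μ j := fun j hj => by
    have hj' := (norm_mem_iff (inv_mem hxJ) j).2 hj
    rw [cj_apply, hr _ hj']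
    exact congrFun (cj_inv hx) j
  have hm : mult J (cj x⁻¹ μh) μh = 1 := by
    have e : inn J (cj x⁻¹ μh) μh = 1 := by rw [inn_congr hηr hr]; exact hμ.inn_self
    simp [mult, e]
  obtain ⟨lam, hlam, he⟩ := exists_twist hJle (sup_zpowers_le_normalizer hyJ) hμh h1 hη
    (by rw [hm]; exact one_ne_zero) (Or.inl hm)
  have hw : ∀ m ∈ J, μh (x * (y * m) * x⁻¹) = lam y * μh (y * m) := fun m hm' => by
    have e := congrFun he (y * m)
    rw [cj_apply, inv_inv, hlam.mul y hyJy m (hJle hm'), hlam.triv m hm', mul_one] at e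
    rw [e, mul_comm]
  rw [W_eq hJle hμ hμh hr hxJ hxn hyJy hyJ (hKJ hxy) hw,
    W_eq (hKJ.trans hJle) hθ hμh (fun k hk => (hr k (hKJ hk)).trans (hres k hk)) hxK hxn hyJy hyK hxy
      fun m hm' => hw m (hKJ hm')]

/-- The sum over the characters of `J` in terms of the invariant characters of `K`. -/
theorem sum_W {L K J : Subgroup G} (hLK : L ≤ K) (hKJ : K ≤ J)
    (hn : J ≤ Subgroup.normalizer (K : Set G)) (hJK : ∃ n, K.relIndex J = p ^ n) {ν : G → ℂ}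
    (Θ : Finset (G → ℂ)) (hΘ : ∀ θ, θ ∈ Θ ↔
      IrrOn K θ ∧ ¬ p ∣ deg θ ∧ mult L θ ν ≠ 0 ∧ ∀ g ∈ J, cj g θ = θ)
    {x y : G} (hxJ : x ∈ Subgroup.normalizer (J : Set G)) (hxK : x ∈ Subgroup.normalizer (K : Set G))
    (hyJ : y ∈ Subgroup.normalizer (J : Set G)) (hyK : y ∈ Subgroup.normalizer (K : Set G))
    (hxy : x * y * x⁻¹ * y⁻¹ ∈ K) :
    ∑ μ ∈ cset p J L ν, W J μ x y =
      ∑ θ ∈ Θ.filter (fun θ => cj x θ = θ ∧ cj y θ = θ),
        (((irrs J).filter fun η => (∀ k ∈ K, η k = θ k) ∧ cj x η = η ∧ cj y η = η).card : ℂ) *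
          W K θ x y := by
  set U' := (cset p J L ν).filter (fun μ => cj x μ = μ ∧ cj y μ = μ) with hU'
  have hz : ∀ μ ∈ cset p J L ν, μ ∉ U' → W J μ x y = 0 := by
    intro μ hμ hn'
    have hμ' := (mem_cset.1 hμ).1
    by_cases hy' : cj y μ = μ
    · have hx' : cj x μ ≠ μ := fun h => hn' (Finset.mem_filter.2 ⟨hμ, h, hy'⟩)
      rw [W_swap hμ' y x, W_eq_zero hμ' hyJ hxJ ?_ hx', map_zero]
      rw [show y * x * y⁻¹ * x⁻¹ = (x * y * x⁻¹ * y⁻¹)⁻¹ by group]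
      exact inv_mem (hKJ hxy)
    · exact W_eq_zero hμ' hxJ hyJ (hKJ hxy) hy'
  rw [← Finset.sum_subset (Finset.filter_subset _ _) hz]
  have hmaps : ∀ μ ∈ U', res K μ ∈ Θ.filter (fun θ => cj x θ = θ ∧ cj y θ = θ) := by
    intro μ hμ
    obtain ⟨hμ0, hx, hy⟩ := Finset.mem_filter.1 hμ
    obtain ⟨hμ', hd, hν⟩ := mem_cset.1 hμ0
    have hi := irrOn_res_of_deg hKJ hn hJK hμ' hd
    have hfix : ∀ g, g ∈ Subgroup.normalizer (K : Set G) → cj g μ = μ →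
        cj g (res K μ) = res K μ := fun g hg h => (hi.cj hg).ext hi fun k hk => by
      rw [cj_apply, res_apply ((norm_mem_iff hg k).2 hk), res_apply hk]
      exact congrFun h k
    refine Finset.mem_filter.2 ⟨(hΘ _).2 ⟨hi, ?_, ?_,
      fun g hg => hfix g (hn hg) (cj_of_mem hμ' hg)⟩, hfix x hxK hx, hfix y hyK hy⟩
    · rwa [deg, Cfsg.charDegree, res_apply (one_mem K), ← Cfsg.charDegree]
    · rwa [mult, inn_congr (f' := μ) (g' := ν) (fun l hl => res_apply (hLK hl)) fun _ _ => rfl,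
        ← mult]
  rw [← Finset.sum_fiberwise_of_maps_to hmaps]
  refine Finset.sum_congr rfl fun θ hθ => ?_
  obtain ⟨hθ0, hxθ, hyθ⟩ := Finset.mem_filter.1 hθ
  obtain ⟨hθi, hθd, hθν, -⟩ := (hΘ θ).1 hθ0
  have hset : U'.filter (fun μ => res K μ = θ) =
      (irrs J).filter (fun η => (∀ k ∈ K, η k = θ k) ∧ cj x η = η ∧ cj y η = η) := by
    ext μ
    simp only [hU', Finset.mem_filter, mem_irrs, mem_cset]
    constructor
    · rintro ⟨⟨⟨hμ, -, -⟩, hx, hy⟩, he⟩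
      exact ⟨hμ, fun k hk => by rw [← he, res_apply hk], hx, hy⟩
    · rintro ⟨hμ, he, hx, hy⟩
      refine ⟨⟨⟨hμ, ?_, ?_⟩, hx, hy⟩, funext fun k => ?_⟩
      · rw [deg, Cfsg.charDegree, he 1 (one_mem K)]
        exact hθd
      · rwa [mult, inn_congr (f' := θ) (g' := ν) (fun l hl => he l (hLK hl)) fun _ _ => rfl, ← mult]
      · by_cases hk : k ∈ K
        · rw [res_apply hk, he k hk]
        · rw [res, if_neg hk, hθi.supp k hk]
  rw [hset, Finset.sum_congr rfl fun μ hμ => by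
    obtain ⟨hμ', he, hx, hy⟩ := Finset.mem_filter.1 hμ
    exact W_ext hKJ hθi (mem_irrs.1 hμ') he hxJ hxK hyJ hyK hx hy hxy,
    Finset.sum_const, nsmul_eq_mul]

/-- The characters over the characters of `J` are those over `ν`. -/
theorem filter_eq_cset {L J X : Subgroup G} (hLJ : L ≤ J) (hJX : J ≤ X)
    (hXJ : X ≤ Subgroup.normalizer (J : Set G)) (hp : ¬ p ∣ J.relIndex X) {ν : G → ℂ}
    (hν : IrrOn L ν) :
    (irrs X).filter (fun χ => ∃ μ ∈ cset p J L ν, mult J χ μ ≠ 0) = cset p X L ν := by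
  ext χ
  rw [Finset.mem_filter, mem_irrs, mem_cset]
  constructor
  · rintro ⟨hχ, μ, hμ, hm⟩
    obtain ⟨hμ', hd, hμν⟩ := mem_cset.1 hμ
    exact ⟨hχ, not_dvd_over hJX hXJ hp hμ' hd hχ hm,
      over_of_constituent hLJ hJX hν hχ ⟨hμ', hμν⟩ hm⟩
  · rintro ⟨hχ, hd, hm⟩
    rw [mult_trans hLJ (hχ.charOn_sub hJX) hν.charOn] at hm
    obtain ⟨μ, hμ, hne⟩ := Finset.exists_ne_zero_of_sum_ne_zero hm
    exact ⟨hχ, μ, mem_cset.2 ⟨mem_irrs.1 hμ,
      fun h => hd (h.trans (deg_dvd hJX hXJ hχ (mem_irrs.1 hμ) (left_ne_zero_of_mul hne))),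
      right_ne_zero_of_mul hne⟩, left_ne_zero_of_mul hne⟩

/-- Powers of `p` carry a product into `L`. -/
theorem pow_mem_of_sup {L S : Subgroup G} (hS : IsPGroup p S)
    (hn : S ≤ Subgroup.normalizer (L : Set G)) :
    ∀ t ∈ L ⊔ S, ∃ j : ℕ, t ^ p ^ j ∈ L := by
  intro t ht
  rw [sup_comm, ← SetLike.mem_coe, Subgroup.coe_mul_of_left_le_normalizer_right _ _ hn,
    Set.mem_mul] at ht
  obtain ⟨s, hs, l, hl, rfl⟩ := ht
  obtain ⟨j, hj⟩ := hS ⟨s, hs⟩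
  refine ⟨j, ?_⟩
  have key : ∀ n : ℕ, ∃ l' ∈ L, (s * l) ^ n = s ^ n * l' := by
    intro n
    induction n with
    | zero => exact ⟨1, one_mem L, by simp⟩
    | succ n ih =>
      obtain ⟨l', hl', e⟩ := ih
      refine ⟨s⁻¹ * l' * s * l, mul_mem ((norm_mem_iff (hn hs) l').2 hl') hl, ?_⟩
      rw [pow_succ, e, pow_succ]
      group
  obtain ⟨l', hl', e⟩ := key (p ^ j)
  have hj' : s ^ p ^ j = 1 := by simpa using congrArg Subtype.val hj
  rw [e, hj', one_mul]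
  exact hl'

/-- A layer of order prime to `p` with normal `p`-extension. -/
theorem step {X L K P S : Subgroup G} {ν : G → ℂ} (hLK : L ≤ K) (hKX : K ≤ X)
    (hXL : X ≤ Subgroup.normalizer (L : Set G)) (hXK : X ≤ Subgroup.normalizer (K : Set G))
    (hXJ : X ≤ Subgroup.normalizer ((P ⊔ K : Subgroup G) : Set G)) (hS : IsPGroup p S)
    (hSX : S ≤ X) (hSp : ¬ p ∣ S.relIndex X) (hP : P = L ⊔ S) (hcop : ¬ p ∣ L.relIndex K)
    (hν : IrrOn L ν) (hinv : ∀ g ∈ X, cj g ν = ν) (hνd : ¬ p ∣ deg ν) :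
    (cset p X L ν).card = (cset p (X ⊓ Subgroup.normalizer (P : Set G)) L ν).card := by
  set N := X ⊓ Subgroup.normalizer (P : Set G) with hN
  have hLX : L ≤ X := hLK.trans hKX
  have hLP : L ≤ P := hP ▸ le_sup_left
  have hSP : S ≤ P := hP ▸ le_sup_right
  have hPX : P ≤ X := hP ▸ sup_le hLX hSX
  have hPN : P ≤ N := le_inf hPX Subgroup.le_normalizer
  have hNX : N ≤ X := inf_le_left
  have hpT : ∀ t ∈ P, ∃ j : ℕ, t ^ p ^ j ∈ L :=
    hP ▸ pow_mem_of_sup hS (hSX.trans hXL)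
  have D : Lay p L K P ν :=
    { LK := hLK
      Knorm := hKX.trans hXL
      TnormL := hPX.trans hXL
      TnormK := hPX.trans hXK
      LT := hLP
      pT := hpT
      cop := hcop
      nu := hν
      invK := fun g hg => hinv g (hKX hg)
      invT := fun g hg => hinv g (hPX hg) }
  set C := fixPart L K P with hC
  have hCK : C ≤ K := D.fixPart_le
  have hLC : L ≤ C := D.le_fixPart
  have hPC : P ≤ Subgroup.normalizer (C : Set G) := D.norm_fixPart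
  have hNC : N ≤ Subgroup.normalizer (C : Set G) := fun g hg =>
    norm_fixPart_of_norm (hXL (hNX hg)) (hXK (hNX hg)) (Subgroup.mem_inf.1 hg).2
  -- the intersection of `P` and `K`
  have hPK : P ⊓ K = L := by
    refine le_antisymm (fun g hg => ?_) (le_inf hLP hLK)
    obtain ⟨hgP, hgK⟩ := Subgroup.mem_inf.1 hg
    obtain ⟨j, hj⟩ := hpT g hgP
    haveI : (L.subgroupOf K).Normal :=
      Subgroup.normal_subgroupOf_of_le_normalizer (hKX.trans hXL)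
    have h1 : g ^ L.relIndex K ∈ L := by
      have := Subgroup.pow_index_mem (L.subgroupOf K) ⟨g, hgK⟩
      rwa [Subgroup.mem_subgroupOf, SubgroupClass.coe_pow] at this
    have hco : Nat.gcd (p ^ j) (L.relIndex K) = 1 :=
      Nat.Coprime.pow_left j ((Fact.out : p.Prime).coprime_iff_not_dvd.2 hcop)
    have h2 := Nat.gcd_eq_gcd_ab (p ^ j) (L.relIndex K)
    rw [hco] at h2
    rw [← zpow_one g, ← Nat.cast_one, h2, zpow_add, zpow_mul, zpow_mul, zpow_natCast, zpow_natCast]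
    exact mul_mem (zpow_mem hj _) (zpow_mem h1 _)
  have hCeq : ∀ k, k ∈ C ↔ k ∈ K ∧ k ∈ Subgroup.normalizer (P : Set G) := by
    intro k
    refine ⟨fun h => ⟨hCK h, mem_normalizer_of_fix hLP (Subgroup.mem_inf.1 h).2⟩, ?_⟩
    rintro ⟨hk, hkn⟩
    refine Subgroup.mem_inf.2 ⟨hk, D.Knorm hk, fun t ht => hPK ▸ Subgroup.mem_inf.2 ⟨?_, ?_⟩⟩
    · rw [show k⁻¹ * (t * k * t⁻¹) = k⁻¹ * t * k * t⁻¹ by group]
      exact mul_mem ((norm_mem_iff hkn t).2 ht) (inv_mem ht)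
    · exact mul_mem (inv_mem hk) ((Subgroup.mem_normalizer_iff.1 (D.TnormK ht) k).1 hk)
  have hCN : C ≤ N := fun k hk => Subgroup.mem_inf.2 ⟨hKX (hCK hk), ((hCeq k).1 hk).2⟩
  set J := P ⊔ K with hJ
  set J' := P ⊔ C with hJ'
  have hKJ : K ≤ J := le_sup_right
  have hJX : J ≤ X := sup_le hPX hKX
  have hCJ' : C ≤ J' := le_sup_right
  have hJ'N : J' ≤ N := sup_le hPN hCN
  have hJ'J : J' ≤ J := sup_le_sup_left hCK _
  have hJ'K : J' ≤ Subgroup.normalizer (K : Set G) := (hJ'N.trans hNX).trans hXK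
  have hJK' : J' ⊔ K = J := by rw [hJ', sup_assoc, sup_eq_right.2 hCK]
  have hJ'iK : J' ⊓ K = C := by
    refine le_antisymm (fun g hg => ?_) (le_inf hCJ' hCK)
    obtain ⟨hg1, hg2⟩ := Subgroup.mem_inf.1 hg
    rw [← SetLike.mem_coe, hJ', Subgroup.coe_mul_of_left_le_normalizer_right _ _ hPC,
      Set.mem_mul] at hg1
    obtain ⟨t, ht, c, hc, rfl⟩ := hg1
    refine mul_mem (hLC (hPK ▸ Subgroup.mem_inf.2 ⟨ht, ?_⟩)) hc
    have := mul_mem hg2 (inv_mem (hCK hc))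
    rwa [mul_inv_cancel_right] at this
  have hNJ : ∀ g ∈ J, g ∈ N → g ∈ J' := by
    intro g hg hgN
    rw [← SetLike.mem_coe, hJ, Subgroup.coe_mul_of_left_le_normalizer_right _ _ D.TnormK,
      Set.mem_mul] at hg
    obtain ⟨t, ht, k, hk, rfl⟩ := hg
    refine mul_mem (Subgroup.mem_sup_left ht) (Subgroup.mem_sup_right ((hCeq k).2 ⟨hk, ?_⟩))
    have := mul_mem (inv_mem (Subgroup.le_normalizer ht)) (Subgroup.mem_inf.1 hgN).2
    rwa [inv_mul_cancel_left] at this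
  have hPXp : ¬ p ∣ P.relIndex X := fun h =>
    hSp (h.trans (Subgroup.relIndex_dvd_of_le_left X hSP))
  have hPNp : ¬ p ∣ P.relIndex N := fun h =>
    hPXp (h.trans (Dvd.intro _ (Subgroup.relIndex_mul_relIndex P N X hPN hNX)))
  obtain ⟨H, hCH, hHN, hHP, hHPN⟩ := exists_complement hCN hPN hNC inf_le_right
    (fun t ht => (hpT t ht).imp fun _ h => hLC h) hPNp
  have hHX : H ≤ X := hHN.trans hNX
  have hHJ'n : H ≤ Subgroup.normalizer (J' : Set G) := fun h hh =>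
    norm_sup (Subgroup.mem_inf.1 (hHN hh)).2 (hNC (hHN hh))
  have hHJ' : H ⊔ J' = N :=
    le_antisymm (sup_le hHN hJ'N) (hHPN ▸ sup_le_sup_left le_sup_left _)
  have hHiJ' : H ⊓ J' = C := by
    refine le_antisymm (fun g hg => ?_) (le_inf hCH hCJ')
    obtain ⟨hg1, hg2⟩ := Subgroup.mem_inf.1 hg
    rw [← SetLike.mem_coe, hJ', Subgroup.coe_mul_of_left_le_normalizer_right _ _ hPC,
      Set.mem_mul] at hg2
    obtain ⟨t, ht, c, hc, rfl⟩ := hg2
    refine mul_mem (hHP (Subgroup.mem_inf.2 ⟨?_, ht⟩)) hc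
    have := mul_mem hg1 (inv_mem (hCH hc))
    rwa [mul_inv_cancel_right] at this
  have hHJ : H ⊔ J = X := by
    refine le_antisymm (sup_le hHX hJX) fun g hg => ?_
    have hSJ : S ≤ J := hSP.trans le_sup_left
    have hSJp : ¬ p ∣ S.relIndex J := fun h =>
      hSp (h.trans (Dvd.intro _ (Subgroup.relIndex_mul_relIndex S J X hSJ hJX)))
    obtain ⟨h, hh, hn⟩ := exists_norm_sylow hS hSJ hSJp (g := g) fun s hs =>
      (Subgroup.mem_normalizer_iff.1 (hXJ hg) s).1 (hSJ hs)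
    have hm : h * g ∈ N := Subgroup.mem_inf.2 ⟨mul_mem (hJX hh) hg, by
      rw [hP]; exact norm_sup (hXL (mul_mem (hJX hh) hg)) hn⟩
    rw [show g = h⁻¹ * (h * g) by group]
    refine mul_mem (Subgroup.mem_sup_right (inv_mem hh)) ?_
    exact (hHJ' ▸ sup_le_sup_left hJ'J _ : N ≤ H ⊔ J) hm
  have hHiJ : H ⊓ J = C := le_antisymm
    (fun g hg => hHiJ' ▸ Subgroup.mem_inf.2 ⟨(Subgroup.mem_inf.1 hg).1,
      hNJ g (Subgroup.mem_inf.1 hg).2 (hHN (Subgroup.mem_inf.1 hg).1)⟩)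
    (le_inf hCH (hCK.trans hKJ))
  have hJXp : ¬ p ∣ J.relIndex X := fun h =>
    hPXp (h.trans (Subgroup.relIndex_dvd_of_le_left X le_sup_left))
  have hJ'Np : ¬ p ∣ J'.relIndex N := fun h =>
    hPNp (h.trans (Subgroup.relIndex_dvd_of_le_left N le_sup_left))
  have hCHp : ¬ p ∣ C.relIndex H := by
    rw [← hHiJ', ← relIndex_sup hHJ'n, hHJ']
    exact hJ'Np
  have hJK : ∃ n, K.relIndex J = p ^ n := by
    rw [hJ, relIndex_sup D.TnormK, hPK]
    exact relIndex_pow D.TnormL hpT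
  have hJC : ∃ n, C.relIndex J' = p ^ n := by
    have hPiC : P ⊓ C = L := le_antisymm (hPK ▸ inf_le_inf_left P hCK) (le_inf hLP hLC)
    rw [hJ', relIndex_sup hPC, hPiC]
    exact relIndex_pow D.TnormL hpT
  have hJn : J ≤ Subgroup.normalizer (K : Set G) := hJX.trans hXK
  have hJ'n : J' ≤ Subgroup.normalizer (C : Set G) := sup_le hPC Subgroup.le_normalizer
  -- degrees over `ν` are prime to `p`
  have hdeg : ∀ Y, L ≤ Y → Y ≤ K → ∀ θ, Over L Y ν θ → ¬ p ∣ deg θ := by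
    intro Y hLY hYK θ hθ h
    obtain ⟨b, hb, hpb⟩ := D.deg_factor hLY hYK hθ
    exact ((Fact.out : p.Prime).dvd_mul.1 (hb ▸ h)).elim hpb hνd
  have hmem : ∀ Y, L ≤ Y → Y ≤ K → ∀ θ, (θ ∈ overInv L Y P ν ↔
      IrrOn Y θ ∧ ¬ p ∣ deg θ ∧ mult L θ ν ≠ 0 ∧ ∀ g ∈ P ⊔ Y, cj g θ = θ) := by
    intro Y hLY hYK θ
    rw [mem_overInv]
    constructor
    · rintro ⟨h1, h2⟩
      refine ⟨h1.1, hdeg Y hLY hYK θ h1, h1.2, fun g hg => ?_⟩
      exact ((sup_le (fun a ha => ⟨trivial, h2 a ha⟩) fun a ha => ⟨trivial, cj_of_mem h1.1 ha⟩ :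
        P ⊔ Y ≤ iner ⊤ θ) hg).2
    · rintro ⟨h1, -, h3, h4⟩
      exact ⟨⟨h1, h3⟩, fun t ht => h4 t (Subgroup.mem_sup_left ht)⟩
  have hcard0 : (Nat.card H : ℂ) * (Nat.card C : ℂ) ≠ 0 :=
    mul_ne_zero (by exact_mod_cast Nat.card_pos.ne') (by exact_mod_cast Nat.card_pos.ne')
  have hst : ∀ Y : Subgroup G, ∀ g ∈ X, g ∈ Subgroup.normalizer (Y : Set G) →
      ∀ μ ∈ cset p Y L ν, cj g μ ∈ cset p Y L ν := by
    intro Y g hg hgY μ hμ
    obtain ⟨h1, h2, h3⟩ := mem_cset.1 hμ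
    refine mem_cset.2 ⟨h1.cj hgY, by rwa [deg_cj], ?_⟩
    conv => arg 1; arg 3; rw [← hinv g hg]
    rwa [mult_cj (hXL hg)]
  have hcX := count (hHX.trans hXJ) hHJ (cset p J L ν) (fun μ hμ => (mem_cset.1 hμ).1)
    (fun g hg => hst J g hg (hXJ hg))
  have hcN := count hHJ'n hHJ' (cset p J' L ν) (fun μ hμ => (mem_cset.1 hμ).1)
    (fun g hg => hst J' g (hNX hg) (norm_sup (Subgroup.mem_inf.1 hg).2 (hNC hg)))
  rw [filter_eq_cset (hLK.trans hKJ) hJX hXJ hJXp hν, hHiJ] at hcX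
  rw [filter_eq_cset (hLC.trans hCJ') hJ'N
    (fun g hg => norm_sup (Subgroup.mem_inf.1 hg).2 (hNC hg)) hJ'Np hν, hHiJ'] at hcN
  apply Nat.cast_injective (R := ℂ)
  refine mul_right_cancel₀ hcard0 (hcX.trans (Eq.trans ?_ hcN.symm))
  refine Finset.sum_congr rfl fun x hx => Finset.sum_congr rfl fun y hy => ?_
  rw [mem_mems] at hx hy
  have hxyH : x * y * x⁻¹ * y⁻¹ ∈ H := mul_mem (mul_mem (mul_mem hx hy) (inv_mem hx)) (inv_mem hy)
  have hiff : x * y * x⁻¹ * y⁻¹ ∈ J ↔ x * y * x⁻¹ * y⁻¹ ∈ J' :=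
    ⟨fun h => hCJ' (hHiJ ▸ Subgroup.mem_inf.2 ⟨hxyH, h⟩), fun h => hJ'J h⟩
  by_cases hc : x * y * x⁻¹ * y⁻¹ ∈ J'
  swap
  · rw [if_neg (mt hiff.1 hc), if_neg hc]
  rw [if_pos (hiff.2 hc), if_pos hc]
  have hxyC : x * y * x⁻¹ * y⁻¹ ∈ C := hHiJ' ▸ Subgroup.mem_inf.2 ⟨hxyH, hc⟩
  have hnL : ∀ {z}, z ∈ H → z ∈ Subgroup.normalizer (L : Set G) := fun hz => hXL (hHX hz)
  have hnK : ∀ {z}, z ∈ H → z ∈ Subgroup.normalizer (K : Set G) := fun hz => hXK (hHX hz)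
  have hnP : ∀ {z}, z ∈ H → z ∈ Subgroup.normalizer (P : Set G) := fun hz =>
    (Subgroup.mem_inf.1 (hHN hz)).2
  have hnC : ∀ {z}, z ∈ H → z ∈ Subgroup.normalizer (C : Set G) := fun hz => hNC (hHN hz)
  have hnJ : ∀ {z}, z ∈ H → z ∈ Subgroup.normalizer (J : Set G) := fun hz => hXJ (hHX hz)
  rw [sum_W hLK hKJ hJn hJK (overInv L K P ν) (hmem K hLK le_rfl) (hnJ hx) (hnK hx) (hnJ hy)
      (hnK hy) (hCK hxyC),
    sum_W hLC hCJ' hJ'n hJC (overInv L C P ν) (hmem C hLC hCK) (hHJ'n hx) (hnC hx) (hHJ'n hy)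
      (hnC hy) hxyC]
  haveI : (C.subgroupOf H).Normal :=
    Subgroup.normal_subgroupOf_of_le_normalizer fun z hz => hnC hz
  have hord : ∀ z ∈ H, ∃ o : ℕ, ¬ p ∣ o ∧ z ^ o ∈ fixPart L K P := by
    intro z hz
    refine ⟨C.relIndex H, hCHp, ?_⟩
    have := Subgroup.pow_index_mem (C.subgroupOf H) ⟨z, hz⟩
    rwa [Subgroup.mem_subgroupOf, SubgroupClass.coe_pow] at this
  refine Finset.sum_bij (fun θ hθ => D.down (Finset.mem_filter.1 hθ).1) ?_ ?_ ?_ ?_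
  · intro θ hθ
    obtain ⟨h, hxθ, hyθ⟩ := Finset.mem_filter.1 hθ
    exact Finset.mem_filter.2 ⟨D.down_mem h,
      D.down_fixed h (hnL hx) (hnK hx) (hnP hx) (hinv x (hHX hx)) hxθ,
      D.down_fixed h (hnL hy) (hnK hy) (hnP hy) (hinv y (hHX hy)) hyθ⟩
  · intro θ hθ θ' hθ' e
    refine D.above_unique (Finset.mem_filter.1 hθ).1 (Finset.mem_filter.1 hθ').1
      (D.down_mem (Finset.mem_filter.1 hθ).1) (D.down_spec _) ?_
    rw [e]
    exact D.down_spec _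
  · intro β hβ
    obtain ⟨hβ0, hxβ, hyβ⟩ := Finset.mem_filter.1 hβ
    obtain ⟨θ, hθ, hm⟩ := D.exists_above hβ0
    have hfix : ∀ z ∈ H, cj z β = β → cj z θ = θ := fun z hz hzβ => by
      refine D.above_unique (Lay.cj_mem_overInv (hnK hz) (hnL hz) (hnP hz) (hinv z (hHX hz)) hθ)
        hθ hβ0 ?_ hm
      conv => arg 1; arg 2; arg 3; rw [← hzβ]
      rw [mult_cj (hnC hz)]
      exact hm
    exact ⟨θ, Finset.mem_filter.2 ⟨hθ, hfix x hx hxβ, hfix y hy hyβ⟩,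
      D.below_unique hθ (D.down_mem hθ) hβ0 (D.down_spec hθ) hm⟩
  · intro θ hθ
    obtain ⟨h, hxθ, hyθ⟩ := Finset.mem_filter.1 hθ
    obtain ⟨hθi, -, -, hθJ⟩ := (hmem K hLK le_rfl θ).1 h
    obtain ⟨hβi, -, -, hβJ⟩ := (hmem C hLC hCK _).1 (D.down_mem h)
    set β := D.down h with hβ
    have hop : ∀ z ∈ H, cj z θ = θ → Op p L K P ν θ z := fun z hz hzθ =>
      ⟨hnL hz, hnK hz, hnP hz, hinv z (hHX hz), hzθ, hord z hz⟩
    rw [D.W_down h (hop x hx hxθ) (hop y hy hyθ) hxyC]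
    congr 2
    have hiffE := ext_iff hJK' hJ'iK hJ'K hJK hJC hθi hβi
      (fun g hg => hθJ g (hJ'J hg)) (fun g hg => hβJ g hg) (D.down_spec h)
    by_cases hE : ∃ μ, IrrOn J μ ∧ ∀ k ∈ K, μ k = θ k
    · obtain ⟨μ, hμ, hres⟩ := hE
      obtain ⟨η, hη, hres'⟩ := hiffE.1 ⟨μ, hμ, hres⟩
      set U := iner H θ with hU
      have hUH : U ≤ H := iner_le H θ
      have hCU : C ≤ U := fun c hc => ⟨hCH hc, cj_of_mem hθi (hCK hc)⟩
      have hUp : ¬ p ∣ C.relIndex U := fun hd =>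
        hCHp (hd.trans (Dvd.intro _ (Subgroup.relIndex_mul_relIndex C U H hCU hUH)))
      obtain ⟨μ0, hμ0, hres0, hfix0⟩ := exists_fixed_ext hKJ hJn hJK hθi hμ hres
        (fun z hz => hnJ (hUH hz)) (fun z hz => hnK (hUH hz)) (fun z hz => hz.2)
        (hCK.trans hKJ) (fun z hz => hnC (hUH hz)) hUp
      obtain ⟨η0, hη0, hres1, hfix1⟩ := exists_fixed_ext hCJ' hJ'n hJC hβi hη hres'
        (fun z hz => hHJ'n (hUH hz)) (fun z hz => hnC (hUH hz))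
        (fun z hz => D.down_fixed h (hnL (hUH hz)) (hnK (hUH hz)) (hnP (hUH hz))
          (hinv z (hHX (hUH hz))) hz.2) hCJ' (fun z hz => hnC (hUH hz)) hUp
      rw [card_fixed_ext hKJ hJn hθi hμ0 hres0 (hfix0 x ⟨hx, hxθ⟩) (hfix0 y ⟨hy, hyθ⟩)
          (hnJ hx) (hnK hx) (hnJ hy) (hnK hy),
        card_fixed_ext hCJ' hJ'n hβi hη0 hres1 (hfix1 x ⟨hx, hxθ⟩) (hfix1 y ⟨hy, hyθ⟩)
          (hHJ'n hx) (hnC hx) (hHJ'n hy) (hnC hy),
        card_lin_res hJK' hJ'iK hJ'K (hnJ hx) (hHJ'n hx) (hnK hx) (hnJ hy) (hHJ'n hy) (hnK hy)]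
    · rw [Finset.card_eq_zero.2, Finset.card_eq_zero.2]
      · refine Finset.eq_empty_of_forall_notMem fun η hη => hE (hiffE.2 ?_)
        rw [Finset.mem_filter, mem_irrs] at hη
        exact ⟨η, hη.1, hη.2.1⟩
      · refine Finset.eq_empty_of_forall_notMem fun η hη => hE ?_
        rw [Finset.mem_filter, mem_irrs] at hη
        exact ⟨η, hη.1, hη.2.1⟩

end CfsgLib.RelMcKay
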